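import Cfsg.Agent.Coherence.Fixed
import Cfsg.Agent.Lib.CharCore.Linear
import Cfsg.Agent.Lib.CharCore.Complete
import Cfsg.Agent.Lib.CharClifford.Central
import Mathlib.GroupTheory.Solvable

/-!
# The sets `inducedIrrAbove K A` and their weighted degree sums
-/

set_option autoImplicit false

namespace Cfsg.Agent.Coherence

open OddChar
open scoped ComplexConjugate

universe u

section Kernel

variable {G : Type u} [Group G] [Fintype G]

/-- Constituents of a character with `b` in its kernel have `b` in their kernels. -/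
theorem constituent_apply_eq {r : G → ℂ} (hr : IsCharacter G r) {b : G} (hb : r b = r 1)
    (lam : IrrCharacter G) (hl : classInner r lam ≠ 0) : (lam : G → ℂ) b = (lam : G → ℂ) 1 := by
  classical
  obtain ⟨m, hm⟩ := CharCore.IsCharacter.exists_sum hr
  have hml : 0 < m lam := Nat.pos_of_ne_zero fun h => hl (by
    rw [hm, CharCore.classInner_sum_all, h, Nat.cast_zero])
  have hle : ∀ ψ ∈ (Finset.univ : Finset (IrrCharacter G)),
      (m ψ : ℝ) * ((ψ : G → ℂ) b).re ≤ (m ψ : ℝ) * ((ψ : G → ℂ) 1).re := by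
    intro ψ _
    obtain ⟨d, hd⟩ := CharCore.IsCharacter.exists_degree (CharCore.irr_isCharacter ψ)
    have := CharCore.IsCharacter.norm_apply_le (CharCore.irr_isCharacter ψ) b
    rw [hd, Complex.norm_natCast] at this
    rw [hd, Complex.natCast_re]
    exact mul_le_mul_of_nonneg_left ((Complex.re_le_norm _).trans this) (Nat.cast_nonneg _)
  have he : ∑ ψ, (m ψ : ℝ) * ((ψ : G → ℂ) b).re = ∑ ψ, (m ψ : ℝ) * ((ψ : G → ℂ) 1).re := by
    have h := congrArg Complex.re hb
    rw [hm] at h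
    simpa [Finset.sum_apply, Complex.re_sum, Complex.mul_re] using h
  have h1 := (Finset.sum_eq_sum_iff_of_le hle).1 he lam (Finset.mem_univ _)
  have h2 : ((lam : G → ℂ) b).re = ((lam : G → ℂ) 1).re :=
    mul_left_cancel₀ (Nat.cast_ne_zero.2 hml.ne') h1
  obtain ⟨d, hd⟩ := CharCore.IsCharacter.exists_degree (CharCore.irr_isCharacter lam)
  have h3 := CharCore.IsCharacter.norm_apply_le (CharCore.irr_isCharacter lam) b
  rw [hd, Complex.norm_natCast] at h3
  rw [hd, Complex.natCast_re] at h2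
  have h4 := Complex.abs_re_le_norm ((lam : G → ℂ) b)
  have h6 := Complex.re_le_norm ((lam : G → ℂ) b)
  have h5 : ((lam : G → ℂ) b).im = 0 := by
    have hn : ‖(lam : G → ℂ) b‖ = d := le_antisymm h3 (by linarith)
    have := Complex.sq_norm ((lam : G → ℂ) b)
    rw [hn, Complex.normSq_apply, h2] at this
    exact mul_self_eq_zero.1 (by nlinarith)
  rw [hd]
  exact Complex.ext (by rw [h2, Complex.natCast_re]) (by rw [h5, Complex.natCast_im])

/-- `ψ(1)^2 |C| |D| ≤ |G|^2` when `D/B` is central in `C/B` and `B` is in the kernel of `ψ`. -/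
theorem degree_bound {ψ : G → ℂ} (hψ : IsIrrCharacter G ψ) (B D C : Subgroup G) (hDC : D ≤ C)
    (hcomm : ∀ x ∈ D, ∀ y ∈ C, x * y * x⁻¹ * y⁻¹ ∈ B) (hker : ∀ b ∈ B, ψ b = ψ 1) :
    (ψ 1).re ^ 2 * Nat.card C * Nat.card D ≤ (Nat.card G : ℝ) ^ 2 := by
  classical
  set r : C → ℂ := fun c => ψ c with hr
  have hψc := irr_isCharacter hψ
  have hrc : IsCharacter C r := CharCore.isCharacter_restrict hψc C
  have hr0 : r ≠ 0 := fun h => irr_one_ne_zero hψ (congrFun h 1)
  obtain ⟨lam, hlam⟩ : ∃ lam : IrrCharacter C, classInner r lam ≠ 0 := by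
    by_contra hall
    push Not at hall
    refine hr0 ?_
    rw [CharCore.IsCharacter.eq_sum_classInner hrc]
    exact Finset.sum_eq_zero fun χ _ => by rw [hall χ, zero_smul]
  obtain ⟨k, σ, hσ, hl⟩ := lam.2
  haveI := hσ
  have hkerl : ∀ c : C, (c : G) ∈ B → σ c = 1 := by
    intro c hc
    have h := constituent_apply_eq hrc (b := c) (hker c hc) lam hlam
    rw [← hl, Representation.char_one] at h
    exact (CharCore.character_eq_finrank_iff σ c).1 h
  have hscal : ∀ d : C, (d : G) ∈ D → ‖(lam : C → ℂ) d‖ ^ 2 = ((lam : C → ℂ) 1).re ^ 2 := by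
    intro d hd
    have hc : ∀ y : C, Commute (σ d) (σ y) := by
      intro y
      have h1 := hkerl (d * y * d⁻¹ * y⁻¹) (hcomm d hd y y.2)
      have h2 : d * y = (d * y * d⁻¹ * y⁻¹) * (y * d) := by group
      show σ d * σ y = σ y * σ d
      rw [← map_mul, ← map_mul, h2, map_mul, h1, one_mul]
    obtain ⟨a, ha⟩ := CharClifford.exists_scalar_of_commute σ (σ d) hc
    have hn : ‖a‖ = 1 := by
      refine Complex.norm_eq_one_of_pow_eq_one (n := orderOf d) ?_ (orderOf_pos d).ne'
      have h := congrArg σ (pow_orderOf_eq_one d)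
      rw [map_pow, map_one, ha, smul_pow, one_pow] at h
      have hk : 0 < Module.finrank ℂ (Fin k → ℂ) := CharClifford.finrank_pos_of_irreducible σ
      have h' := congrArg (LinearMap.trace ℂ (Fin k → ℂ)) h
      rw [map_smul, LinearMap.trace_one, smul_eq_mul] at h'
      exact mul_right_cancel₀ (Nat.cast_ne_zero.2 hk.ne') (by rw [h', one_mul])
    rw [← hl, Representation.char_one, Representation.character,
      CharClifford.scalar_eq_of_trace ha, norm_mul, hn, one_mul, Complex.norm_natCast,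
      Complex.natCast_re]
  have hsumsq : ((lam : C → ℂ) 1).re ^ 2 * Nat.card D ≤ (Nat.card C : ℝ) := by
    have h1 : normSqFn (lam : C → ℂ) = 1 := by
      apply Complex.ofReal_injective
      rw [← inner_self, irr_inner_self lam.2]; simp
    rw [normSqFn, inv_mul_eq_one₀ (Nat.cast_ne_zero.2 Nat.card_pos.ne')] at h1
    rw [h1]
    refine le_trans (le_of_eq ?_) (Finset.sum_le_sum_of_subset_of_nonneg
      (Finset.subset_univ (Finset.univ.filter fun d : C => (d : G) ∈ D)) fun _ _ _ => sq_nonneg _)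
    rw [Finset.sum_congr rfl fun d hd => hscal d (Finset.mem_filter.1 hd).2, Finset.sum_const,
      nsmul_eq_mul, ← Fintype.card_subtype, ← Nat.card_eq_fintype_card,
      show Nat.card {d : C // (d : G) ∈ D} = Nat.card D from
        Nat.card_congr (Subgroup.subgroupOfEquivOfLe hDC).toEquiv]
    ring
  have hdeg : (ψ 1).re ≤ (C.index : ℝ) * ((lam : C → ℂ) 1).re := by
    have hic : IsCharacter G (indFun C (lam : C → ℂ)) :=
      CharInd.isCharacter_indFun C (CharCore.irr_isCharacter lam)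
    obtain ⟨m, hm⟩ := CharCore.IsCharacter.exists_sum hic
    have hm0 : 1 ≤ m ⟨ψ, hψ⟩ := by
      refine Nat.one_le_iff_ne_zero.2 fun h0 => hlam ?_
      have h := CharCore.classInner_sum_all (fun χ => (m χ : ℂ)) ⟨ψ, hψ⟩
      rw [← hm, h0, Nat.cast_zero, CharInd.classInner_indFun_left C _
        (CharCore.IsCharacter.isClassFunction hψc)] at h
      rw [← inner_conj_symm, h, map_zero]
    have h1 : (C.index : ℝ) * ((lam : C → ℂ) 1).re =
        ∑ χ : IrrCharacter G, (m χ : ℝ) * ((χ : G → ℂ) 1).re := by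
      have h := congrArg Complex.re (congrFun hm 1)
      rw [CharInd.indFun_apply_one] at h
      simpa [Finset.sum_apply, Complex.re_sum, Complex.mul_re] using h
    have hnn : ∀ χ : IrrCharacter G, 0 ≤ ((χ : G → ℂ) 1).re := fun χ => by
      obtain ⟨d, hd⟩ := CharCore.IsCharacter.exists_degree (CharCore.irr_isCharacter χ)
      simp [hd]
    rw [h1]
    refine le_trans ?_ (Finset.single_le_sum
      (fun χ _ => mul_nonneg (Nat.cast_nonneg _) (hnn χ)) (Finset.mem_univ ⟨ψ, hψ⟩))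
    exact le_mul_of_one_le_left (hnn ⟨ψ, hψ⟩) (by exact_mod_cast hm0)
  have hCpos : 0 < (Nat.card C : ℝ) := Nat.cast_pos.2 Nat.card_pos
  have hψnn : 0 ≤ (ψ 1).re := by
    obtain ⟨d, hd⟩ := CharCore.IsCharacter.exists_degree hψc
    simp [hd]
  have hidx : (C.index : ℝ) * Nat.card C = Nat.card G := by exact_mod_cast C.index_mul_card
  have h1 : ((ψ 1).re * Nat.card C) ^ 2 ≤ ((Nat.card G : ℝ) * ((lam : C → ℂ) 1).re) ^ 2 := by
    refine pow_le_pow_left₀ (by positivity) ?_ 2
    rw [← hidx]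
    nlinarith
  refine le_of_mul_le_mul_right ?_ hCpos
  calc (ψ 1).re ^ 2 * Nat.card C * Nat.card D * Nat.card C
      = ((ψ 1).re * Nat.card C) ^ 2 * Nat.card D := by ring
    _ ≤ ((Nat.card G : ℝ) * ((lam : C → ℂ) 1).re) ^ 2 * Nat.card D :=
        mul_le_mul_of_nonneg_right h1 (Nat.cast_nonneg _)
    _ = (Nat.card G : ℝ) ^ 2 * (((lam : C → ℂ) 1).re ^ 2 * Nat.card D) := by ring
    _ ≤ (Nat.card G : ℝ) ^ 2 * Nat.card C := mul_le_mul_of_nonneg_left hsumsq (sq_nonneg _)

end Kernel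

section SeqInd

variable {L : Type u} [Group L] [Fintype L] (K : Subgroup L)

/-- `θ` has `A ⊓ K` in its kernel. -/
def TrivOn (A : Subgroup L) (θ : K → ℂ) : Prop := ∀ a : K, (a : L) ∈ A → θ a = θ 1

open Classical in
/-- The non-principal irreducible characters of `K` trivial on `A ⊓ K`. -/
noncomputable def irrNP (A : Subgroup L) : Finset (IrrCharacter K) :=
  Finset.univ.filter fun θ => (θ : K → ℂ) ≠ (fun _ => 1) ∧ TrivOn K A θ

theorem mem_irrNP {A : Subgroup L} {θ : IrrCharacter K} :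
    θ ∈ irrNP K A ↔ (θ : K → ℂ) ≠ (fun _ => 1) ∧ TrivOn K A θ := by
  simp [irrNP]

open Classical in
/-- `inducedIrrAbove K A` as a finset. -/
noncomputable def seqFinset (A : Subgroup L) : Finset (L → ℂ) :=
  (irrNP K A).image fun θ : IrrCharacter K => indFun K (θ : K → ℂ)

theorem mem_seqFinset {A : Subgroup L} {φ : L → ℂ} :
    φ ∈ seqFinset K A ↔ ∃ θ ∈ irrNP K A, indFun K (θ : K → ℂ) = φ := by
  classical
  simp only [seqFinset, Finset.mem_image]

theorem coe_seqFinset (A : Subgroup L) :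
    (↑(seqFinset K A) : Set (L → ℂ)) = inducedIrrAbove K A := by
  ext φ
  rw [Finset.mem_coe, mem_seqFinset]
  constructor
  · rintro ⟨θ, hθ, rfl⟩
    obtain ⟨h1, h2⟩ := (mem_irrNP K).1 hθ
    exact ⟨θ, θ.2, h1, h2, rfl⟩
  · rintro ⟨θ, h0, h1, h2, rfl⟩
    exact ⟨⟨θ, h0⟩, (mem_irrNP K).2 ⟨h1, h2⟩, rfl⟩

theorem mem_seq_iff {A : Subgroup L} {φ : L → ℂ} :
    φ ∈ inducedIrrAbove K A ↔ ∃ θ ∈ irrNP K A, indFun K (θ : K → ℂ) = φ := by
  rw [← coe_seqFinset, Finset.mem_coe, mem_seqFinset]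

theorem seq_subset {A B : Subgroup L} (h : ∀ x ∈ K, x ∈ B → x ∈ A) :
    inducedIrrAbove K A ⊆ inducedIrrAbove K B := by
  rintro φ ⟨θ, h0, h1, h2, h3⟩
  exact ⟨θ, h0, h1, fun a ha => h2 a (h a a.2 ha), h3⟩

theorem seq_subset_bot (A : Subgroup L) : inducedIrrAbove K A ⊆ inducedIrrAbove K ⊥ :=
  seq_subset K fun x _ hx => by rw [Subgroup.mem_bot.1 hx]; exact A.one_mem

theorem seq_isCharacter {A : Subgroup L} {φ : L → ℂ} (h : φ ∈ inducedIrrAbove K A) :
    IsCharacter L φ := by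
  obtain ⟨θ, h0, -, -, rfl⟩ := h
  exact CharInd.isCharacter_indFun K (irr_isCharacter h0)

theorem conjFun_indFun (θ : K → ℂ) : conjFun (indFun K θ) = indFun K (conjFun θ) := by
  funext g
  simp only [conjFun, CharInd.indFun_apply, map_mul, map_sum, map_inv₀, map_natCast]
  congr 1
  refine Finset.sum_congr rfl fun x _ => ?_
  by_cases h : x⁻¹ * g * x ∈ K
  · rw [CharInd.extendByZero_mem _ h, CharInd.extendByZero_mem _ h]; rfl
  · rw [CharInd.extendByZero_notMem _ h, CharInd.extendByZero_notMem _ h, map_zero]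

theorem seq_conj {A : Subgroup L} {φ : L → ℂ} (h : φ ∈ inducedIrrAbove K A) :
    conjFun φ ∈ inducedIrrAbove K A := by
  obtain ⟨θ, h0, h1, h2, rfl⟩ := h
  refine ⟨conjFun θ, CharCore.isIrrCharacter_star h0, fun e => h1 ?_,
    fun a ha => by simp [conjFun, h2 a ha], conjFun_indFun K θ⟩
  funext x
  have := congrFun e x
  simpa [conjFun] using congrArg conj this

theorem ind_one_re (θ : IrrCharacter K) :
    (indFun K (θ : K → ℂ) 1).re = (K.index : ℝ) * ((θ : K → ℂ) 1).re := by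
  simp [CharInd.indFun_apply_one]

theorem ind_ne_zero (θ : IrrCharacter K) : indFun K (θ : K → ℂ) ≠ 0 := fun h => by
  haveI := Fintype.ofFinite K
  have h1 := congrFun h 1
  rw [CharInd.indFun_apply_one, Pi.zero_apply, mul_eq_zero] at h1
  exact h1.elim (by exact_mod_cast Subgroup.index_ne_zero_of_finite) (irr_one_ne_zero θ.2)

variable [hN : K.Normal]

theorem conjBy_apply_one (g : L) (θ : K → ℂ) : conjBy K g θ 1 = θ 1 := by
  exact congrArg θ (Subtype.ext (by simp))

/-- Conjugation as a map on irreducible characters of `K`. -/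
noncomputable def conjIrr (g : L) (θ : IrrCharacter K) : IrrCharacter K :=
  ⟨conjBy K g θ.1, conjBy_isIrr K g θ.2⟩

theorem conjIrr_mem {A : Subgroup L} [A.Normal] {θ : IrrCharacter K} (h : θ ∈ irrNP K A) (g : L) :
    conjIrr K g θ ∈ irrNP K A := by
  obtain ⟨h1, h2⟩ := (mem_irrNP K).1 h
  refine (mem_irrNP K).2 ⟨fun e => h1 ?_, fun a ha => ?_⟩
  · have : conjBy K g⁻¹ (conjBy K g θ.1) = θ.1 := by
      rw [← conjBy_mul, mul_inv_cancel, conjBy_one]
    rw [← this, show conjBy K g θ.1 = _ from e]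
    rfl
  · show conjBy K g θ.1 a = conjBy K g θ.1 1
    rw [conjBy_apply_one]
    exact h2 _ (Subgroup.Normal.conj_mem ‹A.Normal› a ha g)

theorem ind_eq_iff (θ ψ : IrrCharacter K) :
    indFun K (θ : K → ℂ) = indFun K (ψ : K → ℂ) ↔ ∃ g, θ = conjIrr K g ψ := by
  haveI := Fintype.ofFinite K
  refine ⟨fun h => ?_, fun ⟨g, hg⟩ => ?_⟩
  · by_contra hne
    refine ind_ne_zero K θ (inner_self_eq_zero.1 ?_)
    conv_lhs => arg 2; rw [h]
    rw [classInner_indFun_normal, Finset.sum_eq_zero, mul_zero]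
    intro g _
    exact irr_inner_ne θ.2 (conjBy_isIrr K g ψ.2) fun e => hne ⟨g, Subtype.ext e⟩
  · rw [hg]; exact indFun_conjBy K g ψ.1

open Classical in
theorem normSq_ind (θ : IrrCharacter K) :
    normSqFn (indFun K (θ : K → ℂ)) =
      ((Finset.univ.filter fun g : L => conjIrr K g θ = θ).card : ℝ) / Nat.card K := by
  haveI := Fintype.ofFinite K
  apply Complex.ofReal_injective
  rw [← inner_self, classInner_indFun_normal]
  have hterm : ∀ g : L, classInner (θ : K → ℂ) (conjBy K g θ) =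
      if conjIrr K g θ = θ then 1 else 0 := by
    intro g
    split_ifs with h
    · rw [show conjBy K g θ.1 = θ.1 from congrArg Subtype.val h, irr_inner_self θ.2]
    · exact irr_inner_ne θ.2 (conjBy_isIrr K g θ.2) fun e => h (Subtype.ext e.symm)
  rw [Finset.sum_congr rfl (fun g _ => hterm g), ← Finset.natCast_card_filter]
  push_cast
  rw [div_eq_inv_mul]
  congr! 3
  ext g; simp

open Classical in
theorem normSq_ind_pos (θ : IrrCharacter K) : 0 < normSqFn (indFun K (θ : K → ℂ)) :=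
  normSqFn_pos (ind_ne_zero K θ)

open Classical in
theorem sum_seq (A : Subgroup L) [A.Normal] :
    ∑ φ ∈ seqFinset K A, (φ 1).re ^ 2 / normSqFn φ =
      (K.index : ℝ) * ∑ θ ∈ irrNP K A, ((θ : K → ℂ) 1).re ^ 2 := by
  rw [← Finset.sum_fiberwise_of_maps_to (t := seqFinset K A)
    (g := fun θ : IrrCharacter K => indFun K (θ : K → ℂ))
    (fun θ hθ => (mem_seqFinset K).2 ⟨θ, hθ, rfl⟩), Finset.mul_sum]
  refine Finset.sum_congr rfl fun φ hφ => ?_
  obtain ⟨θ, hθ, rfl⟩ := (mem_seqFinset K).1 hφ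
  set F := (irrNP K A).filter fun ψ : IrrCharacter K => indFun K (ψ : K → ℂ) = indFun K θ.1
  set s := (Finset.univ.filter fun g : L => conjIrr K g θ = θ).card with hs
  have hmaps : ∀ g ∈ (Finset.univ : Finset L), conjIrr K g θ ∈ F := fun g _ =>
    Finset.mem_filter.2 ⟨conjIrr_mem K hθ g, indFun_conjBy K g θ.1⟩
  have hfib : ∀ ψ ∈ F, (Finset.univ.filter fun g : L => conjIrr K g θ = ψ).card = s := by
    intro ψ hψ
    obtain ⟨g₀, hg₀⟩ := (ind_eq_iff K ψ θ).1 (Finset.mem_filter.1 hψ).2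
    refine Finset.card_bij' (fun g _ => g * g₀⁻¹) (fun g _ => g * g₀) ?_ ?_
      (fun g _ => by group) (fun g _ => by group)
    · intro g hg
      simp only [Finset.mem_filter, Finset.mem_univ, true_and] at hg ⊢
      refine Subtype.ext ?_
      show conjBy K (g * g₀⁻¹) θ.1 = θ.1
      rw [conjBy_mul, show conjBy K g θ.1 = ψ.1 from congrArg Subtype.val hg,
        show ψ.1 = conjBy K g₀ θ.1 from congrArg Subtype.val hg₀, ← conjBy_mul, mul_inv_cancel,
        conjBy_one]
    · intro g hg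
      simp only [Finset.mem_filter, Finset.mem_univ, true_and] at hg ⊢
      refine Subtype.ext ?_
      show conjBy K (g * g₀) θ.1 = ψ.1
      rw [conjBy_mul, show conjBy K g θ.1 = θ.1 from congrArg Subtype.val hg, hg₀]
      rfl
  have hcard : Fintype.card L = F.card * s := by
    have := Finset.card_eq_sum_card_fiberwise hmaps
    rw [Finset.card_univ, Finset.sum_congr rfl hfib, Finset.sum_const, smul_eq_mul] at this
    exact this
  have hval : ∀ ψ ∈ F, ((ψ : K → ℂ) 1).re ^ 2 = ((θ : K → ℂ) 1).re ^ 2 := by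
    intro ψ hψ
    obtain ⟨g₀, hg₀⟩ := (ind_eq_iff K ψ θ).1 (Finset.mem_filter.1 hψ).2
    rw [hg₀]; show (conjBy K g₀ θ.1 1).re ^ 2 = _; rw [conjBy_apply_one]
  rw [Finset.sum_congr rfl hval, Finset.sum_const, nsmul_eq_mul, ind_one_re, normSq_ind, ← hs]
  have hK : (Nat.card K : ℝ) ≠ 0 := Nat.cast_ne_zero.2 Nat.card_pos.ne'
  have hs0 : (s : ℝ) ≠ 0 := by
    refine Nat.cast_ne_zero.2 fun h => ?_
    rw [h, mul_zero] at hcard
    exact Fintype.card_ne_zero hcard
  have h2 : (K.index : ℝ) * Nat.card K = (F.card : ℝ) * s := by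
    rw [← Nat.cast_mul, K.index_mul_card, Nat.card_eq_fintype_card, hcard, Nat.cast_mul]
  field_simp
  linear_combination ((K.index : ℝ) * ((θ : K → ℂ) 1).re ^ 2) * h2

open Classical in
theorem sum_irrNP (A : Subgroup L) [A.Normal] :
    ∑ θ ∈ irrNP K A, ((θ : K → ℂ) 1).re ^ 2 = (A.relIndex K : ℝ) - 1 := by
  set N := A.subgroupOf K
  haveI : N.Normal := Subgroup.normal_subgroupOf
  haveI := Fintype.ofFinite (K ⧸ N)
  let one : IrrCharacter K := ⟨fun _ => 1, CharCore.isIrrCharacter_one⟩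
  set T := Finset.univ.filter fun θ : IrrCharacter K => TrivOn K A (θ : K → ℂ)
  have h1T : one ∈ T := Finset.mem_filter.2 ⟨Finset.mem_univ _, fun _ _ => rfl⟩
  have hTe : irrNP K A = T.erase one := by
    ext θ
    rw [mem_irrNP, Finset.mem_erase, Finset.mem_filter]
    exact ⟨fun h => ⟨fun e => h.1 (congrArg Subtype.val e), Finset.mem_univ _, h.2⟩,
      fun h => ⟨fun e => h.1 (Subtype.ext e), h.2.2⟩⟩
  rw [hTe, Finset.sum_erase_eq_sub h1T]
  have hone : ((one : K → ℂ) 1).re ^ 2 = 1 := by simp [one]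
  rw [hone]
  congr 1
  let infl : IrrCharacter (K ⧸ N) → IrrCharacter K := fun χ =>
    ⟨fun k => (χ : K ⧸ N → ℂ) (QuotientGroup.mk' N k),
      CharCore.isIrrCharacter_comp_surjective χ.2 _ (QuotientGroup.mk'_surjective N)⟩
  have himg : T = Finset.univ.image infl := by
    ext θ
    constructor
    · intro hθ
      obtain ⟨ψ, -, hψ, he⟩ := CharCore.IsCharacter.exists_quotient (CharCore.irr_isCharacter θ) N
        (fun k hk => (Finset.mem_filter.1 hθ).2 k hk)
      exact Finset.mem_image.2 ⟨⟨ψ, hψ θ.2⟩, Finset.mem_univ _,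
        Subtype.ext (funext fun k => (he k).symm)⟩
    · intro h
      obtain ⟨χ, -, rfl⟩ := Finset.mem_image.1 h
      refine Finset.mem_filter.2 ⟨Finset.mem_univ _, fun a ha => ?_⟩
      show (χ : K ⧸ N → ℂ) (QuotientGroup.mk' N a) = (χ : K ⧸ N → ℂ) (QuotientGroup.mk' N 1)
      rw [show QuotientGroup.mk' N a = 1 from (QuotientGroup.eq_one_iff a).2 ha, map_one]
  have hinj : Function.Injective infl := fun χ χ' h => Subtype.ext (funext fun q => by
    obtain ⟨k, rfl⟩ := QuotientGroup.mk'_surjective N q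
    exact congrFun (congrArg Subtype.val h) k)
  rw [himg, Finset.sum_image hinj.injOn]
  have h := congrArg Complex.re (CharCore.sum_degree_sq (G := K ⧸ N))
  rw [Complex.re_sum, Complex.natCast_re] at h
  refine Eq.trans (Finset.sum_congr rfl fun χ _ => ?_) h
  obtain ⟨d, hd⟩ := CharCore.IsCharacter.exists_degree (CharCore.irr_isCharacter χ)
  show ((χ : K ⧸ N → ℂ) 1).re ^ 2 = _
  rw [hd, sq, sq]
  simp

theorem exists_linear (hsolv : Group.IsSolvable K) (A : Subgroup L) [A.Normal] (hA : ¬ K ≤ A) :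
    ∃ θ ∈ irrNP K A, (θ : K → ℂ) 1 = 1 := by
  set N := A.subgroupOf K
  haveI : N.Normal := Subgroup.normal_subgroupOf
  haveI : Nontrivial (K ⧸ N) := QuotientGroup.nontrivial_iff.2
    (fun h => hA (Subgroup.subgroupOf_eq_top.1 h))
  haveI := hsolv
  haveI : Group.IsSolvable (K ⧸ N) :=
    solvable_of_surjective (QuotientGroup.mk'_surjective N)
  have hlt := Group.IsSolvable.commutator_lt_top_of_nontrivial (K ⧸ N)
  haveI := Fintype.ofFinite (K ⧸ N)
  have hidx : 1 < (commutator (K ⧸ N)).index := by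
    have h0 := Subgroup.index_ne_zero_of_finite (H := commutator (K ⧸ N))
    have h1 : (commutator (K ⧸ N)).index ≠ 1 := fun h => hlt.ne (Subgroup.index_eq_one.1 h)
    omega
  rw [← CharCore.card_linearCharacters] at hidx
  haveI := Finite.one_lt_card_iff_nontrivial.1 hidx
  obtain ⟨⟨χ, hχ1⟩, hne⟩ := exists_ne
    (⟨⟨1, CharCore.isIrrCharacter_one⟩, rfl⟩ :
      {χ : IrrCharacter (K ⧸ N) // (χ : K ⧸ N → ℂ) 1 = 1})
  refine ⟨⟨fun k => (χ : K ⧸ N → ℂ) (QuotientGroup.mk' N k),
    CharCore.isIrrCharacter_comp_surjective χ.2 _ (QuotientGroup.mk'_surjective N)⟩,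
    (mem_irrNP K).2 ⟨fun e => hne (Subtype.ext (Subtype.ext (funext fun q => ?_))), fun a ha => ?_⟩,
    by simp [hχ1]⟩
  · obtain ⟨k, rfl⟩ := QuotientGroup.mk'_surjective N q
    exact congrFun e k
  · show (χ : K ⧸ N → ℂ) (QuotientGroup.mk' N a) = (χ : K ⧸ N → ℂ) (QuotientGroup.mk' N 1)
    rw [show QuotientGroup.mk' N a = 1 from (QuotientGroup.eq_one_iff a).2 ha, map_one]

end SeqInd

end Cfsg.Agent.Coherence
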