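import Cfsg.Agent.S1516
import Cfsg.Agent.Coherence.SeqInd

/-!
# Growing coherent subsets of a coherence system
-/

set_option autoImplicit false

namespace Cfsg.Agent.Coherence

universe u v

variable {L : Type u} [Group L] [Fintype L] {G : Type v} [Group G] [Fintype G]
  {S : Set (L → ℂ)} {τ : (L → ℂ) → (G → ℂ)} {R : (L → ℂ) → Finset (G → ℂ)}

theorem coherent_subset {S' : Set (L → ℂ)} {A : Set L} (hsub : S' ⊆ S) (hcoh : IsCoherent S A τ)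
    (hne : ∃ α ∈ zspanOn S' A, α ≠ 0) : IsCoherent S' A τ := by
  obtain ⟨-, τ₁, ⟨h1, h2, h3, h4⟩, hag⟩ := hcoh
  have hm := zspan_mono hsub
  exact ⟨hne, τ₁, ⟨fun a ha b hb => h1 a (hm ha) b (hm hb), fun a ha => h2 a (hm ha),
    fun a ha b hb => h3 a (hm ha) b (hm hb), fun a ha => h4 a (hm ha)⟩,
    fun a ha => hag a (zspanOn_mono hsub A ha)⟩

theorem sys_subset (hS : IsCoherenceSystem S τ R) {S' : Set (L → ℂ)} (hsub : S' ⊆ S)
    (hne : S'.Nonempty) (hconj : ∀ χ ∈ S', conjFun χ ∈ S') : IsCoherenceSystem S' τ R where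
  nonempty := hne
  isCharacter χ h := hS.isCharacter χ (hsub h)
  conj_mem := hconj
  conj_ne χ h := hS.conj_ne χ (hsub h)
  isometry := by
    have hm : zspanOn S' ({1}ᶜ : Set L) ⊆ zspanOn S {1}ᶜ := zspanOn_mono hsub _
    exact ⟨fun a ha b hb => hS.isometry.1 a (hm ha) b (hm hb),
      fun a ha => hS.isometry.2.1 a (hm ha),
      fun a ha b hb => hS.isometry.2.2.1 a (hm ha) b (hm hb),
      fun a ha => hS.isometry.2.2.2 a (hm ha)⟩
  map_one a ha := hS.map_one a (zspanOn_mono hsub _ ha)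
  orthogonal a ha b hb := hS.orthogonal a (hsub ha) b (hsub hb)
  orthonormal a ha := hS.orthonormal a (hsub ha)
  virtual a ha := hS.virtual a (hsub ha)
  sum_eq a ha := hS.sum_eq a (hsub ha)
  disjoint a ha b hb := hS.disjoint a (hsub ha) b (hsub hb)

theorem sys_nonzero (hS : IsCoherenceSystem S τ R) {S' : Set (L → ℂ)} (hsub : S' ⊆ S)
    {χ : L → ℂ} (hχ : χ ∈ S') (hχc : conjFun χ ∈ S') :
    ∃ α ∈ zspanOn S' {1}ᶜ, α ≠ 0 :=
  ⟨χ - conjFun χ, mem_zspanOn_one.2 ⟨zspan_sub (zspan_subset hχ) (zspan_subset hχc),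
    by simp [sys_conj_one hS (hsub hχ)]⟩, sub_ne_zero.2 (hS.conj_ne χ (hsub hχ)).symm⟩

theorem sys_coherent_subset (hS : IsCoherenceSystem S τ R) {S' U : Set (L → ℂ)} (hU : U ⊆ S)
    (hsub : S' ⊆ U) (hne : S'.Nonempty) (hconj : ∀ χ ∈ S', conjFun χ ∈ S')
    (hcoh : IsCoherent U {1}ᶜ τ) : IsCoherent S' {1}ᶜ τ :=
  coherent_subset hsub hcoh
    (sys_nonzero hS (hsub.trans hU) hne.choose_spec (hconj _ hne.choose_spec))

/-- The weight `Σ χ(1)² / ⟨χ, χ⟩`. -/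
noncomputable def weight (T : Finset (L → ℂ)) : ℝ := ∑ φ ∈ T, (φ 1).re ^ 2 / normSqFn φ

theorem weight_mono {T U : Finset (L → ℂ)} (h : T ⊆ U) : weight T ≤ weight U :=
  Finset.sum_le_sum_of_subset_of_nonneg h fun φ _ _ =>
    div_nonneg (sq_nonneg _) (normSqFn_nonneg φ)

open Classical in
theorem grow_step (hS : IsCoherenceSystem S τ R) {T : Finset (L → ℂ)} (hT : ↑T ⊆ S)
    (hTc : ∀ φ ∈ T, conjFun φ ∈ T) (hcoh : IsCoherent (↑T : Set (L → ℂ)) {1}ᶜ τ)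
    {χ χ₁ : L → ℂ} (hχ : χ ∈ S) (hχT : χ ∉ T) (hχ₁ : χ₁ ∈ T) {k : ℕ}
    (hk : χ 1 = (k : ℂ) * χ₁ 1) (hlt : 2 * (χ 1).re * (χ₁ 1).re < weight T) :
    IsCoherent (↑(insert χ (insert (conjFun χ) T)) : Set (L → ℂ)) {1}ᶜ τ := by
  have hd' : ∀ φ, ∃ d n : ℕ, φ ∈ S → φ 1 = d ∧ classInner φ φ = n := by
    intro φ
    by_cases h : φ ∈ S
    · obtain ⟨d, hd, -⟩ := char_one_nat (hS.isCharacter φ h)
      obtain ⟨n, -, hn⟩ := char_norm_pos (hS.isCharacter φ h) (sys_ne_zero hS h)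
      exact ⟨d, n, fun _ => ⟨hd, hn⟩⟩
    · exact ⟨0, 0, fun h' => absurd h' h⟩
  choose d n hdn using hd'
  have hχ₂ : conjFun χ ∉ T := fun h => hχT (by simpa [conjFun_conjFun] using hTc _ h)
  have hdvd : d χ₁ ∣ d χ := by
    refine ⟨k, ?_⟩
    have h : ((d χ : ℕ) : ℂ) = ((d χ₁ * k : ℕ) : ℂ) := by
      rw [← (hdn χ hχ).1, hk, (hdn χ₁ (hT hχ₁)).1]; push_cast; ring
    exact_mod_cast h
  have hineq : (2 * d χ * d χ₁ : ℝ) < ∑ φ ∈ T, ((d φ : ℝ) ^ 2 / (n φ : ℝ)) := by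
    rw [(hdn χ hχ).1, (hdn χ₁ (hT hχ₁)).1, Complex.natCast_re, Complex.natCast_re] at hlt
    refine lt_of_lt_of_eq hlt (Finset.sum_congr rfl fun φ hφ => ?_)
    have h2 := inner_self φ
    rw [(hdn φ (hT hφ)).2] at h2
    have h3 : (n φ : ℝ) = normSqFn φ := Complex.ofReal_injective (by exact_mod_cast h2)
    rw [(hdn φ (hT hφ)).1, Complex.natCast_re, h3]
  have h := S1516.result S τ R hS d n (fun φ h => (hdn φ h).1) (fun φ h => (hdn φ h).2) T hT hTc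
    hcoh χ hχ hχT hχ₂ χ₁ hχ₁ hdvd hineq
  convert h using 1
  simp only [Finset.coe_insert]
  ext φ
  simp only [Set.mem_union, Set.mem_insert_iff, Set.mem_singleton_iff, Finset.mem_coe]
  tauto

/-- Grow a coherent subset one conjugate pair at a time. -/
theorem coherent_grow (hS : IsCoherenceSystem S τ R) {U T₀ : Finset (L → ℂ)} (hU : ↑U ⊆ S)
    (hUc : ∀ φ ∈ U, conjFun φ ∈ U) (hT₀ : T₀ ⊆ U) (hT₀c : ∀ φ ∈ T₀, conjFun φ ∈ T₀)
    (hcoh : IsCoherent (↑T₀ : Set (L → ℂ)) {1}ᶜ τ)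
    (hstep : ∀ T : Finset (L → ℂ), T₀ ⊆ T → T ⊆ U → (∀ φ ∈ T, conjFun φ ∈ T) → T ≠ U →
      ∃ χ ∈ U, χ ∉ T ∧ ∃ χ₁ ∈ T, ∃ k : ℕ, χ 1 = (k : ℂ) * χ₁ 1 ∧
        2 * (χ 1).re * (χ₁ 1).re < weight T) :
    IsCoherent (↑U : Set (L → ℂ)) {1}ᶜ τ := by
  classical
  set F := U.powerset.filter fun T : Finset (L → ℂ) => T₀ ⊆ T ∧ (∀ φ ∈ T, conjFun φ ∈ T) ∧
    IsCoherent (↑T : Set (L → ℂ)) {1}ᶜ τ
  obtain ⟨T, hT, hmax⟩ := Finset.exists_max_image F Finset.card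
    ⟨T₀, Finset.mem_filter.2 ⟨Finset.mem_powerset.2 hT₀, subset_refl _, hT₀c, hcoh⟩⟩
  obtain ⟨hTU, h0T, hTc, hTcoh⟩ := Finset.mem_filter.1 hT
  rw [Finset.mem_powerset] at hTU
  by_cases hne : T = U
  · rwa [← hne]
  obtain ⟨χ, hχU, hχT, χ₁, hχ₁, k, hk, hlt⟩ := hstep T h0T hTU hTc hne
  have h := grow_step hS ((Finset.coe_subset.2 hTU).trans hU) hTc hTcoh (hU hχU) hχT hχ₁ hk hlt
  have hmem : insert χ (insert (conjFun χ) T) ∈ F := by
    refine Finset.mem_filter.2 ⟨Finset.mem_powerset.2 ?_, h0T.trans ?_, ?_, h⟩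
    · exact Finset.insert_subset hχU (Finset.insert_subset (hUc χ hχU) hTU)
    · exact (Finset.subset_insert _ _).trans (Finset.subset_insert _ _)
    · intro φ hφ
      simp only [Finset.mem_insert] at hφ ⊢
      rcases hφ with rfl | rfl | hφ
      · exact Or.inr (Or.inl rfl)
      · exact Or.inl (conjFun_conjFun χ)
      · exact Or.inr (Or.inr (hTc φ hφ))
  exact absurd (hmax _ hmem) (not_le.2 (Finset.card_lt_card (Finset.ssubset_iff_subset_ne.2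
    ⟨(Finset.subset_insert _ _).trans (Finset.subset_insert _ _),
      fun e => hχT (e ▸ Finset.mem_insert_self _ _)⟩)))

end Cfsg.Agent.Coherence
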