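import Cfsg.Agent.Coherence.Extend

/-!
# Coherence systems: basic consequences (Peterfalvi (5.5)-(5.7))
-/

set_option autoImplicit false

namespace Cfsg.Agent.Coherence

open scoped ComplexConjugate

universe u v

variable {L : Type u} [Group L] [Fintype L] {G : Type v} [Group G] [Fintype G]
  {S : Set (L → ℂ)} {τ : (L → ℂ) → (G → ℂ)} {R : (L → ℂ) → Finset (G → ℂ)}

theorem conjFun_conjFun {X : Type*} (χ : X → ℂ) : conjFun (conjFun χ) = χ := by
  funext x; simp [conjFun]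

theorem sys_ne_zero (hS : IsCoherenceSystem S τ R) {χ : L → ℂ} (hχ : χ ∈ S) : χ ≠ 0 := by
  intro h
  exact hS.conj_ne χ hχ (by subst h; funext x; simp [conjFun])

theorem sys_finite (hS : IsCoherenceSystem S τ R) : S.Finite :=
  finite_of_orthogonal (fun _ h => sys_ne_zero hS h) hS.orthogonal

theorem sys_orth_conj (hS : IsCoherenceSystem S τ R) {χ : L → ℂ} (hχ : χ ∈ S) :
    classInner χ (conjFun χ) = 0 :=
  hS.orthogonal χ hχ _ (hS.conj_mem χ hχ) (hS.conj_ne χ hχ).symm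

theorem sys_sub_mem (hS : IsCoherenceSystem S τ R) {χ φ : L → ℂ} (hχ : χ ∈ S) (hφ : φ ∈ S)
    (h : χ 1 = φ 1) : χ - φ ∈ zspanOn S {1}ᶜ :=
  mem_zspanOn_one.2 ⟨zspan_sub (zspan_subset hχ) (zspan_subset hφ), by simp [h]⟩

theorem sys_conj_one (hS : IsCoherenceSystem S τ R) {χ : L → ℂ} (hχ : χ ∈ S) :
    conjFun χ 1 = χ 1 :=
  conjFun_one_of_char (hS.isCharacter χ hχ)

theorem sys_sub_conj_mem (hS : IsCoherenceSystem S τ R) {χ : L → ℂ} (hχ : χ ∈ S) :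
    χ - conjFun χ ∈ zspanOn S {1}ᶜ :=
  sys_sub_mem hS hχ (hS.conj_mem χ hχ) (sys_conj_one hS hχ).symm

theorem sys_orthonormal (hS : IsCoherenceSystem S τ R) {χ : L → ℂ} (hχ : χ ∈ S) :
    Orthonormal (R χ) := fun α hα β hβ => by
  classical
  rw [hS.orthonormal χ hχ α hα β hβ]

theorem sys_inner_sum (hS : IsCoherenceSystem S τ R) {χ : L → ℂ} (hχ : χ ∈ S) {β : L → ℂ}
    (hβ : β ∈ zspanOn S {1}ᶜ) :
    classInner (τ β) (∑ α ∈ R χ, α) = classInner β (χ - conjFun χ) := by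
  rw [← hS.sum_eq χ hχ]
  exact hS.isometry.2.2.1 β hβ _ (sys_sub_conj_mem hS hχ)

theorem sys_disjoint (hS : IsCoherenceSystem S τ R) {χ φ : L → ℂ} (hχ : χ ∈ S) (hφ : φ ∈ S)
    (h1 : φ ≠ χ) (h2 : φ ≠ conjFun χ) {α β : G → ℂ} (hα : α ∈ R φ) (hβ : β ∈ R χ) :
    classInner α β = 0 :=
  hS.disjoint χ hχ φ hφ (hS.orthogonal φ hφ χ hχ h1)
    (hS.orthogonal φ hφ _ (hS.conj_mem χ hχ) h2) α hα β hβ

theorem pair_ne_symm {χ φ : L → ℂ} (h2 : φ ≠ conjFun χ) : χ ≠ conjFun φ :=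
  fun e => h2 (by rw [e, conjFun_conjFun])

/-- Two members in different pairs, of the same degree: `τ (χ - φ)` splits along `R χ` and `R φ`. -/
theorem pair_decomp (hS : IsCoherenceSystem S τ R) {χ φ : L → ℂ} (hχ : χ ∈ S) (hφ : φ ∈ S)
    (h1 : φ ≠ χ) (h2 : φ ≠ conjFun χ) (hdeg : χ 1 = φ 1) :
    τ (χ - φ) = proj (R χ) (τ (χ - φ)) + proj (R φ) (τ (χ - φ)) ∧
      classInner (proj (R χ) (τ (χ - φ))) (proj (R χ) (τ (χ - φ))) = classInner χ χ ∧
      classInner (proj (R χ) (τ (χ - φ))) (∑ α ∈ R χ, α) = classInner χ χ := by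
  have hmem := sys_sub_mem hS hχ hφ hdeg
  have hRχ := sys_orthonormal hS hχ
  have hRφ := sys_orthonormal hS hφ
  have hξ := hS.isometry.2.2.2 _ hmem
  set ξ := τ (χ - φ)
  set P := proj (R χ) ξ with hP
  set Q := proj (R φ) ξ with hQ
  obtain ⟨n, -, hn⟩ := char_norm_pos (hS.isCharacter χ hχ) (sys_ne_zero hS hχ)
  obtain ⟨m, -, hm⟩ := char_norm_pos (hS.isCharacter φ hφ) (sys_ne_zero hS hφ)
  have o1 : classInner χ φ = 0 := hS.orthogonal χ hχ φ hφ h1.symm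
  have o2 : classInner φ χ = 0 := hS.orthogonal φ hφ χ hχ h1
  have o3 : classInner φ (conjFun χ) = 0 := hS.orthogonal φ hφ _ (hS.conj_mem χ hχ) h2
  have o4 : classInner χ (conjFun φ) = 0 :=
    hS.orthogonal χ hχ _ (hS.conj_mem φ hφ) (pair_ne_symm h2)
  have c1 : classInner ξ (∑ α ∈ R χ, α) = ((n : ℝ) : ℂ) := by
    rw [sys_inner_sum hS hχ hmem]
    simp [inner_sub_left, inner_sub_right, sys_orth_conj hS hχ, o2, o3, hn]
  have c2 : classInner ξ (∑ α ∈ R φ, α) = ((-(m : ℝ) : ℝ) : ℂ) := by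
    rw [sys_inner_sum hS hφ hmem]
    simp [inner_sub_left, inner_sub_right, sys_orth_conj hS hφ, o1, o4, hm]
  have cn : normSqFn ξ = (n : ℝ) + m := by
    apply Complex.ofReal_injective
    rw [← inner_self, hS.isometry.2.2.1 _ hmem _ hmem]
    simp [inner_sub_left, inner_sub_right, o1, o2, hn, hm]
  have bP : (n : ℝ) ≤ normSqFn P := by
    have := proj_norm_ge hRχ (hS.virtual χ hχ) hξ c1
    rwa [abs_of_nonneg (Nat.cast_nonneg n)] at this
  have bQ : (m : ℝ) ≤ normSqFn Q := by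
    have := proj_norm_ge hRφ (hS.virtual φ hφ) hξ c2
    rwa [abs_neg, abs_of_nonneg (Nat.cast_nonneg m)] at this
  have hQ' : proj (R φ) (ξ - P) = Q := by
    refine proj_congr fun β hβ => ?_
    rw [inner_sub_left, hP, inner_proj_of_orth
      (fun α hα => sys_disjoint hS hφ hχ h1.symm (pair_ne_symm h2) hα hβ), sub_zero]
  have py1 := proj_pythag (ξ := ξ) hRχ
  have py2 := proj_pythag (ξ := ξ - P) hRφ
  rw [hQ'] at py2
  rw [← hP] at py1
  have r0 := normSqFn_nonneg (ξ - P - Q)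
  have hz : normSqFn (ξ - P - Q) = 0 := by linarith
  have hPn : normSqFn P = n := by linarith
  refine ⟨?_, ?_, ?_⟩
  · have := normSqFn_eq_zero.1 hz
    rw [sub_sub] at this
    exact sub_eq_zero.1 this
  · rw [inner_self, hPn, hn]; simp
  · rw [inner_proj_sum hRχ (subset_refl _), c1, hn]; simp

/-- A virtual character with the norm and pairing of `χ` lies in the span of `R χ`. -/
theorem eq_proj_of_system (hS : IsCoherenceSystem S τ R) {χ : L → ℂ} (hχ : χ ∈ S) {ξ : G → ℂ}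
    (hξ : IsGeneralizedCharacter G ξ) (hn : classInner ξ ξ = classInner χ χ)
    (hs : classInner ξ (∑ α ∈ R χ, α) = classInner χ χ) : ξ = proj (R χ) ξ := by
  refine eq_proj_of_norm_le (sys_orthonormal hS hχ) ?_
  rw [inner_self χ] at hs
  have h := proj_norm_ge (sys_orthonormal hS hχ) (hS.virtual χ hχ) hξ hs
  rw [abs_of_nonneg (normSqFn_nonneg χ)] at h
  rw [inner_self, inner_self, Complex.ofReal_inj] at hn
  rwa [hn]

/-- Members of a coherent piece are orthogonal to `R χ` for `χ` in another pair. -/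
theorem coherent_inner_R (hS : IsCoherenceSystem S τ R) {S₁ : Set (L → ℂ)} (hS₁ : S₁ ⊆ S)
    (hS₁c : ∀ φ ∈ S₁, conjFun φ ∈ S₁) {τ₁ : (L → ℂ) → (G → ℂ)}
    (hτ₁ : IsLinearIsometryOn (zspan S₁) τ₁) (hag : ∀ α ∈ zspanOn S₁ {1}ᶜ, τ₁ α = τ α)
    {χ : L → ℂ} (hχ : χ ∈ S) (h1 : χ ∉ S₁) (h2 : conjFun χ ∉ S₁) {φ : L → ℂ} (hφ : φ ∈ S₁)
    {α : G → ℂ} (hα : α ∈ R χ) : classInner (τ₁ φ) α = 0 := by
  have hmem : φ - conjFun φ ∈ zspanOn S₁ {1}ᶜ :=
    mem_zspanOn_one.2 ⟨zspan_sub (zspan_subset hφ) (zspan_subset (hS₁c φ hφ)),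
      by simp [sys_conj_one hS (hS₁ hφ)]⟩
  have heq : τ₁ φ = proj (R φ) (τ₁ φ) := by
    refine eq_proj_of_system hS (hS₁ hφ) (hτ₁.2.2.2 _ (zspan_subset hφ))
      (hτ₁.2.2.1 _ (zspan_subset hφ) _ (zspan_subset hφ)) ?_
    rw [← hS.sum_eq φ (hS₁ hφ), ← hag _ hmem,
      hτ₁.2.2.1 _ (zspan_subset hφ) _ hmem.1, inner_sub_right, sys_orth_conj hS (hS₁ hφ), sub_zero]
  rw [heq]
  exact inner_proj_of_orth fun β hβ =>
    sys_disjoint hS hχ (hS₁ hφ) (fun e => h1 (e ▸ hφ)) (fun e => h2 (e ▸ hφ)) hβ hα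

end Cfsg.Agent.Coherence
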