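import Cfsg.Agent.Coherence.Extend
import Cfsg.Agent.Lib.CharCore.Basic

/-!
# Irreducible characters: orthonormality, norm-one virtual characters
-/

set_option autoImplicit false

namespace Cfsg.Agent.Coherence

open scoped ComplexConjugate

universe u

variable {G : Type u} [Group G] [Fintype G]

theorem irr_inner_self {χ : G → ℂ} (h : IsIrrCharacter G χ) : classInner χ χ = 1 :=
  CharCore.classInner_irr_self ⟨χ, h⟩

theorem irr_inner_ne {χ ψ : G → ℂ} (h : IsIrrCharacter G χ) (h' : IsIrrCharacter G ψ)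
    (hne : χ ≠ ψ) : classInner χ ψ = 0 :=
  CharCore.classInner_irr_of_ne (χ := ⟨χ, h⟩) (ψ := ⟨ψ, h'⟩) fun e => hne (congrArg Subtype.val e)

theorem irr_ne_zero {χ : G → ℂ} (h : IsIrrCharacter G χ) : χ ≠ 0 := fun e => by
  have := irr_inner_self h
  rw [e, inner_zero_left] at this
  exact zero_ne_one this

theorem irr_one_ne_zero {χ : G → ℂ} (h : IsIrrCharacter G χ) : χ 1 ≠ 0 :=
  char_one_ne_zero (irr_isCharacter h) (irr_ne_zero h)

theorem gen_exists_sum {α : G → ℂ} (hα : IsGeneralizedCharacter G α) :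
    ∃ z : IrrCharacter G → ℤ, α = ∑ ψ, (z ψ : ℂ) • (ψ : G → ℂ) := by
  obtain ⟨a, b, ha, hb, rfl⟩ := hα
  obtain ⟨m, hm⟩ := CharCore.IsCharacter.exists_sum ha
  obtain ⟨l, hl⟩ := CharCore.IsCharacter.exists_sum hb
  refine ⟨fun ψ => (m ψ : ℤ) - l ψ, ?_⟩
  rw [hm, hl, ← Finset.sum_sub_distrib]
  simp [sub_smul]

/-- A virtual character of norm one is irreducible up to sign. -/
theorem gen_norm_one {α : G → ℂ} (hα : IsGeneralizedCharacter G α) (h1 : classInner α α = 1) :
    IsIrrCharacter G α ∨ IsIrrCharacter G (-α) := by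
  classical
  obtain ⟨z, rfl⟩ := gen_exists_sum hα
  simp only [CharCore.classInner_sum_sum, map_intCast] at h1
  have h2 : ∑ ψ, z ψ * z ψ = 1 := by exact_mod_cast h1
  obtain ⟨ψ, -, hψ⟩ := Finset.exists_ne_zero_of_sum_ne_zero (h2.trans_ne one_ne_zero)
  have h3 := Finset.add_sum_erase Finset.univ (fun ψ => z ψ * z ψ) (Finset.mem_univ ψ)
  have h5 : 0 ≤ ∑ φ ∈ Finset.univ.erase ψ, z φ * z φ :=
    Finset.sum_nonneg fun φ _ => mul_self_nonneg _
  have hpos : 0 < z ψ * z ψ := lt_of_le_of_ne (mul_self_nonneg _) (Ne.symm hψ)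
  simp only [h2] at h3
  have hrest : ∑ φ ∈ Finset.univ.erase ψ, z φ * z φ = 0 := by omega
  have hz : z ψ * z ψ = 1 := by omega
  have hsum : (∑ φ, (z φ : ℂ) • (φ : G → ℂ)) = (z ψ : ℂ) • (ψ : G → ℂ) := by
    refine Finset.sum_eq_single ψ (fun φ _ hφ => ?_) (by simp)
    have := (Finset.sum_eq_zero_iff_of_nonneg fun φ _ => mul_self_nonneg (z φ)).1 hrest φ
      (Finset.mem_erase.2 ⟨hφ, Finset.mem_univ φ⟩)
    simp [mul_self_eq_zero.1 this]
  rw [hsum]
  rcases mul_self_eq_one_iff.1 hz with h | h <;> rw [h]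
  · exact Or.inl (by simpa using ψ.2)
  · exact Or.inr (by simpa using ψ.2)

theorem gen_norm_one_apply_one {α : G → ℂ} (hα : IsGeneralizedCharacter G α)
    (h1 : classInner α α = 1) : α 1 ≠ 0 := by
  rcases gen_norm_one hα h1 with h | h
  · exact irr_one_ne_zero h
  · simpa using irr_one_ne_zero h

end Cfsg.Agent.Coherence
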