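import Cfsg.Agent.OddChar.Dade
import Mathlib.Algebra.BigOperators.Field
import Mathlib.Data.Real.Basic
import Mathlib.Tactic.Group
import Mathlib.Algebra.Group.Subgroup.Pointwise

/-!
# Counting over the support of the Dade map
-/

set_option autoImplicit false

namespace Cfsg.Agent.Coherence

open scoped Pointwise
open OddChar

variable {G : Type*} [Group G] {A : Set G} {L : Subgroup G} {H : G → Subgroup G}

theorem dade_centralizer_decomp (hD : DadeHypothesis A L H) {a c : G} (ha : a ∈ A)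
    (hc : c ∈ Subgroup.centralizer ({a} : Set G)) :
    ∃ d ∈ L ⊓ Subgroup.centralizer ({a} : Set G), ∃ u ∈ H a, c = d * u := by
  set D := L ⊓ Subgroup.centralizer ({a} : Set G)
  have hle : D ≤ Subgroup.normalizer (H a : Set G) := fun d hd => by
    refine Subgroup.mem_set_normalizer_iff.2 fun u => ⟨fun hu => hD.conj_mem_H a ha d hd.2 u hu,
      fun hu => ?_⟩
    have := hD.conj_mem_H a ha d⁻¹ (Subgroup.inv_mem _ hd.2) _ hu
    simpa [mul_assoc] using this
  have h : c ∈ (↑(D ⊔ H a) : Set G) := by rw [sup_comm, hD.sup_eq a ha]; exact hc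
  rw [Subgroup.coe_mul_of_left_le_normalizer_right D (H a) hle] at h
  obtain ⟨d, hd, u, hu, rfl⟩ := Set.mem_mul.1 h
  exact ⟨d, hd, u, hu, rfl⟩

/-- The support of the Dade map. -/
def dadeSupp (A : Set G) (H : G → Subgroup G) : Set G :=
  {g | ∃ a ∈ A, ∃ u ∈ H a, ∃ x : G, x * g * x⁻¹ = a * u}

variable [Fintype G]

open Classical in
theorem dade_sum_eq (hD : DadeHypothesis A L H) (f : G → ℝ) (hf : ∀ g x : G, f (x * g * x⁻¹) = f g) :
    (Nat.card L : ℝ) * ∑ g ∈ Finset.univ.filter (· ∈ dadeSupp A H), f g =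
      (Nat.card G : ℝ) * ∑ a ∈ Finset.univ.filter (· ∈ A),
        (Nat.card (H a) : ℝ)⁻¹ * ∑ u : H a, f (a * u) := by
  let T := Σ a : {a : G // a ∈ A}, H (a : G)
  let w : T → ℝ := fun t => (Nat.card (H (t.1 : G)) : ℝ)⁻¹ * f ((t.1 : G) * t.2)
  let p : G × T → G := fun z => z.1⁻¹ * ((z.2.1 : G) * z.2.2) * z.1
  have hmaps : ∀ z ∈ (Finset.univ : Finset (G × T)),
      p z ∈ Finset.univ.filter (· ∈ dadeSupp A H) := by
    rintro ⟨x, ⟨a, ha⟩, u⟩ -
    refine Finset.mem_filter.2 ⟨Finset.mem_univ _, a, ha, u, u.2, x, ?_⟩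
    simp only [p]; group
  have hfib : ∀ g ∈ Finset.univ.filter (· ∈ dadeSupp A H),
      ∑ z ∈ Finset.univ.filter (fun z => p z = g), w z.2 = (Nat.card L : ℝ) * f g := by
    intro g hg
    obtain ⟨a, ha, u, hu, x0, hx0⟩ := (Finset.mem_filter.1 hg).2
    have hmem : ∀ (l : L) (v : H a),
        ((l : G) * v) * a * ((l : G) * v)⁻¹ = (l : G) * a * (l : G)⁻¹ := fun l v => by
      have h := dade_H_commute hD ha v.2
      calc ((l : G) * v) * a * ((l : G) * v)⁻¹ = (l : G) * ((v : G) * a) * (v : G)⁻¹ * (l : G)⁻¹ := by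
            group
        _ = (l : G) * (a * v) * (v : G)⁻¹ * (l : G)⁻¹ := by rw [h]
        _ = (l : G) * a * (l : G)⁻¹ := by group
    let e : L × H a → G × T := fun lv =>
      (((lv.1 : G) * lv.2) * x0,
        ⟨⟨(lv.1 : G) * a * (lv.1 : G)⁻¹, hD.conj_mem _ lv.1.2 a ha⟩,
          ⟨((lv.1 : G) * lv.2) * u * ((lv.1 : G) * lv.2)⁻¹, by
            have h1 := hD.conj_mem_H a ha _ (hD.le_centralizer a ha lv.2.2) u hu
            have h2 := dade_H_conj_mem hD ha lv.1.2 h1
            convert h2 using 1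
            group⟩⟩)
    have heinj : Function.Injective e := by
      rintro ⟨l, v⟩ ⟨l', v'⟩ he
      have h1 : (l : G) * v = (l' : G) * v' := mul_right_cancel (congrArg Prod.fst he)
      have h2 : ((l' : G)⁻¹ * l) = (v' : G) * (v : G)⁻¹ := by
        rw [eq_mul_inv_iff_mul_eq, mul_assoc, h1, inv_mul_cancel_left]
      have h3 : (l' : G)⁻¹ * l = 1 := by
        have hi : (l' : G)⁻¹ * l ∈ H a ⊓ (L ⊓ Subgroup.centralizer ({a} : Set G)) :=
          ⟨h2 ▸ (H a).mul_mem v'.2 ((H a).inv_mem v.2), L.mul_mem (L.inv_mem l'.2) l.2,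
            h2 ▸ hD.le_centralizer a ha ((H a).mul_mem v'.2 ((H a).inv_mem v.2))⟩
        rw [hD.inf_eq_bot a ha] at hi
        exact hi
      have h4 : l = l' := Subtype.ext (inv_mul_eq_one.1 h3).symm
      subst h4
      exact Prod.ext rfl (Subtype.ext (mul_left_cancel h1))
    have himg : Finset.univ.filter (fun z => p z = g) = Finset.univ.image e := by
      ext z
      simp only [Finset.mem_filter, Finset.mem_univ, true_and, Finset.mem_image]
      constructor
      · obtain ⟨x, ⟨b, hb⟩, v⟩ := z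
        intro hz
        have hy : (x * x0⁻¹) * (a * u) * (x * x0⁻¹)⁻¹ = b * v := by
          rw [← hx0, ← hz]; simp only [p]; group
        have hab := dade_conj_eq hD ha hb hu v.2 hy
        obtain ⟨l, hl, hlb⟩ := hD.fusion a ha _ (by rw [hab]; exact hb)
        have hc : l⁻¹ * (x * x0⁻¹) ∈ Subgroup.centralizer ({a} : Set G) := by
          refine Subgroup.mem_centralizer_singleton_iff.2 ?_
          calc l⁻¹ * (x * x0⁻¹) * a
              = l⁻¹ * ((x * x0⁻¹) * a * (x * x0⁻¹)⁻¹) * (x * x0⁻¹) := by group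
            _ = l⁻¹ * (l * a * l⁻¹) * (x * x0⁻¹) := by rw [hlb]
            _ = a * (l⁻¹ * (x * x0⁻¹)) := by group
        obtain ⟨d, hd, w', hw', hdw⟩ := dade_centralizer_decomp hD ha hc
        refine ⟨(⟨l * d, L.mul_mem hl hd.1⟩, ⟨w', hw'⟩), ?_⟩
        have hxy : l * d * w' = x * x0⁻¹ := by
          rw [mul_assoc, ← hdw, mul_inv_cancel_left]
        have hb' : l * d * a * (l * d)⁻¹ = b := by
          have := hmem ⟨l * d, L.mul_mem hl hd.1⟩ ⟨w', hw'⟩
          simp only at this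
          rw [← this, hxy, hab]
        refine Prod.ext (by show l * d * w' * x0 = x; rw [hxy, inv_mul_cancel_right]) ?_
        have hv : (v : G) = (x * x0⁻¹) * u * (x * x0⁻¹)⁻¹ := by
          refine mul_left_cancel (a := b) ?_
          calc b * v = (x * x0⁻¹) * (a * u) * (x * x0⁻¹)⁻¹ := hy.symm
            _ = (x * x0⁻¹) * a * (x * x0⁻¹)⁻¹ * ((x * x0⁻¹) * u * (x * x0⁻¹)⁻¹) := by group
            _ = b * ((x * x0⁻¹) * u * (x * x0⁻¹)⁻¹) := by rw [hab]
        subst hb'
        refine Sigma.ext rfl (heq_of_eq (Subtype.ext ?_))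
        show l * d * w' * u * (l * d * w')⁻¹ = (v : G)
        rw [hv, hxy]
      · rintro ⟨⟨l, v⟩, rfl⟩
        simp only [e, p, ← hmem l v]
        calc _ = x0⁻¹ * (a * u) * x0 := by group
          _ = g := by rw [← hx0]; group
    rw [himg, Finset.sum_image heinj.injOn]
    have hval : ∀ lv : L × H a, w (e lv).2 = (Nat.card (H a) : ℝ)⁻¹ * f g := by
      rintro ⟨l, v⟩
      have hc : Nat.card (H ((l : G) * a * (l : G)⁻¹)) = Nat.card (H a) := by
        rw [dade_H_conj hD ha l.2,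
          Subgroup.card_map_of_injective (MulEquiv.injective (MulAut.conj (l : G)))]
      simp only [w, e]
      rw [hc]
      congr 1
      rw [← hmem l v, ← hf g x0, hx0, ← hf (a * u) ((l : G) * v)]
      congr 1
      group
    rw [Finset.sum_congr rfl fun lv _ => hval lv, Finset.sum_const, Finset.card_univ,
      nsmul_eq_mul, Fintype.card_prod, ← Nat.card_eq_fintype_card, ← Nat.card_eq_fintype_card]
    push_cast
    have : (Nat.card (H a) : ℝ) ≠ 0 := Nat.cast_ne_zero.2 Nat.card_pos.ne'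
    field_simp
  have htot := Finset.sum_fiberwise_of_maps_to hmaps (fun z => w z.2)
  rw [Finset.sum_congr rfl hfib, ← Finset.mul_sum] at htot
  rw [htot, Fintype.sum_prod_type]
  show ∑ _x : G, ∑ y, w y = _
  rw [Finset.sum_const, Finset.card_univ, ← Nat.card_eq_fintype_card,
    nsmul_eq_mul, Fintype.sum_sigma]
  congr 1
  simp only [w, ← Finset.mul_sum]
  exact (Finset.sum_subtype _ (fun a => by simp)
    (fun a => (Nat.card (H a) : ℝ)⁻¹ * ∑ u : H a, f (a * u))).symm

end Cfsg.Agent.Coherence
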