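import Cfsg.Agent.OddLocal43.NilpotentAction
import Cfsg.Agent.Lib.Fitting.Minimal
import Cfsg.Agent.Lib.Coprime.Action
import Cfsg.Agent.Lib.Coprime.Abelian

/-!
# The fixed point formula for a Frobenius group acting coprimely on a solvable group
-/

set_option autoImplicit false

namespace Cfsg.Agent.Coherence

open Subgroup OddLocal43
open scoped commutatorElement

universe u

section
variable {X : Type u} [Group X] [Finite X]

/-- Two subgroups of an abelian group with trivial intersection: the order of the join. -/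
theorem card_sup_of_abelian {N A B : Subgroup X} [IsMulCommutative N] (hA : A ≤ N) (hB : B ≤ N)
    (h : A ⊓ B = ⊥) : Nat.card ↥(A ⊔ B) = Nat.card A * Nat.card B := by
  have hBA : B ≤ normalizer (A : Set X) := Coprime.le_normalizer_of_conj_mem fun b hb a ha => by
    have : b * a = a * b := congrArg Subtype.val (mul_comm' (⟨b, hB hb⟩ : N) ⟨a, hA ha⟩)
    rw [this, mul_inv_cancel_right]; exact ha
  have h2 := (isComplement'_subgroupOf_sup hBA h).card_mul
  rw [Nat.card_congr (subgroupOfEquivOfLe le_sup_left).toEquiv,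
    Nat.card_congr (subgroupOfEquivOfLe le_sup_right).toEquiv] at h2
  exact h2.symm

theorem fixed_formula_elementary {ℓ : ℕ} [Fact ℓ.Prime] (U E N : Subgroup X)
    (hN : Cfsg.IsElementaryAbelian ℓ N) (hcop : (Nat.card ↥(U ⊔ E)).Coprime ℓ)
    (hEU : E ≤ normalizer (U : Set X)) (hUE : U ⊓ E = ⊥)
    (hfpf : ∀ r ∈ E, r ≠ 1 → U ⊓ centralizer ({r} : Set X) = ⊥)
    (hn : U ⊔ E ≤ normalizer (N : Set X)) :
    Nat.card ↥(N ⊓ centralizer ((U ⊔ E : Subgroup X) : Set X)) ^ Nat.card E * Nat.card N =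
      Nat.card ↥(N ⊓ centralizer (E : Set X)) ^ Nat.card E *
        Nat.card ↥(N ⊓ centralizer (U : Set X)) := by
  have hc := hN.1
  have hUN : U ≤ normalizer (N : Set X) := le_sup_left.trans hn
  have hEN : E ≤ normalizer (N : Set X) := le_sup_right.trans hn
  have hp : IsPGroup ℓ N := fun v => ⟨1, Subtype.ext (by simpa using hN.2 v v.2)⟩
  obtain ⟨e, he⟩ := IsPGroup.iff_card.mp hp
  have hcopU : (Nat.card U).Coprime (Nat.card N) :=
    he ▸ (hcop.coprime_dvd_left (card_dvd_of_le le_sup_left)).pow_right e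
  set C := N ⊓ centralizer (U : Set X) with hC
  set W := ⁅N, U⁆ with hW
  have hWN : W ≤ N := Coprime.commutator_le_of_le_normalizer hUN
  have hCN : C ≤ N := inf_le_left
  have hsolv : Group.IsSolvable U ∨ Group.IsSolvable N :=
    .inr (Group.isSolvable_of_comm fun a b => hc.is_comm.comm a b)
  have hWC : W ⊓ centralizer (U : Set X) = ⊥ :=
    Coprime.commutator_inf_centralizer_eq_bot U N hUN hcopU
  have hbot : W ⊓ C = ⊥ := le_bot_iff.mp ((inf_le_inf_left W inf_le_right).trans hWC.le)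
  have hsup : W ⊔ C = N := Coprime.commutator_sup_centralizer U N hUN hcopU hsolv
  have hEW : E ≤ normalizer (W : Set X) := normalizes_commutator hEN hEU
  have hEC : E ≤ normalizer (C : Set X) :=
    Coprime.le_normalizer_inf hEN (Coprime.le_normalizer_centralizer hEU)
  have hWe : Cfsg.IsElementaryAbelian ℓ W :=
    ⟨isMulCommutative_mono hWN, fun w hw => hN.2 w (hWN hw)⟩
  have h1 : Nat.card W = Nat.card ↥(W ⊓ centralizer (E : Set X)) ^ Nat.card E :=
    card_eq_pow_of_frobenius U E W hWe hcop hEU hUE hfpf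
      (normalizes_commutator hUN le_normalizer) hEW hWC
  have h2 : N ⊓ centralizer (E : Set X) =
      (W ⊓ centralizer (E : Set X)) ⊔ (N ⊓ centralizer ((U ⊔ E : Subgroup X) : Set X)) := by
    refine le_antisymm ?_ (sup_le (inf_le_inf_right _ hWN)
      (inf_le_inf_left _ (centralizer_le (le_sup_right : E ≤ U ⊔ E))))
    rintro v ⟨hv, hvE⟩
    obtain ⟨w, hw, c, hc', rfl⟩ :=
      Coprime.exists_commutator_mul_centralizer U N hUN hcopU hsolv v hv
    have hfix : ∀ r ∈ E, r * w * r⁻¹ = w ∧ r * c * r⁻¹ = c := by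
      intro r hr
      have hrw : r * w * r⁻¹ ∈ W := (mem_normalizer_iff.mp (hEW hr) w).mp hw
      have hrc : r * c * r⁻¹ ∈ C := (mem_normalizer_iff.mp (hEC hr) c).mp hc'
      have heq : r * w * r⁻¹ * (r * c * r⁻¹) = w * c := by
        have h := mem_centralizer_iff.mp hvE r hr
        calc r * w * r⁻¹ * (r * c * r⁻¹) = r * (w * c) * r⁻¹ := by group
          _ = w * c := by rw [h]; group
      have hmem : w⁻¹ * (r * w * r⁻¹) ∈ W ⊓ C := by
        refine mem_inf.mpr ⟨mul_mem (inv_mem hw) hrw, ?_⟩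
        have h' : w⁻¹ * (r * w * r⁻¹) = c * (r * c * r⁻¹)⁻¹ := by
          rw [eq_mul_inv_iff_mul_eq, mul_assoc, heq]; group
        rw [h']
        exact mul_mem hc' (inv_mem hrc)
      rw [hbot, mem_bot, inv_mul_eq_one] at hmem
      refine ⟨hmem.symm, ?_⟩
      rw [← hmem] at heq
      exact mul_left_cancel heq
    refine mul_mem_sup ⟨hw, mem_centralizer_iff.mpr fun r hr =>
      mul_inv_eq_iff_eq_mul.mp (hfix r hr).1⟩ ⟨hc'.1, mem_centralizer_iff.mpr fun x hx => ?_⟩
    have hle : U ⊔ E ≤ centralizer ({c} : Set X) := sup_le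
      (fun x hx => mem_centralizer_singleton_iff.mpr (mem_centralizer_iff.mp hc'.2 x hx))
      (fun x hx => mem_centralizer_singleton_iff.mpr (mul_inv_eq_iff_eq_mul.mp (hfix x hx).2))
    exact mem_centralizer_singleton_iff.mp (hle hx)
  have h3 : Nat.card N = Nat.card W * Nat.card C := by
    rw [← card_sup_of_abelian hWN hCN hbot, hsup]
  have h4 : Nat.card ↥(N ⊓ centralizer (E : Set X)) = Nat.card ↥(W ⊓ centralizer (E : Set X)) *
      Nat.card ↥(N ⊓ centralizer ((U ⊔ E : Subgroup X) : Set X)) := by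
    rw [h2]
    refine card_sup_of_abelian (N := N) (inf_le_left.trans hWN) inf_le_left ?_
    rw [eq_bot_iff]
    rintro x ⟨hx, hx'⟩
    exact hbot.le ⟨hx.1, hx'.1, centralizer_le (le_sup_left : U ≤ U ⊔ E) hx'.2⟩
  rw [h3, h4, mul_pow, h1]
  ring

end

/-- The normal case of the fixed point formula. -/
theorem fixed_formula_of_normal (n : ℕ) :
    ∀ {X : Type u} [Group X] [Finite X] (U E H : Subgroup X) [H.Normal], Nat.card H ≤ n →
      E ≤ normalizer (U : Set X) → U ⊓ E = ⊥ →
      (∀ r ∈ E, r ≠ 1 → U ⊓ centralizer ({r} : Set X) = ⊥) →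
      Group.IsSolvable H → (Nat.card ↥(U ⊔ E)).Coprime (Nat.card H) →
      Nat.card ↥(H ⊓ centralizer ((U ⊔ E : Subgroup X) : Set X)) ^ Nat.card E * Nat.card H =
        Nat.card ↥(H ⊓ centralizer (E : Set X)) ^ Nat.card E *
          Nat.card ↥(H ⊓ centralizer (U : Set X)) := by
  induction n using Nat.strong_induction_on with
  | _ n ih =>
  intro X _ _ U E H _ hn hEU hUE hfpf hH hcop
  by_cases hH1 : H = ⊥
  · subst hH1
    simp
  obtain ⟨N, hNmin, hNH⟩ := Fitting.exists_isMinNormal_le ‹H.Normal› hH1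
  have hNn := hNmin.1
  have hNs : Group.IsSolvable N := Coprime.solvable_of_le hNH hH
  have := hNmin.isMulCommutative
  obtain ⟨ℓ, hℓ, hNe⟩ := hNmin.exists_isElementaryAbelian
  have := Fact.mk hℓ
  have hcopN : (Nat.card ↥(U ⊔ E)).Coprime (Nat.card N) :=
    hcop.coprime_dvd_right (card_dvd_of_le hNH)
  have hℓN : ℓ ∣ Nat.card N := by
    have hp : IsPGroup ℓ N := fun v => ⟨1, Subtype.ext (by simpa using hNe.2 v v.2)⟩
    obtain ⟨d, hd⟩ := IsPGroup.iff_card.mp hp
    rcases d with _ | d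
    · exact absurd (N.eq_bot_of_card_eq (by simpa using hd)) hNmin.2.1
    · exact hd ▸ dvd_pow_self ℓ (Nat.succ_ne_zero d)
  have hN : normalizer (N : Set X) = ⊤ := normalizer_eq_top_iff.mpr inferInstance
  have e1 := fixed_formula_elementary U E N hNe (hcopN.coprime_dvd_right hℓN) hEU hUE hfpf
    (hN ▸ le_top)
  set f := QuotientGroup.mk' N with hf
  have hNlt : 1 < Nat.card N := N.one_lt_card_iff_ne_bot.mpr hNmin.2.1
  have hcardH : Nat.card (H.map f) * Nat.card N = Nat.card H := by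
    have := card_map_mul_card N H
    rwa [inf_eq_right.mpr hNH] at this
  have hlt : Nat.card (H.map f) < n := by
    have hpos : 0 < Nat.card (H.map f) := Nat.card_pos
    calc Nat.card (H.map f) < Nat.card (H.map f) * Nat.card N := lt_mul_of_one_lt_right hpos hNlt
      _ ≤ n := hcardH.le.trans hn
  have : (H.map f).Normal := ‹H.Normal›.map f (QuotientGroup.mk'_surjective N)
  have hbot : ∀ {S : Subgroup X}, S ≤ U ⊔ E → S ⊓ N = ⊥ := fun hS =>
    inf_eq_bot_of_coprime (hcopN.coprime_dvd_left (card_dvd_of_le hS))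
  have hinj : ∀ {a b : X}, a ∈ U ⊔ E → b ∈ U ⊔ E → f a = f b → a = b := by
    intro a b ha hb hab
    have h1 : a⁻¹ * b ∈ (U ⊔ E) ⊓ N := mem_inf.mpr ⟨mul_mem (inv_mem ha) hb, QuotientGroup.eq.mp hab⟩
    rw [hbot le_rfl, mem_bot, inv_mul_eq_one] at h1
    exact h1
  have hUE' : U.map f ⊓ E.map f = ⊥ := by
    rw [eq_bot_iff_forall]
    rintro _ ⟨⟨k, hk, rfl⟩, r, hr, hkr⟩
    have h2 : k ∈ U ⊓ E := ⟨hk, hinj (mem_sup_right hr) (mem_sup_left hk) hkr ▸ hr⟩
    rw [hUE, mem_bot] at h2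
    rw [h2, map_one]
  have hfpf' : ∀ r ∈ E.map f, r ≠ 1 → U.map f ⊓ centralizer ({r} : Set (X ⧸ N)) = ⊥ := by
    rintro _ ⟨r, hr, rfl⟩ hr1
    rw [eq_bot_iff_forall]
    rintro _ ⟨⟨k, hk, rfl⟩, hc⟩
    have hc' := mem_centralizer_singleton_iff.mp hc
    rw [← map_mul, ← map_mul] at hc'
    have h2 : k ∈ U ⊓ centralizer ({r} : Set X) := ⟨hk, mem_centralizer_singleton_iff.mpr
      (hinj (mul_mem (mem_sup_left hk) (mem_sup_right hr))
        (mul_mem (mem_sup_right hr) (mem_sup_left hk)) hc')⟩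
    rw [hfpf r hr fun h => hr1 (by rw [h, map_one]), mem_bot] at h2
    rw [h2, map_one]
  have hcop' : (Nat.card ↥(U.map f ⊔ E.map f)).Coprime (Nat.card (H.map f)) := by
    rw [← Subgroup.map_sup]
    exact (hcop.coprime_dvd_left (card_map_dvd _ f)).coprime_dvd_right (card_map_dvd _ f)
  have hH' : Group.IsSolvable (H.map f) :=
    haveI := hH
    Group.isSolvable_of_surjective (f.subgroupMap_surjective H)
  have e2 := ih _ hlt (X := X ⧸ N) (U.map f) (E.map f) (H.map f) le_rfl
    ((map_mono hEU).trans (le_normalizer_map f)) hUE' hfpf' hH' hcop'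
  have key : ∀ S : Subgroup X, S ≤ U ⊔ E →
      Nat.card ↥(H.map f ⊓ centralizer ((S.map f : Subgroup (X ⧸ N)) : Set (X ⧸ N))) *
        Nat.card ↥(N ⊓ centralizer (S : Set X)) = Nat.card ↥(H ⊓ centralizer (S : Set X)) := by
    intro S hS
    rw [hf, map_inf_centralizer N S H (hcopN.coprime_dvd_left (card_dvd_of_le hS)) hNs hNH]
    have h1 : H ⊓ centralizer (S : Set X) ⊓ N = N ⊓ centralizer (S : Set X) := by
      rw [inf_comm, ← inf_assoc, inf_eq_left.mpr hNH]
    rw [← h1]
    exact card_map_mul_card N _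
  rw [← Subgroup.map_sup, card_map_eq_of_inf_eq_bot N (hbot le_sup_right)] at e2
  rw [← key (U ⊔ E) le_rfl, ← key E le_sup_right, ← key U le_sup_left, ← hcardH, mul_pow, mul_pow,
    mul_mul_mul_comm, e2, e1, mul_mul_mul_comm]

/-- The fixed point formula for a Frobenius group `U ⊔ E` acting coprimely on a solvable `H`. -/
theorem fixed_formula {X : Type u} [Group X] [Finite X] (U E H : Subgroup X)
    (hEU : E ≤ normalizer (U : Set X)) (hUE : U ⊓ E = ⊥)
    (hfpf : ∀ r ∈ E, r ≠ 1 → U ⊓ centralizer ({r} : Set X) = ⊥)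
    (hn : U ⊔ E ≤ normalizer (H : Set X)) (hH : Group.IsSolvable H)
    (hcop : (Nat.card ↥(U ⊔ E)).Coprime (Nat.card H)) :
    Nat.card ↥(H ⊓ centralizer ((U ⊔ E : Subgroup X) : Set X)) ^ Nat.card E * Nat.card H =
      Nat.card ↥(H ⊓ centralizer (E : Set X)) ^ Nat.card E *
        Nat.card ↥(H ⊓ centralizer (U : Set X)) := by
  set Y := normalizer (H : Set X) with hY
  have hU : U ≤ Y := le_sup_left.trans hn
  have hE : E ≤ Y := le_sup_right.trans hn
  have : (H.subgroupOf Y).Normal := normal_in_normalizer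
  have hc : ∀ {S : Subgroup X}, S ≤ Y → Nat.card (S.subgroupOf Y) = Nat.card S := fun hS =>
    Nat.card_congr (subgroupOfEquivOfLe hS).toEquiv
  have hsup : U.subgroupOf Y ⊔ E.subgroupOf Y = (U ⊔ E).subgroupOf Y := (subgroupOf_sup hU hE).symm
  have hfix : ∀ S : Subgroup X, S ≤ Y →
      Nat.card ↥(H.subgroupOf Y ⊓ centralizer ((S.subgroupOf Y : Subgroup Y) : Set Y)) =
        Nat.card ↥(H ⊓ centralizer (S : Set X)) := by
    intro S hS
    refine Nat.card_congr
      { toFun := fun v => ⟨((v : Y) : X), v.2.1, mem_centralizer_iff.mpr fun x hx => ?_⟩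
        invFun := fun v => ⟨⟨v.1, le_normalizer v.2.1⟩, v.2.1, mem_centralizer_iff.mpr fun x hx => ?_⟩
        left_inv := fun v => rfl
        right_inv := fun v => rfl }
    · exact congrArg Subtype.val (mem_centralizer_iff.mp v.2.2 ⟨x, hS hx⟩ hx)
    · exact Subtype.ext (mem_centralizer_iff.mp v.2.2 x hx)
  have h := fixed_formula_of_normal _ (U.subgroupOf Y) (E.subgroupOf Y) (H.subgroupOf Y) le_rfl
    ((subgroupOf_normalizer_eq hU).symm ▸ comap_mono hEU)
    (by
      rw [eq_bot_iff]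
      rintro ⟨x, hx⟩ hxx
      exact mem_bot.mpr (Subtype.ext (mem_bot.mp (hUE.le ⟨hxx.1, hxx.2⟩))))
    (fun r hr hr1 => eq_bot_iff.mpr fun x hx => mem_bot.mpr (Subtype.ext (mem_bot.mp
      ((hfpf r hr fun h => hr1 (Subtype.ext h)).le ⟨hx.1, mem_centralizer_singleton_iff.mpr
        (congrArg Subtype.val (mem_centralizer_singleton_iff.mp hx.2))⟩))))
    (haveI := hH
     Group.isSolvable_of_surjective (f := (subgroupOfEquivOfLe (le_normalizer : H ≤ Y)).symm.toMonoidHom)
      (subgroupOfEquivOfLe (le_normalizer : H ≤ Y)).symm.surjective)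
    (by rw [hsup, hc hn, hc le_normalizer]; exact hcop)
  rwa [hsup, hfix _ hn, hfix _ hE, hfix _ hU, hc le_normalizer, hc hE] at h

end Cfsg.Agent.Coherence
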