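import Mathlib.GroupTheory.Nilpotent
import Mathlib.GroupTheory.Index
import Mathlib.Data.Nat.Factorization.Basic
import Mathlib.GroupTheory.Perm.Cycle.Type
import Mathlib.GroupTheory.Solvable
import Mathlib.GroupTheory.QuotientGroup.Basic
import Mathlib.Algebra.Group.ConjFinite

/-!
# Frobenius quotients: counting
-/

set_option autoImplicit false

namespace Cfsg.Agent.Coherence

/-- If every non-identity element of a normal subgroup `N` has centraliser `K`, then
`[Q : K]` divides `|N| - 1`. -/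
theorem index_dvd_card_sub_one {Q : Type*} [Group Q] [Finite Q] (K N : Subgroup Q) [N.Normal]
    (hcent : ∀ x ∈ N, x ≠ 1 → Subgroup.centralizer ({x} : Set Q) = K) :
    K.index ∣ Nat.card N - 1 := by
  classical
  haveI := Fintype.ofFinite Q
  haveI := Fintype.ofFinite (ConjClasses Q)
  set X : Finset Q := Finset.univ.filter fun x => x ∈ N ∧ x ≠ 1 with hX
  have hcard : X.card = Nat.card N - 1 := by
    have : X = (Finset.univ.filter fun x => x ∈ N).erase 1 := by
      ext x; simp [hX, and_comm]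
    rw [this, Finset.card_erase_of_mem (by simp [N.one_mem]), ← Fintype.card_subtype,
      ← Nat.card_eq_fintype_card]
  rw [← hcard, Finset.card_eq_sum_card_fiberwise (f := ConjClasses.mk) (t := X.image ConjClasses.mk)
    (fun x hx => Finset.mem_image_of_mem _ hx)]
  refine Finset.dvd_sum fun C hC => ?_
  obtain ⟨x, hx, rfl⟩ := Finset.mem_image.1 hC
  obtain ⟨hxN, hx1⟩ := (Finset.mem_filter.1 hx).2
  set F := X.filter fun y => ConjClasses.mk y = ConjClasses.mk x
  have hmaps : ∀ g ∈ (Finset.univ : Finset Q), g * x * g⁻¹ ∈ F := fun g _ => by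
    refine Finset.mem_filter.2 ⟨Finset.mem_filter.2 ⟨Finset.mem_univ _, ?_, ?_⟩, ?_⟩
    · exact Subgroup.Normal.conj_mem ‹N.Normal› x hxN g
    · exact fun e => hx1 (conj_eq_one_iff.1 e)
    · exact (ConjClasses.mk_eq_mk_iff_isConj.2 (isConj_iff.2 ⟨g, rfl⟩)).symm
  have hfib : ∀ y ∈ F, (Finset.univ.filter fun g : Q => g * x * g⁻¹ = y).card = Nat.card K := by
    intro y hy
    obtain ⟨g₀, hg₀⟩ := isConj_iff.1
      (ConjClasses.mk_eq_mk_iff_isConj.1 (Finset.mem_filter.1 hy).2).symm
    rw [← hcent x hxN hx1, Nat.card_eq_fintype_card, Fintype.card_subtype]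
    refine Finset.card_bij' (fun g _ => g₀⁻¹ * g) (fun g _ => g₀ * g) ?_ ?_
      (fun g _ => by group) (fun g _ => by group)
    · intro g hg
      simp only [Finset.mem_filter, Finset.mem_univ, true_and] at hg ⊢
      refine Subgroup.mem_centralizer_singleton_iff.2 ?_
      calc g₀⁻¹ * g * x = g₀⁻¹ * (g * x * g⁻¹) * g := by group
        _ = g₀⁻¹ * (g₀ * x * g₀⁻¹) * g := by rw [hg, hg₀]
        _ = x * (g₀⁻¹ * g) := by group
    · intro g hg
      simp only [Finset.mem_filter, Finset.mem_univ, true_and] at hg ⊢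
      rw [Subgroup.mem_centralizer_singleton_iff] at hg
      calc g₀ * g * x * (g₀ * g)⁻¹ = g₀ * (g * x) * g⁻¹ * g₀⁻¹ := by group
        _ = g₀ * (x * g) * g⁻¹ * g₀⁻¹ := by rw [hg]
        _ = g₀ * x * g₀⁻¹ := by group
        _ = y := hg₀
  have := Finset.card_eq_sum_card_fiberwise hmaps
  rw [Finset.card_univ, Finset.sum_congr rfl hfib, Finset.sum_const, smul_eq_mul,
    ← Nat.card_eq_fintype_card, ← K.index_mul_card] at this
  exact ⟨1, by rw [mul_one]; exact (Nat.eq_of_mul_eq_mul_right Nat.card_pos this).symm⟩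

/-- In a nilpotent group a subgroup supplementing the commutator subgroup is everything. -/
theorem eq_top_of_sup_commutator {Y : Type*} [Group Y] [Finite Y] (hnil : Group.IsNilpotent Y)
    (H : Subgroup Y) (h : H ⊔ commutator Y = ⊤) : H = ⊤ := by
  by_contra hne
  obtain ⟨M, hM, hHM⟩ := (eq_top_or_exists_le_coatom H).resolve_left hne
  haveI := hnil
  haveI : M.Normal := Subgroup.NormalizerCondition.normal_of_coatom M Group.normalizerCondition_of_isNilpotent hM
  haveI : Nontrivial (Y ⧸ M) := QuotientGroup.nontrivial_iff.2 hM.1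
  haveI : Group.IsSolvable (Y ⧸ M) :=
    solvable_of_surjective (QuotientGroup.mk'_surjective M)
  have hlt := Group.IsSolvable.commutator_lt_top_of_nontrivial (Y ⧸ M)
  have hle : M ≤ Subgroup.comap (QuotientGroup.mk' M) (commutator (Y ⧸ M)) :=
    le_trans (by rw [QuotientGroup.ker_mk']) (Subgroup.ker_le_comap _ _)
  have hne' : Subgroup.comap (QuotientGroup.mk' M) (commutator (Y ⧸ M)) ≠ ⊤ := fun e => hlt.ne (by
    rw [← Subgroup.map_comap_eq_self_of_surjective (QuotientGroup.mk'_surjective M)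
      (commutator (Y ⧸ M)), e, Subgroup.map_top_of_surjective _ (QuotientGroup.mk'_surjective M)])
  have heq : Subgroup.comap (QuotientGroup.mk' M) (commutator (Y ⧸ M)) = M := by
    rcases hle.eq_or_lt with e | e
    · exact e.symm
    · exact absurd (hM.2 _ e) hne'
  have hcomm : commutator Y ≤ M := by
    rw [← heq, ← Subgroup.map_le_iff_le_comap, commutator_def, Subgroup.map_commutator]
    exact Subgroup.commutator_mono le_top le_top
  exact hM.1 (top_le_iff.1 (h ▸ sup_le hHM hcomm))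

theorem sq_lt_mul {e a b : ℕ} (he : Odd e) (ha : Odd a) (hb : Odd b) (ha1 : 1 < a) (hb1 : 1 < b)
    (hea : e ∣ a - 1) (heb : e ∣ b - 1) : 4 * e ^ 2 + 1 < a * b := by
  have key : ∀ c, Odd c → 1 < c → e ∣ c - 1 → 2 * e + 1 ≤ c := by
    intro c hc hc1 hec
    have hev : 2 ∣ c - 1 := by obtain ⟨j, rfl⟩ := hc; exact ⟨j, by omega⟩
    have h2 : Nat.Coprime 2 e := Nat.coprime_two_left.2 he
    have := Nat.le_of_dvd (by omega) (h2.mul_dvd_of_dvd_of_dvd hev hec)
    omega
  have := Nat.mul_le_mul (key a ha ha1 hea) (key b hb hb1 heb)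
  have he0 : 0 < e := he.pos
  nlinarith

end Cfsg.Agent.Coherence

namespace Cfsg.Agent.Coherence

/-- For a Frobenius quotient `L / H₁` with kernel `K / H₁`, orders in the kernel are `1` mod the index. -/
theorem index_dvd_relIndex_sub_one {L : Type*} [Group L] [Finite L] (K H₁ : Subgroup L) [H₁.Normal]
    (hle : H₁ ≤ K) (hcomm : ⁅K, K⁆ ≤ H₁)
    (hfrob : ∀ k ∈ K, k ∉ H₁ → ∀ x : L, x * k * x⁻¹ * k⁻¹ ∈ H₁ → x ∈ K)
    (N : Subgroup L) [hN : N.Normal] (hNK : N ≤ K) : K.index ∣ H₁.relIndex N - 1 := by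
  set q := QuotientGroup.mk' H₁ with hq
  haveI : (N.map q).Normal := Subgroup.Normal.map hN q (QuotientGroup.mk'_surjective H₁)
  have hcent : ∀ x ∈ N.map q, x ≠ 1 → Subgroup.centralizer ({x} : Set (L ⧸ H₁)) = K.map q := by
    rintro _ ⟨k, hk, rfl⟩ hne
    have hk1 : k ∉ H₁ := fun h => hne ((QuotientGroup.eq_one_iff k).2 h)
    ext y
    obtain ⟨x, rfl⟩ := QuotientGroup.mk'_surjective H₁ y
    rw [Subgroup.mem_centralizer_singleton_iff]
    constructor
    · intro h
      refine ⟨x, hfrob k (hNK hk) hk1 x ((QuotientGroup.eq_one_iff _).1 ?_), rfl⟩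
      show q (x * k * x⁻¹ * k⁻¹) = 1
      rw [map_mul, map_mul, map_mul, map_inv, map_inv, h, mul_assoc (q k) (q x), mul_inv_cancel,
        mul_one, mul_inv_cancel]
    · rintro ⟨x', hx', he⟩
      rw [← he]
      have h1 : q (x' * k * x'⁻¹ * k⁻¹) = 1 := (QuotientGroup.eq_one_iff _).2
        (hcomm (Subgroup.commutator_mem_commutator hx' (hNK hk)))
      rw [map_mul, map_mul, map_mul, map_inv, map_inv] at h1
      exact mul_inv_eq_iff_eq_mul.1 (mul_inv_eq_one.1 h1)
  have h := index_dvd_card_sub_one (K.map q) (N.map q) hcent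
  rw [Subgroup.index_map_eq _ (QuotientGroup.mk'_surjective H₁)
      (by rw [QuotientGroup.ker_mk']; exact hle),
    ← Subgroup.relIndex_ker, hq, QuotientGroup.ker_mk'] at h
  exact h

end Cfsg.Agent.Coherence
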