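import Cfsg.Agent.Coherence.SibleyTI
import Cfsg.Agent.Lib.CharClifford.Galois

/-!
# Coverings of a group by conjugates of TI kernels
-/

set_option autoImplicit false

namespace Cfsg.Agent.Coherence

open scoped ComplexConjugate

section Local

variable {L : Type*} [Group L] [Fintype L] (K : Subgroup L) [hK : K.Normal]

/-- An irreducible character that is not constant on `K` is induced from `K`. -/
theorem mem_seq_of_irr (hC : ∀ n ∈ K, n ≠ 1 → Subgroup.centralizer ({n} : Set L) ≤ K)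
    {χ : L → ℂ} (hχ : IsIrrCharacter L χ) {k : L} (hk : k ∈ K) (hne : χ k ≠ χ 1) :
    χ ∈ inducedIrrAbove K (⊥ : Subgroup L) := by
  classical
  haveI := Fintype.ofFinite K
  set r : K → ℂ := fun x => χ (x : L) with hr
  have hrc : IsCharacter K r := CharCore.isCharacter_restrict (irr_isCharacter hχ) K
  obtain ⟨θ, hθr, hθ1⟩ : ∃ θ : IrrCharacter K, classInner r θ ≠ 0 ∧
      (θ : K → ℂ) ≠ fun _ => 1 := by
    by_contra hall
    push Not at hall
    refine hne ?_
    have h := CharCore.IsCharacter.eq_sum_classInner hrc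
    have h1 := congrFun h ⟨k, hk⟩
    have h2 := congrFun h 1
    simp only [Finset.sum_apply, Pi.smul_apply, smul_eq_mul] at h1 h2
    have : r ⟨k, hk⟩ = r 1 := by
      rw [h1, h2]
      refine Finset.sum_congr rfl fun ψ _ => ?_
      by_cases h0 : classInner r ψ = 0
      · simp [h0]
      · rw [hall ψ h0]
    simpa [hr] using this
  have hmem : indFun K (θ : K → ℂ) ∈ inducedIrrAbove K (⊥ : Subgroup L) :=
    (mem_seq_iff K).2 ⟨θ, (mem_irrNP K).2 ⟨hθ1, fun a ha => by
      rw [show a = 1 from Subtype.ext (Subgroup.mem_bot.1 ha)]⟩, rfl⟩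
  by_contra hnot
  refine hθr ?_
  have h := CharInd.classInner_indFun_right K (θ : K → ℂ)
    (CharInd.isClassFunction_of_isCharacter (irr_isCharacter hχ))
  rw [irr_inner_ne hχ (frob_seq_irr K hC hmem) fun e => hnot (e ▸ hmem)] at h
  exact h.symm

/-- A class function orthogonal to `zspanOn S {1}ᶜ` is constant on `K \ {1}`. -/
theorem orth_constant (hC : ∀ n ∈ K, n ≠ 1 → Subgroup.centralizer ({n} : Set L) ≤ K) {f : L → ℂ}
    (hf : IsClassFunction L f)
    (horth : ∀ α ∈ zspanOn (inducedIrrAbove K (⊥ : Subgroup L)) ({1}ᶜ : Set L), classInner f α = 0)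
    {x y : L} (hx : x ∈ K) (hx1 : x ≠ 1) (hy : y ∈ K) (hy1 : y ≠ 1) : f x = f y := by
  classical
  obtain ⟨a, ha⟩ : ∃ a : ℂ, ∀ ψ ∈ inducedIrrAbove K (⊥ : Subgroup L),
      classInner f ψ = a * ψ 1 := by
    rcases (inducedIrrAbove K (⊥ : Subgroup L)).eq_empty_or_nonempty with h | ⟨ψ₀, hψ₀⟩
    · exact ⟨0, fun ψ hψ => absurd hψ (by rw [h]; exact Set.notMem_empty ψ)⟩
    obtain ⟨d₀, hd₀, -⟩ := char_one_nat (seq_isCharacter K hψ₀)
    have hd0 : (d₀ : ℂ) ≠ 0 := hd₀ ▸ irr_one_ne_zero (frob_seq_irr K hC hψ₀)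
    refine ⟨classInner f ψ₀ / d₀, fun ψ hψ => ?_⟩
    obtain ⟨d, hd, -⟩ := char_one_nat (seq_isCharacter K hψ)
    have h := horth ((d₀ : ℤ) • ψ - (d : ℤ) • ψ₀) (mem_zspanOn_one.2
      ⟨zspan_sub (zspan_zsmul _ (zspan_subset hψ)) (zspan_zsmul _ (zspan_subset hψ₀)),
        by simp [hd, hd₀]; ring⟩)
    rw [inner_sub_right, inner_zsmul_right, inner_zsmul_right, sub_eq_zero] at h
    push_cast at h
    rw [hd, div_mul_eq_mul_div, eq_div_iff hd0]
    linear_combination h
  have key : ∀ χ : IrrCharacter L, classInner f χ * ((χ : L → ℂ) x - (χ : L → ℂ) y) =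
      a * ((χ : L → ℂ) 1 * (χ : L → ℂ) x - (χ : L → ℂ) 1 * (χ : L → ℂ) y) := by
    intro χ
    by_cases h : (χ : L → ℂ) ∈ inducedIrrAbove K (⊥ : Subgroup L)
    · rw [ha _ h]; ring
    · have hz : ∀ k ∈ K, (χ : L → ℂ) k = (χ : L → ℂ) 1 := fun k hk => by
        by_contra hne
        exact h (mem_seq_of_irr K hC χ.2 hk hne)
      rw [hz x hx, hz y hy]; ring
  have h : f x - f y = ∑ χ : IrrCharacter L,
      classInner f χ * ((χ : L → ℂ) x - (χ : L → ℂ) y) := by
    have h' := CharCore.eq_sum_classInner hf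
    rw [congrFun h' x, congrFun h' y]
    simp only [Finset.sum_apply, Pi.smul_apply, smul_eq_mul, mul_sub, Finset.sum_sub_distrib]
  rw [Finset.sum_congr rfl fun χ _ => key χ, ← Finset.mul_sum, Finset.sum_sub_distrib,
    CharCore.sum_degree_mul_apply, CharCore.sum_degree_mul_apply, if_neg hx1, if_neg hy1, sub_zero,
    mul_zero, sub_eq_zero] at h
  exact h

omit hK in
/-- A constant value of a virtual character on `K \ {1}` is an integer. -/
theorem int_of_constant {f : L → ℂ} (hf : IsGeneralizedCharacter L f) (hK1 : K ≠ ⊥)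
    (hconst : ∀ x ∈ K, x ≠ 1 → ∀ y ∈ K, y ≠ 1 → f x = f y) :
    ∃ n : ℤ, ∀ x ∈ K, x ≠ 1 → f x = n := by
  classical
  haveI := Fintype.ofFinite K
  obtain ⟨z, hz, hz1⟩ := (Subgroup.bot_or_exists_ne_one K).resolve_left hK1
  have hres : IsGeneralizedCharacter K (fun x : K => f x) := by
    obtain ⟨u, w, hu, hw, huw⟩ := hf
    exact ⟨_, _, CharCore.isCharacter_restrict hu K, CharCore.isCharacter_restrict hw K, by
      funext x; simp [huw]⟩
  obtain ⟨k, hk⟩ := inner_gen_int hres (gen_of_char (CharCore.isCharacter_one (G := K)))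
  obtain ⟨d, hd⟩ : ∃ d : ℤ, f 1 = d := by
    obtain ⟨u, w, hu, hw, huw⟩ := hf
    obtain ⟨a, ha, -⟩ := char_one_nat hu
    obtain ⟨b, hb, -⟩ := char_one_nat hw
    exact ⟨(a : ℤ) - b, by simp [huw, ha, hb]⟩
  simp only [classInner, Pi.one_apply, map_one, mul_one] at hk
  have hsum : ∑ x : K, f x = f 1 + ((Fintype.card K : ℂ) - 1) * f z := by
    rw [← Finset.add_sum_erase _ _ (Finset.mem_univ (1 : K)),
      Finset.sum_congr rfl (fun (x : K) hx => hconst x x.2
        (fun e => (Finset.mem_erase.1 hx).1 (Subtype.ext e)) z hz hz1), Finset.sum_const,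
      nsmul_eq_mul, Finset.card_erase_of_mem (Finset.mem_univ _), Finset.card_univ,
      Nat.cast_sub Fintype.card_pos, Nat.cast_one]
    rfl
  rw [hsum, Nat.card_eq_fintype_card, hd] at hk
  have hgt : 1 < Fintype.card K :=
    Fintype.one_lt_card_iff.2 ⟨⟨z, hz⟩, 1, fun e => hz1 (congrArg Subtype.val e)⟩
  have hq : f z = ((((Fintype.card K : ℚ) * k - d) / ((Fintype.card K : ℚ) - 1) : ℚ) : ℂ) := by
    have h0 : ((Fintype.card K : ℂ) - 1) ≠ 0 := by
      rw [sub_ne_zero]; exact_mod_cast hgt.ne'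
    push_cast
    rw [eq_div_iff h0, ← hk, mul_inv_cancel_left₀ (by exact_mod_cast Fintype.card_ne_zero)]
    ring
  obtain ⟨n, hn⟩ := CharClifford.exists_int_of_isIntegral_rat
    (show IsIntegral ℤ _ by rw [← hq]; exact CharClifford.isIntegral_of_isGeneralizedCharacter hf z)
  exact ⟨n, fun x hx hx1 => by rw [hconst x hx hx1 z hz hz1, hq, hn]; simp⟩

omit hK in
theorem zspan_seq_supp [K.Normal] {A : Subgroup L} {α : L → ℂ}
    (hα : α ∈ zspan (inducedIrrAbove K A)) {x : L} (hx : x ∉ K) : α x = 0 := by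
  refine Submodule.span_induction (p := fun β _ => β x = 0) ?_ rfl ?_ ?_ hα
  · rintro φ ⟨θ, -, -, -, rfl⟩
    exact OddChar.indFun_eq_zero_of_notMem K θ hx
  · exact fun a b _ _ ha hb => by simp [ha, hb]
  · exact fun c a _ ha => by simp [ha]

/-- Orthogonality to the images of the members passes to the span. -/
theorem iso_orth {G : Type*} [Group G] [Fintype G] {S : Finset (L → ℂ)}
    {τ₁ : (L → ℂ) → (G → ℂ)} (hτ₁ : IsLinearIsometryOn (zspan (↑S : Set (L → ℂ))) τ₁)
    {χ : G → ℂ} (h : ∀ ψ ∈ S, classInner χ (τ₁ ψ) = 0) {α : L → ℂ}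
    (hα : α ∈ zspan (↑S : Set (L → ℂ))) : classInner χ (τ₁ α) = 0 := by
  obtain ⟨c, rfl⟩ := mem_zspan_finset.1 hα
  rw [iso_zspan_sum hτ₁ S c (fun ψ => ψ) (fun ψ hψ => zspan_subset hψ), inner_sum_right]
  exact Finset.sum_eq_zero fun ψ hψ => by rw [inner_zsmul_right, h ψ hψ, mul_zero]

end Local

section Cover

variable {G : Type*} [Group G] [Fintype G]

/-- `g` is a non-identity element with a conjugate in `H`. -/
def ConjInto (H : Subgroup G) (g : G) : Prop := g ≠ 1 ∧ ∃ y : G, y * g * y⁻¹ ∈ H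

/-- An induced function supported on `H \ {1}` lives on the conjugates of `H \ {1}`. -/
theorem indFun_conjInto (H L : Subgroup G) (α : L → ℂ)
    (hα : ∀ x : L, (x : G) ∉ H ∨ x = 1 → α x = 0) {g : G} (hg : ¬ ConjInto H g) :
    indFun L α g = 0 := by
  rw [CharInd.indFun_apply, Finset.sum_eq_zero, mul_zero]
  intro y _
  by_cases hm : y⁻¹ * g * y ∈ L
  · rw [CharInd.extendByZero_mem _ hm]
    refine hα _ ?_
    by_contra hnot
    push Not at hnot
    refine hg ⟨fun e => hnot.2 (Subtype.ext (by simp [e])), y⁻¹, ?_⟩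
    rw [inv_inv]
    exact hnot.1
  · exact CharInd.extendByZero_notMem _ hm

/-- Functions living on conjugates of kernels of coprime orders are orthogonal. -/
theorem inner_eq_zero_of_conjInto (H H' : Subgroup G)
    (hcop : Nat.Coprime (Nat.card H) (Nat.card H')) {F F' : G → ℂ}
    (hF : ∀ g, ¬ ConjInto H g → F g = 0) (hF' : ∀ g, ¬ ConjInto H' g → F' g = 0) :
    classInner F F' = 0 := by
  rw [classInner, Finset.sum_eq_zero, mul_zero]
  intro g _
  by_cases h : ConjInto H g
  · by_cases h' : ConjInto H' g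
    · exfalso
      obtain ⟨hg1, y, hy⟩ := h
      obtain ⟨-, y', hy'⟩ := h'
      have e : ∀ u : G, orderOf (u * g * u⁻¹) = orderOf g := fun u => by
        rw [← MulAut.conj_apply, MulEquiv.orderOf_eq]
      have d1 : orderOf g ∣ Nat.card H := by
        rw [← e y, ← Subgroup.orderOf_mk _ hy]; exact orderOf_dvd_natCard _
      have d2 : orderOf g ∣ Nat.card H' := by
        rw [← e y', ← Subgroup.orderOf_mk _ hy']; exact orderOf_dvd_natCard _
      exact hg1 (orderOf_eq_one_iff.1 (Nat.dvd_one.1 (hcop ▸ Nat.dvd_gcd d1 d2)))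
    · rw [hF' g h', map_zero, mul_zero]
  · rw [hF g h, zero_mul]

open Classical in
/-- The indicator of `H \ {1}` on `L`. -/
noncomputable def kernelIndicator (H L : Subgroup G) : L → ℂ :=
  fun x => if (x : G) ∈ H ∧ x ≠ 1 then 1 else 0

open Classical in
theorem indFun_kernelIndicator (H L : Subgroup G) [(H.subgroupOf L).Normal] (hHL : H ≤ L)
    (hTI : IsTISubset (H : Set G)) (hN : Subgroup.normalizer (H : Set G) = L) (g : G) :
    indFun L (kernelIndicator H L) g = if ConjInto H g then 1 else 0 := by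
  by_cases h : ConjInto H g
  · rw [if_pos h]
    obtain ⟨hg1, y, hy⟩ := h
    rw [← CharInd.isClassFunction_indFun L (kernelIndicator H L) g y]
    subst hN
    have hcl : IsClassFunction _ (kernelIndicator H (Subgroup.normalizer (H : Set G))) := by
      intro a b
      have hiff : ∀ u v : Subgroup.normalizer (H : Set G),
          (u : G) ∈ H → ((v * u * v⁻¹ : Subgroup.normalizer (H : Set G)) : G) ∈ H :=
        fun u v hu => Subgroup.mem_subgroupOf.1
          (Subgroup.Normal.conj_mem ‹_› u (Subgroup.mem_subgroupOf.2 hu) v)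
      unfold kernelIndicator
      refine if_congr ⟨fun ⟨h1, h2⟩ => ⟨?_, fun e => h2 (by rw [e]; group)⟩,
        fun ⟨h1, h2⟩ => ⟨hiff a b h1, fun e => h2 (conj_eq_one_iff.1 e)⟩⟩ rfl rfl
      have := hiff _ b⁻¹ h1
      simpa [mul_assoc] using this
    have hne : y * g * y⁻¹ ≠ 1 := fun e => hg1 (conj_eq_one_iff.1 e)
    have := CharCore.indFun_eq_on_ti (H : Set G) hTI _ hcl
      (fun x hx => if_neg fun h => hx h.1) ⟨_, hHL hy⟩ hy (fun e => hne (congrArg Subtype.val e))
    rw [this]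
    exact if_pos ⟨hy, fun e => hne (congrArg Subtype.val e)⟩
  · rw [if_neg h]
    exact indFun_conjInto H L _ (fun x hx => if_neg fun h' => hx.elim (· h'.1) h'.2) h

open Classical in
/-- Averaging a class function over a covering by conjugates of TI kernels. -/
theorem cover_sum {ι : Type*} [Fintype ι] (H L : ι → Subgroup G) [∀ i, Fintype (L i)]
    [∀ i, ((H i).subgroupOf (L i)).Normal] (hHL : ∀ i, H i ≤ L i)
    (hTI : ∀ i, IsTISubset (H i : Set G)) (hN : ∀ i, Subgroup.normalizer (H i : Set G) = L i)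
    (hcop : ∀ i j, i ≠ j → Nat.Coprime (Nat.card (H i)) (Nat.card (H j)))
    (hcover : ∀ g : G, g ≠ 1 → ∃ i, ∃ x : G, x * g * x⁻¹ ∈ H i)
    (F : G → ℂ) (hF : IsClassFunction G F) :
    ∑ i, (Nat.card (L i) : ℂ)⁻¹ *
        ∑ x ∈ Finset.univ.filter (fun x : L i => (x : G) ∈ H i ∧ x ≠ 1), F x =
      (Nat.card G : ℂ)⁻¹ * ∑ g ∈ Finset.univ.erase (1 : G), F g := by
  have h1 : ∀ g : G, ∑ i, indFun (L i) (kernelIndicator (H i) (L i)) g =
      if g = 1 then 0 else 1 := by
    intro g
    simp only [indFun_kernelIndicator _ _ (hHL _) (hTI _) (hN _)]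
    split_ifs with hg
    · exact Finset.sum_eq_zero fun i _ => if_neg fun h => h.1 hg
    · obtain ⟨i, y, hy⟩ := hcover g hg
      rw [Finset.sum_eq_single i (fun j _ hj => if_neg ?_) (by simp), if_pos ⟨hg, y, hy⟩]
      rintro ⟨-, y', hy'⟩
      have e : ∀ u : G, orderOf (u * g * u⁻¹) = orderOf g := fun u => by
        rw [← MulAut.conj_apply, MulEquiv.orderOf_eq]
      have d1 : orderOf g ∣ Nat.card (H i) := by
        rw [← e y, ← Subgroup.orderOf_mk _ hy]; exact orderOf_dvd_natCard _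
      have d2 : orderOf g ∣ Nat.card (H j) := by
        rw [← e y', ← Subgroup.orderOf_mk _ hy']; exact orderOf_dvd_natCard _
      exact hg (orderOf_eq_one_iff.1 (Nat.dvd_one.1 ((hcop i j (Ne.symm hj)) ▸ Nat.dvd_gcd d1 d2)))
  have h2 : ∀ i, (Nat.card (L i) : ℂ)⁻¹ *
        ∑ x ∈ Finset.univ.filter (fun x : L i => (x : G) ∈ H i ∧ x ≠ 1), F x =
      classInner F (indFun (L i) (kernelIndicator (H i) (L i))) := by
    intro i
    rw [CharInd.classInner_indFun_right _ _ hF]
    simp [classInner, kernelIndicator, Finset.sum_filter]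
  rw [Finset.sum_congr rfl fun i _ => h2 i, ← inner_sum_right]
  unfold classInner
  congr 1
  rw [← Finset.add_sum_erase _ _ (Finset.mem_univ (1 : G))]
  simp only [Finset.sum_apply, h1, if_true, map_zero, mul_zero, zero_add]
  exact Finset.sum_congr rfl fun g hg => by rw [if_neg (Finset.mem_erase.1 hg).1, map_one, mul_one]

end Cover

end Cfsg.Agent.Coherence
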