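import Cfsg.Agent.Coherence.Virtual

/-!
# Extension of coherence, orthogonal projections and Bessel identities
-/

set_option autoImplicit false

namespace Cfsg.Agent.Coherence

open scoped ComplexConjugate

universe u v

variable {L : Type u} [Group L] [Fintype L] {G : Type v} [Group G] [Fintype G]

section Extend

variable {S S₀ : Finset (L → ℂ)} {τ τ₁ : (L → ℂ) → (G → ℂ)}

/-- Extension of a coherent piece: every new member `φ` is anchored at `χ₁`, and the image of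
`k • χ₁ - φ` has the expected inner products with the images of the old members. -/
theorem coherent_extend (hsub : S₀ ⊆ S) (h0 : ∀ φ ∈ S, φ ≠ 0)
    (horth : ∀ φ ∈ S, ∀ ψ ∈ S, φ ≠ ψ → classInner φ ψ = 0)
    (hτ : IsLinearIsometryOn (zspanOn (↑S : Set (L → ℂ)) {1}ᶜ) τ)
    (hτ₁ : IsLinearIsometryOn (zspan (↑S₀ : Set (L → ℂ))) τ₁)
    (hag : ∀ α ∈ zspanOn (↑S₀ : Set (L → ℂ)) {1}ᶜ, τ₁ α = τ α)
    {χ₁ : L → ℂ} (hχ₁ : χ₁ ∈ S₀)
    (hext : ∀ φ ∈ S, φ ∉ S₀ → ∃ k : ℤ, (k • χ₁ - φ) 1 = 0 ∧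
      ∀ ψ ∈ S₀, classInner (τ (k • χ₁ - φ)) (τ₁ ψ) = classInner (k • χ₁ - φ) ψ)
    (hne : ∃ α ∈ zspanOn (↑S : Set (L → ℂ)) {1}ᶜ, α ≠ 0) :
    IsCoherent (↑S : Set (L → ℂ)) {1}ᶜ τ := by
  classical
  have hex : ∀ φ, ∃ k : ℤ, φ ∈ S → φ ∉ S₀ → (k • χ₁ - φ) 1 = 0 ∧
      ∀ ψ ∈ S₀, classInner (τ (k • χ₁ - φ)) (τ₁ ψ) = classInner (k • χ₁ - φ) ψ := by
    intro φ
    by_cases h : φ ∈ S ∧ φ ∉ S₀
    · obtain ⟨k, hk⟩ := hext φ h.1 h.2
      exact ⟨k, fun _ _ => hk⟩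
    · exact ⟨0, fun a b => absurd ⟨a, b⟩ h⟩
  choose k hk using hex
  obtain ⟨θ, hθdef⟩ : ∃ θ : (L → ℂ) → (L → ℂ), ∀ φ, θ φ = k φ • χ₁ - φ := ⟨_, fun _ => rfl⟩
  have hθmem : ∀ φ ∈ S, φ ∉ S₀ → θ φ ∈ zspanOn (↑S : Set (L → ℂ)) {1}ᶜ := fun φ h1 h2 => by
    rw [hθdef]
    exact mem_zspanOn_one.2
      ⟨zspan_sub (zspan_zsmul _ (zspan_subset (hsub hχ₁))) (zspan_subset h1), (hk φ h1 h2).1⟩
  have hin : ∀ φ ∈ S, φ ∉ S₀ → ∀ ψ ∈ S₀,
      classInner (τ (θ φ)) (τ₁ ψ) = classInner (θ φ) ψ := fun φ h1 h2 ψ h3 => by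
    rw [hθdef]; exact (hk φ h1 h2).2 ψ h3
  set f : (L → ℂ) → (G → ℂ) :=
    fun φ => if φ ∈ S₀ then τ₁ φ else k φ • τ₁ χ₁ - τ (θ φ) with hf
  have hf0 : ∀ φ ∈ S₀, f φ = τ₁ φ := fun φ h => if_pos h
  have hf1 : ∀ φ, φ ∉ S₀ → f φ = k φ • τ₁ χ₁ - τ (θ φ) := fun φ h => if_neg h
  have hmix : ∀ φ ∈ S, φ ∉ S₀ → ∀ ψ ∈ S₀, classInner (f φ) (f ψ) = classInner φ ψ := by
    intro φ h1 h2 ψ h3
    rw [hf1 φ h2, hf0 ψ h3, inner_sub_left, inner_zsmul_left,
      hτ₁.2.2.1 _ (zspan_subset hχ₁) _ (zspan_subset h3), hin φ h1 h2 ψ h3, hθdef,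
      inner_sub_left, inner_zsmul_left]
    ring
  have hgram : ∀ φ ∈ S, ∀ ψ ∈ S, classInner (f φ) (f ψ) = classInner φ ψ := by
    intro φ hφ ψ hψ
    by_cases h1 : φ ∈ S₀
    · by_cases h2 : ψ ∈ S₀
      · rw [hf0 φ h1, hf0 ψ h2]
        exact hτ₁.2.2.1 _ (zspan_subset h1) _ (zspan_subset h2)
      · rw [← inner_conj_symm, hmix ψ hψ h2 φ h1, inner_conj_symm]
    · by_cases h2 : ψ ∈ S₀
      · exact hmix φ hφ h1 ψ h2
      · rw [hf1 φ h1, hf1 ψ h2]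
        simp only [inner_sub_left, inner_sub_right, inner_zsmul_left, inner_zsmul_right]
        rw [hτ₁.2.2.1 _ (zspan_subset hχ₁) _ (zspan_subset hχ₁), hin φ hφ h1 χ₁ hχ₁,
          ← inner_conj_symm (τ (θ ψ)) (τ₁ χ₁), hin ψ hψ h2 χ₁ hχ₁, inner_conj_symm,
          hτ.2.2.1 _ (hθmem φ hφ h1) _ (hθmem ψ hψ h2), hθdef, hθdef]
        simp only [inner_sub_left, inner_sub_right, inner_zsmul_left, inner_zsmul_right]
        ring
  have hfgen : ∀ φ ∈ S, IsGeneralizedCharacter G (f φ) := by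
    intro φ hφ
    by_cases h1 : φ ∈ S₀
    · rw [hf0 φ h1]; exact hτ₁.2.2.2 _ (zspan_subset h1)
    · rw [hf1 φ h1]
      exact gen_sub (gen_zsmul (hτ₁.2.2.2 _ (zspan_subset hχ₁)) _)
        (hτ.2.2.2 _ (hθmem φ hφ h1))
  refine ⟨hne, orthExt S f, orthExt_isometry S f h0 horth hgram
    (fun c => gen_sum _ _ fun φ hφ => gen_zsmul (hfgen φ hφ) _), ?_⟩
  intro α hα
  obtain ⟨hαs, hα1⟩ := mem_zspanOn_one.1 hα
  obtain ⟨c, rfl⟩ := mem_zspan_finset.1 hαs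
  rw [orthExt_sum_self f h0 horth]
  set T := S \ S₀ with hT
  have hmemT : ∀ φ ∈ T, φ ∈ S ∧ φ ∉ S₀ := fun φ h => Finset.mem_sdiff.1 h
  set β := (∑ φ ∈ S₀, c φ • φ) + (∑ φ ∈ T, c φ * k φ) • χ₁ with hβ
  set γ := ∑ φ ∈ T, c φ • θ φ with hγ
  have hαβ : ∑ φ ∈ S, c φ • φ = β - γ := by
    rw [hβ, hγ, ← Finset.sum_sdiff hsub]
    simp only [hθdef, smul_sub, Finset.sum_sub_distrib, smul_smul, Finset.sum_smul]
    abel
  have hγmem : γ ∈ zspanOn (↑S : Set (L → ℂ)) {1}ᶜ :=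
    zspanOn_sum _ _ fun φ hφ => zspanOn_zsmul _ (hθmem φ (hmemT φ hφ).1 (hmemT φ hφ).2)
  have hβmem : β ∈ zspanOn (↑S₀ : Set (L → ℂ)) {1}ᶜ := by
    refine mem_zspanOn_one.2 ⟨zspan_add (zspan_sum _ _ fun φ hφ => zspan_zsmul _ (zspan_subset hφ))
      (zspan_zsmul _ (zspan_subset hχ₁)), ?_⟩
    have h1 : (∑ φ ∈ S, c φ • φ : L → ℂ) 1 = β 1 - γ 1 := by rw [hαβ]; rfl
    rw [hα1, (mem_zspanOn_one.1 hγmem).2, sub_zero] at h1
    exact h1.symm
  have hneg : -γ ∈ zspanOn (↑S : Set (L → ℂ)) {1}ᶜ := by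
    simpa using zspanOn_zsmul (-1) hγmem
  have hτγ : τ γ = ∑ φ ∈ T, c φ • τ (θ φ) := by
    rw [hγ, (iso_map_sum hτ (zspanOn_zero _ _) (fun a ha b hb => zspanOn_add ha hb) T _
      (fun φ hφ => zspanOn_zsmul _ (hθmem φ (hmemT φ hφ).1 (hmemT φ hφ).2))).2]
    exact Finset.sum_congr rfl fun φ hφ =>
      hτ.2.1 _ (hθmem φ (hmemT φ hφ).1 (hmemT φ hφ).2) _
  rw [hαβ, iso_map_sub hτ (zspanOn_mono (Finset.coe_subset.2 hsub) _ hβmem) hγmem hneg,
    ← hag β hβmem, hτγ, hβ,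
    hτ₁.1 _ (zspan_sum _ _ fun φ hφ => zspan_zsmul _ (zspan_subset hφ)) _
      (zspan_zsmul _ (zspan_subset hχ₁)),
    iso_zspan_sum hτ₁ S₀ c (fun φ => φ) (fun φ hφ => zspan_subset hφ),
    hτ₁.2.1 _ (zspan_subset hχ₁), ← Finset.sum_sdiff hsub]
  have hs0 : ∑ φ ∈ S₀, c φ • f φ = ∑ φ ∈ S₀, c φ • τ₁ φ :=
    Finset.sum_congr rfl fun φ hφ => by rw [hf0 φ hφ]
  have hsT : ∑ φ ∈ T, c φ • f φ = ∑ φ ∈ T, c φ • (k φ • τ₁ χ₁ - τ (θ φ)) :=
    Finset.sum_congr rfl fun φ hφ => by rw [hf1 φ (hmemT φ hφ).2]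
  rw [hs0, hsT]
  simp only [smul_sub, Finset.sum_sub_distrib, smul_smul, Finset.sum_smul]
  abel

end Extend

section Proj

/-- Orthogonal projection on an orthonormal finite set. -/
noncomputable def proj (R : Finset (G → ℂ)) (ξ : G → ℂ) : G → ℂ :=
  ∑ α ∈ R, classInner ξ α • α

/-- `R` is orthonormal. -/
def Orthonormal (R : Finset (G → ℂ)) : Prop :=
  ∀ α ∈ R, ∀ β ∈ R, classInner α β = if α = β then 1 else 0

variable {R : Finset (G → ℂ)} {ξ η : G → ℂ}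

theorem inner_proj_of_orth (h : ∀ α ∈ R, classInner α η = 0) :
    classInner (proj R ξ) η = 0 := by
  rw [proj, inner_sum_left]
  exact Finset.sum_eq_zero fun α hα => by rw [inner_smul_left, h α hα, mul_zero]

theorem inner_proj_self (hR : Orthonormal R) {α : G → ℂ} (hα : α ∈ R) :
    classInner (proj R ξ) α = classInner ξ α := by
  rw [proj, inner_sum_left, Finset.sum_eq_single α]
  · rw [inner_smul_left, hR α hα α hα, if_pos rfl, mul_one]
  · intro β hβ hne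
    rw [inner_smul_left, hR β hβ α hα, if_neg hne, mul_zero]
  · exact fun h => absurd hα h

theorem inner_proj_sum (hR : Orthonormal R) {A : Finset (G → ℂ)} (hA : A ⊆ R) :
    classInner (proj R ξ) (∑ α ∈ A, α) = classInner ξ (∑ α ∈ A, α) := by
  rw [inner_sum_right, inner_sum_right]
  exact Finset.sum_congr rfl fun α hα => inner_proj_self hR (hA hα)

theorem inner_proj_proj (hR : Orthonormal R) :
    classInner (proj R ξ) (proj R η) = classInner ξ (proj R η) := by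
  conv_lhs => rw [proj.eq_def R η]
  conv_rhs => rw [proj.eq_def R η]
  rw [inner_sum_right, inner_sum_right]
  exact Finset.sum_congr rfl fun α hα => by
    rw [inner_smul_right, inner_smul_right, inner_proj_self hR hα]

theorem proj_congr (h : ∀ α ∈ R, classInner ξ α = classInner η α) :
    proj R ξ = proj R η :=
  Finset.sum_congr rfl fun α hα => by rw [h α hα]

theorem proj_pythag (hR : Orthonormal R) :
    normSqFn ξ = normSqFn (proj R ξ) + normSqFn (ξ - proj R ξ) := by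
  apply Complex.ofReal_injective
  push_cast
  simp only [← inner_self, inner_sub_left, inner_sub_right]
  rw [inner_proj_proj hR, ← inner_conj_symm (proj R ξ) ξ]
  have hreal : conj (classInner (proj R ξ) (proj R ξ)) = classInner (proj R ξ) (proj R ξ) :=
    inner_conj_symm _ _
  rw [inner_proj_proj hR] at hreal
  have h2 : conj (classInner (proj R ξ) ξ) = classInner ξ (proj R ξ) := inner_conj_symm _ _
  have h3 : classInner (proj R ξ) ξ = classInner ξ (proj R ξ) := by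
    rw [← inner_conj_symm ξ (proj R ξ), hreal]
  rw [h2, h3]
  ring

theorem proj_gen (hv : ∀ α ∈ R, IsGeneralizedCharacter G α) (hξ : IsGeneralizedCharacter G ξ) :
    IsGeneralizedCharacter G (proj R ξ) := by
  refine gen_sum _ _ fun α hα => ?_
  obtain ⟨n, hn⟩ := inner_gen_int hξ (hv α hα)
  rw [hn, Int.cast_smul_eq_zsmul]
  exact gen_zsmul (hv α hα) n

theorem proj_norm_ge (hR : Orthonormal R) (hv : ∀ α ∈ R, IsGeneralizedCharacter G α)
    (hξ : IsGeneralizedCharacter G ξ) {m : ℝ} (hm : classInner ξ (∑ α ∈ R, α) = (m : ℂ)) :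
    |m| ≤ normSqFn (proj R ξ) := by
  classical
  have hex : ∀ α, ∃ n : ℤ, α ∈ R → classInner ξ α = n := by
    intro α
    by_cases h : α ∈ R
    · exact (inner_gen_int hξ (hv α h)).imp fun n hn _ => hn
    · exact ⟨0, fun h' => absurd h' h⟩
  choose a ha using hex
  have hnorm : normSqFn (proj R ξ) = ∑ α ∈ R, ((a α : ℝ)) ^ 2 := by
    apply Complex.ofReal_injective
    rw [← inner_self, inner_proj_proj hR, proj, inner_sum_right]
    push_cast
    refine Finset.sum_congr rfl fun α hα => ?_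
    rw [inner_smul_right, ha α hα, map_intCast]
    ring
  have hsum : m = ∑ α ∈ R, (a α : ℝ) := by
    apply Complex.ofReal_injective
    rw [← hm, inner_sum_right]
    push_cast
    exact Finset.sum_congr rfl fun α hα => ha α hα
  rw [hnorm, hsum]
  refine (Finset.abs_sum_le_sum_abs _ _).trans (Finset.sum_le_sum fun α _ => ?_)
  have : |a α| ≤ a α ^ 2 := by
    rw [← sq_abs (a α)]
    exact Int.le_self_sq _
  exact_mod_cast this

theorem eq_proj_of_norm_le (hR : Orthonormal R) (h : normSqFn ξ ≤ normSqFn (proj R ξ)) :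
    ξ = proj R ξ :=
  sub_eq_zero.1 (normSqFn_eq_zero.1 (le_antisymm
    (by linarith [proj_pythag (ξ := ξ) hR]) (normSqFn_nonneg _)))

theorem inner_sum_sum (hR : Orthonormal R) {A B : Finset (G → ℂ)} (hAB : A ⊆ B) (hB : B ⊆ R) :
    classInner (∑ α ∈ A, α) (∑ α ∈ B, α) = (A.card : ℂ) := by
  rw [inner_sum_left, Finset.card_eq_sum_ones, Nat.cast_sum]
  refine Finset.sum_congr rfl fun α hα => ?_
  rw [inner_sum_right, Finset.sum_eq_single α
    (fun β hβ hne => by rw [hR α (hB (hAB hα)) β (hB hβ), if_neg (Ne.symm hne)])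
    (fun h => absurd (hAB hα) h), hR α (hB (hAB hα)) α (hB (hAB hα)), if_pos rfl]
  simp

/-- Bessel identity for an orthogonal family with real inner products. -/
theorem bessel {ι : Type*} (s : Finset ι) (g : ι → G → ℂ) (N b : ι → ℝ)
    (hN : ∀ i ∈ s, N i ≠ 0) (hgg : ∀ i ∈ s, classInner (g i) (g i) = (N i : ℂ))
    (horth : ∀ i ∈ s, ∀ j ∈ s, i ≠ j → classInner (g i) (g j) = 0)
    (hb : ∀ i ∈ s, classInner ξ (g i) = (b i : ℂ)) :
    normSqFn ξ = normSqFn (ξ - ∑ i ∈ s, ((b i / N i : ℝ) : ℂ) • g i) +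
      ∑ i ∈ s, b i ^ 2 / N i := by
  apply Complex.ofReal_injective
  push_cast
  simp only [← inner_self, inner_sub_left, inner_sub_right, inner_sum_left, inner_sum_right,
    inner_smul_left, inner_smul_right, map_div₀, Complex.conj_ofReal]
  have h2 : ∑ i ∈ s, (b i : ℂ) / (N i : ℂ) * classInner (g i) ξ =
      ∑ i ∈ s, (b i : ℂ) ^ 2 / (N i : ℂ) :=
    Finset.sum_congr rfl fun i hi => by
      rw [← inner_conj_symm ξ, hb i hi, Complex.conj_ofReal]; ring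
  have h3 : ∀ j ∈ s, (∑ i ∈ s, (b i : ℂ) / (N i : ℂ) * classInner (g i) (g j)) = (b j : ℂ) := by
    intro j hj
    rw [Finset.sum_eq_single j (fun i hi hne => by rw [horth i hi j hj hne, mul_zero])
      (fun h => absurd hj h), hgg j hj, div_mul_cancel₀ _ (by exact_mod_cast hN j hj)]
  have h4 : ∑ j ∈ s, (b j : ℂ) / (N j : ℂ) *
      (classInner ξ (g j) - ∑ i ∈ s, (b i : ℂ) / (N i : ℂ) * classInner (g i) (g j)) = 0 :=
    Finset.sum_eq_zero fun j hj => by rw [hb j hj, h3 j hj, sub_self, mul_zero]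
  rw [h2, h4]
  ring

end Proj

end Cfsg.Agent.Coherence
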