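import Cfsg.Agent.CharDeep.Expand
import Cfsg.Agent.OddChar.Normal
import Cfsg.Agent.Coherence.Irr

/-!
# Irreducible characters of a normal subgroup fixed by an element; Frobenius-type induction
-/

set_option autoImplicit false

namespace Cfsg.Agent.Coherence

open OddChar

variable {M : Type*} [Group M] [Finite M] (H : Subgroup M) [hN : H.Normal]

/-- Brauer's permutation lemma, for one element acting on a normal subgroup. -/
theorem exists_fixed_irr_iff (x : M) :
    (∃ θ : H → ℂ, IsIrrCharacter H θ ∧ θ ≠ (fun _ => 1) ∧ conjBy H x θ = θ) ↔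
      ∃ h : H, h ≠ 1 ∧ IsConj (MulAut.conjNormal x h) h := by
  classical
  haveI := Fintype.ofFinite M
  set f : H →* H := (MulAut.conjNormal x : MulAut H).toMonoidHom with hf
  set σ : IrrCharacter H → IrrCharacter H := fun χ => ⟨conjBy H x χ.1, conjBy_isIrr H x χ.2⟩
  have hcard := CharDeep.card_fixed_irr_eq σ (ConjClasses.map f) (fun χ g g' he => by
    obtain ⟨c, hc⟩ := isConj_iff.1 (ConjClasses.mk_eq_mk_iff_isConj.1 he)
    show conjBy H x χ.1 g = χ.1 g'
    rw [← hc, CharCore.irr_isClassFunction χ]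
    rfl)
  haveI : Finite (ConjClasses H) := Finite.of_surjective _ ConjClasses.mk_surjective
  let one : {χ : IrrCharacter H // σ χ = χ} :=
    ⟨⟨fun _ => 1, CharCore.isIrrCharacter_one⟩, Subtype.ext (funext fun _ => rfl)⟩
  let oneC : {C : ConjClasses H // ConjClasses.map f C = C} :=
    ⟨ConjClasses.mk 1, by show ConjClasses.mk (f 1) = _; rw [map_one]⟩
  constructor
  · rintro ⟨θ, hθ, hne, hfix⟩
    haveI : Nontrivial {χ : IrrCharacter H // σ χ = χ} :=
      ⟨⟨⟨θ, hθ⟩, Subtype.ext hfix⟩, one, fun e => hne (congrArg (fun z => z.1.1) e)⟩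
    have h1 : 1 < Nat.card {C : ConjClasses H // ConjClasses.map f C = C} := by
      rw [← hcard]; exact Finite.one_lt_card
    haveI := Finite.one_lt_card_iff_nontrivial.1 h1
    obtain ⟨⟨C, hC⟩, hCne⟩ := exists_ne oneC
    obtain ⟨h, rfl⟩ := ConjClasses.exists_rep C
    exact ⟨h, fun e => hCne (Subtype.ext (congrArg ConjClasses.mk e)),
      ConjClasses.mk_eq_mk_iff_isConj.1 hC⟩
  · rintro ⟨h, hne, hfix⟩
    haveI : Nontrivial {C : ConjClasses H // ConjClasses.map f C = C} :=
      ⟨⟨ConjClasses.mk h, ConjClasses.mk_eq_mk_iff_isConj.2 hfix⟩, oneC, fun e => hne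
        (isConj_one_right.1 (ConjClasses.mk_eq_mk_iff_isConj.1 (congrArg Subtype.val e)).symm)⟩
    have h1 : 1 < Nat.card {χ : IrrCharacter H // σ χ = χ} := by
      rw [hcard]; exact Finite.one_lt_card
    haveI := Finite.one_lt_card_iff_nontrivial.1 h1
    obtain ⟨⟨⟨θ, hθ⟩, hfix'⟩, hne'⟩ := exists_ne one
    exact ⟨θ, hθ, fun e => hne' (Subtype.ext (Subtype.ext e)), congrArg Subtype.val hfix'⟩

/-- If only the elements of `H` fix `θ`, then `θ` induces irreducibly. -/
theorem indFun_irr_of_stabilizer {G : Type*} [Group G] [Fintype G] (N : Subgroup G) [N.Normal]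
    {θ : N → ℂ} (hθ : IsIrrCharacter N θ) (hst : ∀ x : G, conjBy N x θ = θ → x ∈ N) :
    IsIrrCharacter G (indFun N θ) := by
  classical
  refine CharCore.isIrrCharacter_iff.2 ⟨CharInd.isCharacter_indFun N (irr_isCharacter hθ), ?_⟩
  have hterm : ∀ g : G, classInner θ (conjBy N g θ) = if g ∈ N then 1 else 0 := by
    intro g
    split_ifs with hg
    · have he : conjBy N g θ = θ := by
        funext h
        show θ _ = θ h
        conv_rhs => rw [← CharCore.IsCharacter.isClassFunction (irr_isCharacter hθ) h ⟨g, hg⟩]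
        rfl
      rw [he, irr_inner_self hθ]
    · exact irr_inner_ne hθ (conjBy_isIrr N g hθ) fun e => hg (hst g e.symm)
  rw [classInner_indFun_normal, Finset.sum_congr rfl (fun g _ => hterm g),
    ← Finset.natCast_card_filter, ← Fintype.card_subtype,
    inv_mul_eq_one₀ (Nat.cast_ne_zero.2 Nat.card_pos.ne'), Nat.card_eq_fintype_card]

/-- In a Frobenius-type situation only `N` fixes a non-principal irreducible character of `N`. -/
theorem fixed_mem_of_centralizer_le {G : Type*} [Group G] [Finite G] (N : Subgroup G) [N.Normal]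
    (hC : ∀ n ∈ N, n ≠ 1 → Subgroup.centralizer ({n} : Set G) ≤ N) {θ : N → ℂ}
    (hθ : IsIrrCharacter N θ) (hne : θ ≠ fun _ => 1) {x : G} (hx : conjBy N x θ = θ) : x ∈ N := by
  obtain ⟨h, hh, hc⟩ := (exists_fixed_irr_iff N x).1 ⟨θ, hθ, hne, hx⟩
  obtain ⟨k, hk⟩ := isConj_iff.1 hc
  have hk' : (k : G) * (x * h * x⁻¹) * (k : G)⁻¹ = h := by
    have := congrArg Subtype.val hk
    simpa using this
  have hmem : (k : G) * x ∈ N := hC h h.2 (fun e => hh (Subtype.ext e))
    (Subgroup.mem_centralizer_singleton_iff.2 (by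
      calc (k : G) * x * h = (k : G) * (x * h * x⁻¹) * (k : G)⁻¹ * ((k : G) * x) := by group
        _ = (h : G) * ((k : G) * x) := by rw [hk']))
  simpa using N.mul_mem (N.inv_mem k.2) hmem

end Cfsg.Agent.Coherence
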