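import Cfsg.Agent.Coherence.Inner
import Cfsg.Agent.Lib.CharInd.Char
import Cfsg.Agent.Lib.CharClifford.Eigen

/-!
# Virtual characters: closure, integrality of inner products, degrees
-/

set_option autoImplicit false

namespace Cfsg.Agent.Coherence

open scoped ComplexConjugate

universe u

variable {G : Type u} [Group G]

theorem gen_zero : IsGeneralizedCharacter G (0 : G → ℂ) :=
  ⟨0, 0, CharInd.isCharacter_zero, CharInd.isCharacter_zero, by simp⟩

theorem gen_of_char {χ : G → ℂ} (h : IsCharacter G χ) : IsGeneralizedCharacter G χ :=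
  ⟨χ, 0, h, CharInd.isCharacter_zero, by simp⟩

theorem gen_add {α β : G → ℂ} (hα : IsGeneralizedCharacter G α)
    (hβ : IsGeneralizedCharacter G β) : IsGeneralizedCharacter G (α + β) := by
  obtain ⟨a, b, ha, hb, rfl⟩ := hα
  obtain ⟨c, d, hc, hd, rfl⟩ := hβ
  exact ⟨a + c, b + d, CharInd.isCharacter_add ha hc, CharInd.isCharacter_add hb hd, by abel⟩

theorem gen_neg {α : G → ℂ} (hα : IsGeneralizedCharacter G α) :
    IsGeneralizedCharacter G (-α) := by
  obtain ⟨a, b, ha, hb, rfl⟩ := hα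
  exact ⟨b, a, hb, ha, by abel⟩

theorem gen_sub {α β : G → ℂ} (hα : IsGeneralizedCharacter G α)
    (hβ : IsGeneralizedCharacter G β) : IsGeneralizedCharacter G (α - β) := by
  rw [sub_eq_add_neg]; exact gen_add hα (gen_neg hβ)

theorem gen_nsmul {α : G → ℂ} (hα : IsGeneralizedCharacter G α) (n : ℕ) :
    IsGeneralizedCharacter G (n • α) := by
  induction n with
  | zero => simpa using gen_zero
  | succ n ih => rw [succ_nsmul]; exact gen_add ih hα

theorem gen_zsmul {α : G → ℂ} (hα : IsGeneralizedCharacter G α) (n : ℤ) :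
    IsGeneralizedCharacter G (n • α) := by
  obtain ⟨m, rfl | rfl⟩ := Int.eq_nat_or_neg n
  · rw [natCast_zsmul]; exact gen_nsmul hα m
  · rw [neg_smul, natCast_zsmul]; exact gen_neg (gen_nsmul hα m)

theorem gen_sum {ι : Type*} (s : Finset ι) (f : ι → G → ℂ)
    (h : ∀ i ∈ s, IsGeneralizedCharacter G (f i)) : IsGeneralizedCharacter G (∑ i ∈ s, f i) := by
  classical
  induction s using Finset.induction_on with
  | empty => simpa using gen_zero
  | insert a t ha ih =>
    rw [Finset.sum_insert ha]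
    exact gen_add (h a (Finset.mem_insert_self a t))
      (ih fun i hi => h i (Finset.mem_insert_of_mem hi))

theorem char_one_nat {χ : G → ℂ} (h : IsCharacter G χ) :
    ∃ n : ℕ, χ 1 = n ∧ (χ ≠ 0 → 0 < n) := by
  obtain ⟨n, ρ, rfl⟩ := h
  refine ⟨n, by simp, fun hne => Nat.pos_of_ne_zero fun h0 => hne ?_⟩
  subst h0
  funext g
  have : ρ g = 0 := LinearMap.ext fun v => Subsingleton.elim _ _
  simp [Representation.character, this]

theorem char_one_ne_zero {χ : G → ℂ} (h : IsCharacter G χ) (hne : χ ≠ 0) : χ 1 ≠ 0 := by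
  obtain ⟨n, hn, hpos⟩ := char_one_nat h
  rw [hn]
  exact_mod_cast (hpos hne).ne'

theorem conjFun_one_of_char {χ : G → ℂ} (h : IsCharacter G χ) : conjFun χ 1 = χ 1 := by
  obtain ⟨n, hn, -⟩ := char_one_nat h
  simp [conjFun, hn]

theorem irr_isCharacter {χ : G → ℂ} (h : IsIrrCharacter G χ) : IsCharacter G χ := by
  obtain ⟨n, ρ, -, hρ⟩ := h
  exact ⟨n, ρ, hρ⟩

theorem irr_gen {χ : G → ℂ} (h : IsIrrCharacter G χ) : IsGeneralizedCharacter G χ :=
  gen_of_char (irr_isCharacter h)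

variable [Fintype G]

theorem inner_char_nat {χ ψ : G → ℂ} (hχ : IsCharacter G χ) (hψ : IsCharacter G ψ) :
    ∃ n : ℕ, classInner χ ψ = n := by
  obtain ⟨n, ρ, rfl⟩ := hχ
  obtain ⟨m, σ, rfl⟩ := hψ
  haveI : Invertible (Nat.card G : ℂ) :=
    invertibleOfNonzero (Nat.cast_ne_zero.2 Nat.card_pos.ne')
  refine ⟨Module.finrank ℂ (Representation.IntertwiningMap σ ρ), ?_⟩
  rw [← Representation.card_inv_mul_sum_char_mul_char_eq_finrank σ ρ]
  simp only [classInner, CharClifford.character_inv]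

theorem inner_gen_int {α β : G → ℂ} (hα : IsGeneralizedCharacter G α)
    (hβ : IsGeneralizedCharacter G β) : ∃ n : ℤ, classInner α β = n := by
  obtain ⟨a, b, ha, hb, rfl⟩ := hα
  obtain ⟨c, d, hc, hd, rfl⟩ := hβ
  obtain ⟨x, hx⟩ := inner_char_nat ha hc
  obtain ⟨y, hy⟩ := inner_char_nat ha hd
  obtain ⟨z, hz⟩ := inner_char_nat hb hc
  obtain ⟨w, hw⟩ := inner_char_nat hb hd
  refine ⟨(x : ℤ) - y - z + w, ?_⟩
  rw [inner_sub_left, inner_sub_right, inner_sub_right, hx, hy, hz, hw]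
  push_cast
  ring

theorem inner_gen_symm {α β : G → ℂ} (hα : IsGeneralizedCharacter G α)
    (hβ : IsGeneralizedCharacter G β) : classInner β α = classInner α β := by
  obtain ⟨n, hn⟩ := inner_gen_int hα hβ
  rw [← inner_conj_symm α β, hn]
  simp

theorem char_norm_pos {χ : G → ℂ} (h : IsCharacter G χ) (hne : χ ≠ 0) :
    ∃ n : ℕ, 0 < n ∧ classInner χ χ = n := by
  obtain ⟨n, hn⟩ := inner_char_nat h h
  refine ⟨n, Nat.pos_of_ne_zero fun h0 => hne (inner_self_eq_zero.1 ?_), hn⟩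
  rw [hn, h0, Nat.cast_zero]

end Cfsg.Agent.Coherence
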