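import Cfsg.Agent.Coherence.SeqInd
import Cfsg.Agent.S0161
import Cfsg.Agent.S1514
import Cfsg.Agent.Lib.CharCore.TI
import Cfsg.Agent.Lib.CharInd.Char
import Mathlib.GroupTheory.Nilpotent
import Cfsg.Prelude.Def_OddOrderLocal

/-!
# Frobenius kernels, and induction from a TI kernel
-/

set_option autoImplicit false

namespace Cfsg.Agent.Coherence

open OddChar

section Kernel

variable {L : Type*} [Group L] [Finite L] (K : Subgroup L) [hK : K.Normal]

/-- Outside `K` the commutator map `k ↦ [x, k]` on `K` is injective. -/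
theorem commutator_map_injective (hC : ∀ n ∈ K, n ≠ 1 → Subgroup.centralizer ({n} : Set L) ≤ K)
    {x : L} (hx : x ∉ K) {k m : L} (hk : k ∈ K) (hm : m ∈ K)
    (h : x * k * x⁻¹ * k⁻¹ = x * m * x⁻¹ * m⁻¹) : k = m := by
  by_contra hne
  refine hx (hC (m⁻¹ * k) (K.mul_mem (K.inv_mem hm) hk)
    (fun e => hne (inv_mul_eq_one.1 e).symm) (Subgroup.mem_centralizer_singleton_iff.2 ?_))
  calc x * (m⁻¹ * k) = (x * m * x⁻¹)⁻¹ * (x * k * x⁻¹ * k⁻¹) * k * x := by group
    _ = m⁻¹ * k * x := by rw [h]; group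

/-- Every quotient of a Frobenius group by a normal subgroup of the kernel is Frobenius. -/
theorem frob_quot (hC : ∀ n ∈ K, n ≠ 1 → Subgroup.centralizer ({n} : Set L) ≤ K)
    (N : Subgroup L) [hN : N.Normal] (hNK : N ≤ K) {k : L} (hk : k ∈ K) (hkN : k ∉ N) (x : L)
    (h : x * k * x⁻¹ * k⁻¹ ∈ N) : x ∈ K := by
  by_contra hx
  let f : N → N := fun n => ⟨x * n * x⁻¹ * (n : L)⁻¹,
    N.mul_mem (hN.conj_mem _ n.2 x) (N.inv_mem n.2)⟩
  have hinj : Function.Injective f := fun a b e =>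
    Subtype.ext (commutator_map_injective K hC hx (hNK a.2) (hNK b.2) (congrArg Subtype.val e))
  obtain ⟨n, hn⟩ := Finite.surjective_of_injective hinj ⟨_, h⟩
  exact hkN (commutator_map_injective K hC hx (hNK n.2) hk (congrArg Subtype.val hn) ▸ n.2)

theorem frob_commutator_lt [Group.IsNilpotent K] (hK1 : K ≠ ⊥) : ⁅K, K⁆ < K := by
  haveI : Nontrivial K := (Subgroup.nontrivial_iff_ne_bot K).2 hK1
  refine lt_of_le_of_ne (Subgroup.commutator_le_self K) fun h => ?_
  refine (Group.IsSolvable.commutator_lt_top_of_nontrivial K).ne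
    (Subgroup.map_injective K.subtype_injective ?_)
  rw [commutator_def, Subgroup.map_commutator, ← MonoidHom.range_eq_map, Subgroup.range_subtype, h]

theorem frob_seq_irr {M : Type*} [Group M] [Fintype M] (K : Subgroup M) [K.Normal]
    (hC : ∀ n ∈ K, n ≠ 1 → Subgroup.centralizer ({n} : Set M) ≤ K) {A : Subgroup M} {φ : M → ℂ}
    (h : φ ∈ inducedIrrAbove K A) : IsIrrCharacter M φ := by
  obtain ⟨θ, h0, h1, -, rfl⟩ := h
  exact indFun_irr_of_stabilizer K h0 fun x hx => fixed_mem_of_centralizer_le K hC h0 h1 hx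

/-- In odd order, no member is real. -/
theorem frob_seq_conj_ne {M : Type*} [Group M] [Fintype M] (K : Subgroup M) [K.Normal]
    (hodd : Odd (Nat.card M)) (hKT : K ≠ ⊤)
    (hC : ∀ n ∈ K, n ≠ 1 → Subgroup.centralizer ({n} : Set M) ≤ K) {A : Subgroup M} {φ : M → ℂ}
    (h : φ ∈ inducedIrrAbove K A) : conjFun φ ≠ φ := by
  intro e
  have h1 := S0161.result hodd ⟨φ, frob_seq_irr K hC h⟩ fun g => by
    have := congrFun e g
    simp only [conjFun] at this
    exact Complex.conj_eq_iff_im.1 this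
  have h' := h
  obtain ⟨θ, -, -, -, rfl⟩ := h'
  obtain ⟨x, hx⟩ : ∃ x, x ∉ K := by
    by_contra hall
    push Not at hall
    exact hKT (eq_top_iff.2 fun x _ => hall x)
  have := congrFun h1 x
  dsimp only at this
  rw [indFun_eq_zero_of_notMem K θ hx] at this
  exact zero_ne_one this

/-- Orders of normal subgroups inside the kernel are `1` modulo the index. -/
theorem index_dvd_card_sub_one_of_le
    (hC : ∀ n ∈ K, n ≠ 1 → Subgroup.centralizer ({n} : Set L) ≤ K)
    (N : Subgroup L) [N.Normal] (hNK : N ≤ K) : K.index ∣ Nat.card N - 1 := by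
  classical
  haveI := Fintype.ofFinite L
  haveI := Fintype.ofFinite (ConjClasses L)
  set X : Finset L := Finset.univ.filter fun x => x ∈ N ∧ x ≠ 1 with hX
  have hcard : X.card = Nat.card N - 1 := by
    have : X = (Finset.univ.filter fun x => x ∈ N).erase 1 := by
      ext x; simp [hX, and_comm]
    rw [this, Finset.card_erase_of_mem (by simp [N.one_mem]), ← Fintype.card_subtype,
      ← Nat.card_eq_fintype_card]
  rw [← hcard, Finset.card_eq_sum_card_fiberwise (f := ConjClasses.mk) (t := X.image ConjClasses.mk)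
    (fun x hx => Finset.mem_image_of_mem _ hx)]
  refine Finset.dvd_sum fun C hC' => ?_
  obtain ⟨x, hx, rfl⟩ := Finset.mem_image.1 hC'
  obtain ⟨hxN, hx1⟩ := (Finset.mem_filter.1 hx).2
  set F := X.filter fun y => ConjClasses.mk y = ConjClasses.mk x
  have hmaps : ∀ g ∈ (Finset.univ : Finset L), g * x * g⁻¹ ∈ F := fun g _ => by
    refine Finset.mem_filter.2 ⟨Finset.mem_filter.2 ⟨Finset.mem_univ _, ?_, ?_⟩, ?_⟩
    · exact Subgroup.Normal.conj_mem ‹N.Normal› x hxN g
    · exact fun e => hx1 (conj_eq_one_iff.1 e)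
    · exact (ConjClasses.mk_eq_mk_iff_isConj.2 (isConj_iff.2 ⟨g, rfl⟩)).symm
  set C := Subgroup.centralizer ({x} : Set L)
  have hfib : ∀ y ∈ F, (Finset.univ.filter fun g : L => g * x * g⁻¹ = y).card = Nat.card C := by
    intro y hy
    obtain ⟨g₀, hg₀⟩ := isConj_iff.1
      (ConjClasses.mk_eq_mk_iff_isConj.1 (Finset.mem_filter.1 hy).2).symm
    rw [Nat.card_eq_fintype_card, Fintype.card_subtype]
    refine Finset.card_bij' (fun g _ => g₀⁻¹ * g) (fun g _ => g₀ * g) ?_ ?_
      (fun g _ => by group) (fun g _ => by group)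
    · intro g hg
      simp only [Finset.mem_filter, Finset.mem_univ, true_and] at hg ⊢
      refine Subgroup.mem_centralizer_singleton_iff.2 ?_
      calc g₀⁻¹ * g * x = g₀⁻¹ * (g * x * g⁻¹) * g := by group
        _ = g₀⁻¹ * (g₀ * x * g₀⁻¹) * g := by rw [hg, hg₀]
        _ = x * (g₀⁻¹ * g) := by group
    · intro g hg
      simp only [Finset.mem_filter, Finset.mem_univ, true_and] at hg ⊢
      rw [Subgroup.mem_centralizer_singleton_iff] at hg
      calc g₀ * g * x * (g₀ * g)⁻¹ = g₀ * (g * x) * g⁻¹ * g₀⁻¹ := by group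
        _ = g₀ * (x * g) * g⁻¹ * g₀⁻¹ := by rw [hg]
        _ = g₀ * x * g₀⁻¹ := by group
        _ = y := hg₀
  have := Finset.card_eq_sum_card_fiberwise hmaps
  rw [Finset.card_univ, Finset.sum_congr rfl hfib, Finset.sum_const, smul_eq_mul,
    ← Nat.card_eq_fintype_card, ← K.index_mul_card] at this
  obtain ⟨t, ht⟩ := Subgroup.card_dvd_of_le (hC x (hNK hxN) hx1)
  rw [ht, mul_left_comm, mul_comm F.card] at this
  exact ⟨t, ((Nat.eq_of_mul_eq_mul_left Nat.card_pos this).trans (by ring)).symm⟩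

end Kernel

section Complement

/-- A complement acting without fixed points makes a Frobenius group. -/
theorem centralizer_le_of_complement {G : Type*} [Group G] [Finite G] (H L W : Subgroup G)
    (hHL : H ≤ L) (hHn : ∀ x ∈ L, ∀ h ∈ H, x * h * x⁻¹ ∈ H) (hW : W ≤ L) (hsup : H ⊔ W = L)
    (hfpf : ∀ w ∈ W, w ≠ 1 → ∀ h ∈ H, w * h = h * w → h = 1) :
    ∀ n ∈ H.subgroupOf L, n ≠ 1 → Subgroup.centralizer ({n} : Set L) ≤ H.subgroupOf L := by
  intro n hn hn1 x hx
  rw [Subgroup.mem_centralizer_singleton_iff] at hx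
  have hx' : (x : G) * n = n * x := congrArg Subtype.val hx
  have hn1' : (n : G) ≠ 1 := fun e => hn1 (Subtype.ext e)
  rw [Subgroup.mem_subgroupOf] at hn ⊢
  have hWn : W ≤ Subgroup.normalizer (H : Set G) := Subgroup.le_normalizer_iff.2 fun w hw h hh =>
    hHn w (hW hw) h hh
  have hxm : (x : G) ∈ ((H ⊔ W : Subgroup G) : Set G) := hsup ▸ x.2
  rw [Subgroup.coe_mul_of_right_le_normalizer_left H W hWn] at hxm
  obtain ⟨a, ha, w, hw, hawe⟩ := Set.mem_mul.1 hxm
  by_contra hxH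
  have hw1 : w ≠ 1 := fun e => hxH (by rw [← hawe, e, mul_one]; exact ha)
  let f : H → H := fun h => ⟨(h : G) * (w * (h : G)⁻¹ * w⁻¹),
    H.mul_mem h.2 (hHn w (hW hw) _ (H.inv_mem h.2))⟩
  have hinj : Function.Injective f := by
    intro h h' e
    have e' : (h : G) * (w * (h : G)⁻¹ * w⁻¹) = h' * (w * (h' : G)⁻¹ * w⁻¹) :=
      congrArg Subtype.val e
    have h1 := hfpf w hw hw1 ((h' : G)⁻¹ * h) (H.mul_mem (H.inv_mem h'.2) h.2) (by
      calc w * ((h' : G)⁻¹ * h) = (h' : G)⁻¹ * ((h' : G) * (w * (h' : G)⁻¹ * w⁻¹)) * (w * h) := by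
            group
        _ = (h' : G)⁻¹ * h * w := by rw [← e']; group)
    exact Subtype.ext (inv_mul_eq_one.1 h1).symm
  obtain ⟨h, hh⟩ := Finite.surjective_of_injective hinj ⟨a, ha⟩
  have hh' : (h : G) * (w * (h : G)⁻¹ * w⁻¹) = a := congrArg Subtype.val hh
  have hcomm : w * ((h : G)⁻¹ * n * h) = (h : G)⁻¹ * n * h * w := by
    rw [← hawe, ← hh'] at hx'
    calc w * ((h : G)⁻¹ * n * h)
        = (h : G)⁻¹ * ((h : G) * (w * (h : G)⁻¹ * w⁻¹) * w * n) * h := by group
      _ = (h : G)⁻¹ * ((n : G) * ((h : G) * (w * (h : G)⁻¹ * w⁻¹) * w)) * h := by rw [hx']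
      _ = (h : G)⁻¹ * n * h * w := by group
  have h2 := hfpf w hw hw1 _ (H.mul_mem (H.mul_mem (H.inv_mem h.2) hn) h.2) hcomm
  refine hn1' ?_
  calc (n : G) = (h : G) * ((h : G)⁻¹ * n * h) * (h : G)⁻¹ := by group
    _ = 1 := by rw [h2]; group

end Complement

section TI

variable {G : Type*} [Group G] [Fintype G]

/-- Induction from the normaliser of a TI subset is an isometry on functions supported there. -/
theorem ti_isometry (H L : Subgroup G) [Fintype L] (hTI : IsTISubset (H : Set G))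
    (hN : Subgroup.normalizer (H : Set G) = L) (S : Set (L → ℂ))
    (hgen : ∀ φ ∈ S, IsGeneralizedCharacter L φ)
    (hsupp : ∀ φ ∈ S, ∀ x : L, (x : G) ∉ H → φ x = 0) :
    IsLinearIsometryOn (zspanOn S {1}ᶜ) (fun α => indFun L α) ∧
      ∀ α ∈ zspanOn S ({1}ᶜ : Set L), indFun L α 1 = 0 := by
  subst hN
  have hg : ∀ α ∈ zspan S, IsGeneralizedCharacter _ α ∧
      ∀ x : Subgroup.normalizer (H : Set G), (x : G) ∉ H → α x = 0 := by
    intro α hα
    refine Submodule.span_induction (p := fun β _ => IsGeneralizedCharacter _ β ∧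
      ∀ x : Subgroup.normalizer (H : Set G), (x : G) ∉ H → β x = 0)
      (fun φ hφ => ⟨hgen φ hφ, hsupp φ hφ⟩) ⟨gen_zero, fun _ _ => rfl⟩ ?_ ?_ hα
    · exact fun a b _ _ ha hb => ⟨gen_add ha.1 hb.1, fun x hx => by simp [ha.2 x hx, hb.2 x hx]⟩
    · exact fun c a _ ha => ⟨gen_zsmul ha.1 c, fun x hx => by simp [ha.2 x hx]⟩
  refine ⟨⟨fun α _ β _ => CharInd.indFun_add _ α β, fun α _ n => ?_, ?_, ?_⟩, ?_⟩
  · show indFun _ (n • α) = n • indFun _ α
    rw [zsmul_eq, CharInd.indFun_smul, Int.cast_smul_eq_zsmul]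
  · intro α hα β hβ
    obtain ⟨h1, h1'⟩ := mem_zspanOn_one.1 hα
    refine CharCore.classInner_indFun_ti (H : Set G) hTI α β ?_ (hg α h1).2 (hg β hβ.1).2 h1'
    obtain ⟨a, b, ha, hb, hab⟩ := (hg β hβ.1).1
    intro g h
    simp only [hab, Pi.sub_apply]
    rw [CharInd.isClassFunction_of_isCharacter ha g h, CharInd.isClassFunction_of_isCharacter hb g h]
  · exact fun α hα => CharInd.isGeneralizedCharacter_indFun _ (hg α hα.1).1
  · intro α hα
    rw [CharInd.indFun_apply_one, (mem_zspanOn_one.1 hα).2, mul_zero]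

end TI

end Cfsg.Agent.Coherence
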