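import Mathlib.Analysis.Complex.Basic
import Mathlib.LinearAlgebra.Dimension.Finite
import Mathlib.LinearAlgebra.Finsupp.LinearCombination
import Mathlib.LinearAlgebra.FiniteDimensional.Basic
import Cfsg.Prelude.Def_OddOrderChar

/-!
# Algebra of `classInner`, `zspan`, and the orthogonal-extension constructor for coherence

Nothing here uses representation theory.
-/

set_option autoImplicit false

namespace Cfsg.Agent.Coherence

open scoped ComplexConjugate

section Inner

variable {L : Type*} [Group L] [Fintype L]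

theorem inner_add_left (α β γ : L → ℂ) :
    classInner (α + β) γ = classInner α γ + classInner β γ := by
  simp [classInner, add_mul, Finset.sum_add_distrib, mul_add]

theorem inner_add_right (α β γ : L → ℂ) :
    classInner α (β + γ) = classInner α β + classInner α γ := by
  simp [classInner, mul_add, Finset.sum_add_distrib]

theorem inner_smul_left (c : ℂ) (α β : L → ℂ) :
    classInner (c • α) β = c * classInner α β := by
  simp only [classInner, Pi.smul_apply, smul_eq_mul, Finset.mul_sum]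
  exact Finset.sum_congr rfl fun g _ => by ring

theorem inner_smul_right (c : ℂ) (α β : L → ℂ) :
    classInner α (c • β) = conj c * classInner α β := by
  simp only [classInner, Pi.smul_apply, smul_eq_mul, Finset.mul_sum, map_mul]
  exact Finset.sum_congr rfl fun g _ => by ring

theorem zsmul_eq (n : ℤ) (α : L → ℂ) : n • α = (n : ℂ) • α :=
  (Int.cast_smul_eq_zsmul ℂ n α).symm

theorem nat_smul_zsmul (n : ℕ) (α : L → ℂ) : (n : ℂ) • α = (n : ℤ) • α := by
  rw [zsmul_eq]; simp

theorem inner_zsmul_left (n : ℤ) (α β : L → ℂ) :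
    classInner (n • α) β = (n : ℂ) * classInner α β := by
  rw [zsmul_eq, inner_smul_left]

theorem inner_zsmul_right (n : ℤ) (α β : L → ℂ) :
    classInner α (n • β) = (n : ℂ) * classInner α β := by
  rw [zsmul_eq, inner_smul_right]; simp

theorem inner_zero_left (α : L → ℂ) : classInner 0 α = 0 := by
  simp [classInner]

theorem inner_zero_right (α : L → ℂ) : classInner α 0 = 0 := by
  simp [classInner]

theorem inner_neg_left (α β : L → ℂ) : classInner (-α) β = -classInner α β := by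
  have := inner_smul_left (-1) α β
  simpa using this

theorem inner_neg_right (α β : L → ℂ) : classInner α (-β) = -classInner α β := by
  have := inner_smul_right (-1) α β
  simpa using this

theorem inner_sub_left (α β γ : L → ℂ) :
    classInner (α - β) γ = classInner α γ - classInner β γ := by
  rw [sub_eq_add_neg, inner_add_left, inner_neg_left]; ring

theorem inner_sub_right (α β γ : L → ℂ) :
    classInner α (β - γ) = classInner α β - classInner α γ := by
  rw [sub_eq_add_neg, inner_add_right, inner_neg_right]; ring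

theorem inner_sum_left {ι : Type*} (s : Finset ι) (f : ι → L → ℂ) (β : L → ℂ) :
    classInner (∑ i ∈ s, f i) β = ∑ i ∈ s, classInner (f i) β := by
  classical
  induction s using Finset.induction_on with
  | empty => simp [inner_zero_left]
  | insert a t ha ih => rw [Finset.sum_insert ha, Finset.sum_insert ha, inner_add_left, ih]

theorem inner_sum_right {ι : Type*} (s : Finset ι) (α : L → ℂ) (f : ι → L → ℂ) :
    classInner α (∑ i ∈ s, f i) = ∑ i ∈ s, classInner α (f i) := by
  classical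
  induction s using Finset.induction_on with
  | empty => simp [inner_zero_right]
  | insert a t ha ih => rw [Finset.sum_insert ha, Finset.sum_insert ha, inner_add_right, ih]

theorem inner_conj_symm (α β : L → ℂ) : conj (classInner α β) = classInner β α := by
  simp only [classInner, map_mul, map_sum, map_inv₀, map_natCast, Complex.conj_conj]
  exact congrArg _ (Finset.sum_congr rfl fun g _ => mul_comm _ _)

/-- The squared norm, as a real number. -/
noncomputable def normSqFn (α : L → ℂ) : ℝ := (Nat.card L : ℝ)⁻¹ * ∑ g : L, ‖α g‖ ^ 2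

theorem inner_self (α : L → ℂ) : classInner α α = (normSqFn α : ℂ) := by
  simp only [classInner, normSqFn, Complex.mul_conj']
  push_cast
  rfl

theorem normSqFn_nonneg (α : L → ℂ) : 0 ≤ normSqFn α := by
  unfold normSqFn; positivity

theorem normSqFn_eq_zero {α : L → ℂ} : normSqFn α = 0 ↔ α = 0 := by
  refine ⟨fun h => ?_, fun h => by simp [h, normSqFn]⟩
  have hc : (Nat.card L : ℝ)⁻¹ ≠ 0 := by simp
  have h1 := (mul_eq_zero.1 h).resolve_left hc
  rw [Finset.sum_eq_zero_iff_of_nonneg (fun g _ => sq_nonneg _)] at h1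
  funext g
  simpa using h1 g (Finset.mem_univ g)

theorem normSqFn_pos {α : L → ℂ} (h : α ≠ 0) : 0 < normSqFn α :=
  lt_of_le_of_ne (normSqFn_nonneg α) fun h' => h (normSqFn_eq_zero.1 h'.symm)

theorem inner_self_eq_zero {α : L → ℂ} : classInner α α = 0 ↔ α = 0 := by
  rw [inner_self, Complex.ofReal_eq_zero, normSqFn_eq_zero]

theorem inner_self_re_nonneg (α : L → ℂ) : 0 ≤ (classInner α α).re := by
  rw [inner_self, Complex.ofReal_re]; exact normSqFn_nonneg α

/-- An orthogonal set of nonzero functions is finite. -/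
theorem finite_of_orthogonal {S : Set (L → ℂ)} (h0 : ∀ φ ∈ S, φ ≠ 0)
    (horth : ∀ φ ∈ S, ∀ ψ ∈ S, φ ≠ ψ → classInner φ ψ = 0) : S.Finite := by
  have hli : LinearIndependent ℂ (fun x : S => (x : L → ℂ)) := by
    rw [linearIndependent_iff']
    intro s c hc i hi
    have h1 := congrArg (fun f => classInner f (i : L → ℂ)) hc
    simp only [inner_sum_left, inner_smul_left, inner_zero_left] at h1
    rw [Finset.sum_eq_single i (fun j _ hj => by
      rw [horth j j.2 i i.2 (fun e => hj (Subtype.ext e))]; simp) (fun h => absurd hi h)] at h1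
    exact (mul_eq_zero.1 h1).resolve_right fun h => h0 i i.2 (inner_self_eq_zero.1 h)
  exact hli.setFinite

end Inner

section Zspan

variable {X : Type*}

theorem zspan_subset {S : Set (X → ℂ)} {φ : X → ℂ} (h : φ ∈ S) : φ ∈ zspan S :=
  Submodule.subset_span h

theorem zspan_mono {S T : Set (X → ℂ)} (h : S ⊆ T) : zspan S ⊆ zspan T :=
  fun _ hx => Submodule.span_mono h hx

theorem zspan_zero (S : Set (X → ℂ)) : (0 : X → ℂ) ∈ zspan S := Submodule.zero_mem _

theorem zspan_add {S : Set (X → ℂ)} {α β : X → ℂ} (ha : α ∈ zspan S) (hb : β ∈ zspan S) :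
    α + β ∈ zspan S := Submodule.add_mem _ ha hb

theorem zspan_sub {S : Set (X → ℂ)} {α β : X → ℂ} (ha : α ∈ zspan S) (hb : β ∈ zspan S) :
    α - β ∈ zspan S := Submodule.sub_mem _ ha hb

theorem zspan_neg {S : Set (X → ℂ)} {α : X → ℂ} (ha : α ∈ zspan S) :
    -α ∈ zspan S := Submodule.neg_mem _ ha

theorem zspan_zsmul {S : Set (X → ℂ)} {α : X → ℂ} (n : ℤ) (ha : α ∈ zspan S) :
    n • α ∈ zspan S := Submodule.smul_mem _ n ha

theorem zspan_sum {S : Set (X → ℂ)} {ι : Type*} (s : Finset ι) (f : ι → X → ℂ)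
    (h : ∀ i ∈ s, f i ∈ zspan S) : ∑ i ∈ s, f i ∈ zspan S := Submodule.sum_mem _ h

theorem mem_zspan_finset {s : Finset (X → ℂ)} {α : X → ℂ} :
    α ∈ zspan (↑s : Set (X → ℂ)) ↔ ∃ c : (X → ℂ) → ℤ, α = ∑ φ ∈ s, c φ • φ := by
  constructor
  · intro h
    obtain ⟨c, -, hc⟩ := Submodule.mem_span_finset.1 h
    exact ⟨c, hc.symm⟩
  · rintro ⟨c, rfl⟩
    exact zspan_sum _ _ fun φ hφ => zspan_zsmul _ (zspan_subset hφ)

variable [One X]

theorem mem_zspanOn_one {S : Set (X → ℂ)} {α : X → ℂ} :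
    α ∈ zspanOn S ({1}ᶜ : Set X) ↔ α ∈ zspan S ∧ α 1 = 0 := by
  simp [zspanOn]

theorem zspanOn_mono {S T : Set (X → ℂ)} (h : S ⊆ T) (A : Set X) :
    zspanOn S A ⊆ zspanOn T A := fun _ hx => ⟨zspan_mono h hx.1, hx.2⟩

theorem zspanOn_add {S : Set (X → ℂ)} {A : Set X} {α β : X → ℂ} (ha : α ∈ zspanOn S A)
    (hb : β ∈ zspanOn S A) : α + β ∈ zspanOn S A :=
  ⟨zspan_add ha.1 hb.1, fun x hx => by simp [ha.2 x hx, hb.2 x hx]⟩

theorem zspanOn_sub {S : Set (X → ℂ)} {A : Set X} {α β : X → ℂ} (ha : α ∈ zspanOn S A)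
    (hb : β ∈ zspanOn S A) : α - β ∈ zspanOn S A :=
  ⟨zspan_sub ha.1 hb.1, fun x hx => by simp [ha.2 x hx, hb.2 x hx]⟩

theorem zspanOn_zsmul {S : Set (X → ℂ)} {A : Set X} {α : X → ℂ} (n : ℤ) (ha : α ∈ zspanOn S A) :
    n • α ∈ zspanOn S A :=
  ⟨zspan_zsmul n ha.1, fun x hx => by simp [ha.2 x hx]⟩

theorem zspanOn_zero (S : Set (X → ℂ)) (A : Set X) : (0 : X → ℂ) ∈ zspanOn S A :=
  ⟨zspan_zero S, fun _ _ => rfl⟩

theorem zspanOn_sum {S : Set (X → ℂ)} {A : Set X} {ι : Type*} (s : Finset ι) (f : ι → X → ℂ)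
    (h : ∀ i ∈ s, f i ∈ zspanOn S A) : ∑ i ∈ s, f i ∈ zspanOn S A :=
  ⟨zspan_sum s f fun i hi => (h i hi).1, fun x hx => by
    rw [Finset.sum_apply]; exact Finset.sum_eq_zero fun i hi => (h i hi).2 x hx⟩

end Zspan

section Iso

variable {L : Type*} [Group L] [Fintype L] {G : Type*} [Group G] [Fintype G]
  {E : Set (L → ℂ)} {τ : (L → ℂ) → (G → ℂ)}

theorem iso_map_zero (h : IsLinearIsometryOn E τ) {α : L → ℂ} (hα : α ∈ E) :
    τ 0 = 0 := by
  simpa using h.2.1 α hα 0

theorem iso_map_neg (h : IsLinearIsometryOn E τ) {α : L → ℂ} (hα : α ∈ E) :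
    τ (-α) = -τ α := by
  simpa using h.2.1 α hα (-1)

theorem iso_map_sub (h : IsLinearIsometryOn E τ) {α β : L → ℂ} (hα : α ∈ E) (hβ : β ∈ E)
    (hnβ : -β ∈ E) : τ (α - β) = τ α - τ β := by
  rw [sub_eq_add_neg, h.1 α hα (-β) hnβ, iso_map_neg h hβ, sub_eq_add_neg]

theorem iso_map_sum (h : IsLinearIsometryOn E τ) (h0 : (0 : L → ℂ) ∈ E)
    (hadd : ∀ α ∈ E, ∀ β ∈ E, α + β ∈ E) {ι : Type*} (s : Finset ι) (f : ι → L → ℂ)
    (hf : ∀ i ∈ s, f i ∈ E) : (∑ i ∈ s, f i) ∈ E ∧ τ (∑ i ∈ s, f i) = ∑ i ∈ s, τ (f i) := by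
  classical
  induction s using Finset.induction_on with
  | empty => exact ⟨by simpa using h0, by simpa using iso_map_zero h h0⟩
  | insert a t ha ih =>
    obtain ⟨hm, he⟩ := ih fun i hi => hf i (Finset.mem_insert_of_mem hi)
    have hfa := hf a (Finset.mem_insert_self a t)
    rw [Finset.sum_insert ha, Finset.sum_insert ha]
    exact ⟨hadd _ hfa _ hm, by rw [h.1 _ hfa _ hm, he]⟩

theorem iso_zspan_sum {S : Set (L → ℂ)} (h : IsLinearIsometryOn (zspan S) τ) {ι : Type*}
    (s : Finset ι) (c : ι → ℤ) (f : ι → L → ℂ) (hf : ∀ i ∈ s, f i ∈ zspan S) :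
    τ (∑ i ∈ s, c i • f i) = ∑ i ∈ s, c i • τ (f i) := by
  rw [(iso_map_sum h (zspan_zero S) (fun α ha β hb => zspan_add ha hb) s _
    (fun i hi => zspan_zsmul _ (hf i hi))).2]
  exact Finset.sum_congr rfl fun i hi => h.2.1 _ (hf i hi) _

end Iso

section Ext

variable {L : Type*} [Group L] [Fintype L] {G : Type*}

/-- The linear map determined by prescribed values on an orthogonal family. -/
noncomputable def orthExt (s : Finset (L → ℂ)) (f : (L → ℂ) → (G → ℂ)) (α : L → ℂ) : G → ℂ :=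
  ∑ φ ∈ s, (classInner α φ / classInner φ φ) • f φ

theorem orthExt_add (s : Finset (L → ℂ)) (f : (L → ℂ) → (G → ℂ)) (α β : L → ℂ) :
    orthExt s f (α + β) = orthExt s f α + orthExt s f β := by
  simp [orthExt, inner_add_left, add_div, add_smul, Finset.sum_add_distrib]

theorem orthExt_smul (s : Finset (L → ℂ)) (f : (L → ℂ) → (G → ℂ)) (c : ℂ) (α : L → ℂ) :
    orthExt s f (c • α) = c • orthExt s f α := by
  simp [orthExt, inner_smul_left, Finset.smul_sum, smul_smul, mul_div_assoc]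

theorem orthExt_zsmul (s : Finset (L → ℂ)) (f : (L → ℂ) → (G → ℂ)) (n : ℤ) (α : L → ℂ) :
    orthExt s f (n • α) = n • orthExt s f α := by
  rw [zsmul_eq, orthExt_smul, Int.cast_smul_eq_zsmul]

theorem orthExt_zero (s : Finset (L → ℂ)) (f : (L → ℂ) → (G → ℂ)) :
    orthExt s f (0 : L → ℂ) = 0 := by
  simp [orthExt, inner_zero_left]

theorem orthExt_apply {s : Finset (L → ℂ)} (f : (L → ℂ) → (G → ℂ)) (h0 : ∀ φ ∈ s, φ ≠ 0)
    (horth : ∀ φ ∈ s, ∀ ψ ∈ s, φ ≠ ψ → classInner φ ψ = 0) {φ : L → ℂ} (hφ : φ ∈ s) :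
    orthExt s f φ = f φ := by
  rw [orthExt, Finset.sum_eq_single φ (fun ψ hψ hne => by rw [horth φ hφ ψ hψ hne.symm]; simp)
    (fun h => absurd hφ h), div_self (fun h => h0 φ hφ (inner_self_eq_zero.1 h)), one_smul]

theorem orthExt_sum (s : Finset (L → ℂ)) (f : (L → ℂ) → (G → ℂ)) {ι : Type*} (t : Finset ι)
    (c : ι → ℤ) (g : ι → L → ℂ) :
    orthExt s f (∑ i ∈ t, c i • g i) = ∑ i ∈ t, c i • orthExt s f (g i) := by
  classical
  induction t using Finset.induction_on with
  | empty => simp [orthExt_zero]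
  | insert a t ha ih =>
    rw [Finset.sum_insert ha, Finset.sum_insert ha, orthExt_add, orthExt_zsmul, ih]

theorem orthExt_sum_self {s : Finset (L → ℂ)} (f : (L → ℂ) → (G → ℂ)) (h0 : ∀ φ ∈ s, φ ≠ 0)
    (horth : ∀ φ ∈ s, ∀ ψ ∈ s, φ ≠ ψ → classInner φ ψ = 0) (c : (L → ℂ) → ℤ) :
    orthExt s f (∑ φ ∈ s, c φ • φ) = ∑ φ ∈ s, c φ • f φ := by
  rw [orthExt_sum]
  exact Finset.sum_congr rfl fun φ hφ => by rw [orthExt_apply f h0 horth hφ]

end Ext

section Build

variable {L : Type*} [Group L] [Fintype L] {G : Type*} [Group G] [Fintype G]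

/-- Values on an orthogonal family with the same Gram matrix give an isometry on its span.
`hgen` is the closure of virtual characters under integer combinations. -/
theorem orthExt_isometry (s : Finset (L → ℂ)) (f : (L → ℂ) → (G → ℂ)) (h0 : ∀ φ ∈ s, φ ≠ 0)
    (horth : ∀ φ ∈ s, ∀ ψ ∈ s, φ ≠ ψ → classInner φ ψ = 0)
    (hgram : ∀ φ ∈ s, ∀ ψ ∈ s, classInner (f φ) (f ψ) = classInner φ ψ)
    (hgen : ∀ c : (L → ℂ) → ℤ, IsGeneralizedCharacter G (∑ φ ∈ s, c φ • f φ)) :
    IsLinearIsometryOn (zspan (↑s : Set (L → ℂ))) (orthExt s f) := by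
  refine ⟨fun α _ β _ => orthExt_add s f α β, fun α _ n => orthExt_zsmul s f n α, ?_, ?_⟩
  · intro α hα β hβ
    obtain ⟨c, rfl⟩ := mem_zspan_finset.1 hα
    obtain ⟨e, rfl⟩ := mem_zspan_finset.1 hβ
    rw [orthExt_sum_self f h0 horth, orthExt_sum_self f h0 horth]
    simp only [inner_sum_left, inner_sum_right, inner_zsmul_left, inner_zsmul_right]
    refine Finset.sum_congr rfl fun φ hφ => ?_
    congr 1
    refine Finset.sum_congr rfl fun ψ hψ => ?_
    rw [hgram ψ hψ φ hφ]
  · intro α hα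
    obtain ⟨c, rfl⟩ := mem_zspan_finset.1 hα
    rw [orthExt_sum_self f h0 horth]
    exact hgen c

end Build

end Cfsg.Agent.Coherence
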