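import Cfsg.Agent.Coherence.Irr
import Cfsg.Agent.S0198

/-!
# Coherence criteria for families of irreducible characters (no system needed)
-/

set_option autoImplicit false

namespace Cfsg.Agent.Coherence

open scoped Classical ComplexConjugate

universe u v

/-- Feit's coherence criterion for a family of irreducible characters. -/
theorem irr_extend {N : Type u} [Group N] [Fintype N] {G : Type v} [Group G] [Fintype G]
    (S₀ : Finset (N → ℂ)) (χ : N → ℂ) (hirr : ∀ ξ ∈ S₀, IsIrrCharacter N ξ)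
    (hχ : IsIrrCharacter N χ) (hχS : χ ∉ S₀) (d : (N → ℂ) → ℕ)
    (hd : ∀ ξ ∈ insert χ S₀, ξ 1 = (d ξ : ℂ)) (τ : (N → ℂ) → (G → ℂ))
    (hτ : IsLinearIsometryOn (zspanOn (↑(insert χ S₀) : Set (N → ℂ)) {1}ᶜ) τ)
    (hτ1 : ∀ α ∈ zspanOn (↑(insert χ S₀) : Set (N → ℂ)) {1}ᶜ, τ α 1 = 0)
    (hcoh : IsCoherent (↑S₀ : Set (N → ℂ)) {1}ᶜ τ) (ψ : N → ℂ) (hψ : ψ ∈ S₀) (hdvd : d ψ ∣ d χ)
    (hlt : 2 * d ψ * d χ < ∑ ξ ∈ S₀, d ξ ^ 2) :
    IsCoherent (↑(insert χ S₀) : Set (N → ℂ)) {1}ᶜ τ := by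
  classical
  obtain ⟨hne₀, τ₁, hτ₁, hag⟩ := hcoh
  obtain ⟨k, hk⟩ := hdvd
  set U : Finset (N → ℂ) := insert χ S₀ with hU
  have hUirr : ∀ ξ ∈ U, IsIrrCharacter N ξ := by
    intro ξ h
    rcases Finset.mem_insert.1 h with rfl | h
    · exact hχ
    · exact hirr ξ h
  have horth : ∀ φ ∈ U, ∀ ξ ∈ U, φ ≠ ξ → classInner φ ξ = 0 := fun φ h ξ h' hne =>
    irr_inner_ne (hUirr φ h) (hUirr ξ h') hne
  have hψU : ψ ∈ U := Finset.mem_insert_of_mem hψ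
  have hχU : χ ∈ U := Finset.mem_insert_self χ S₀
  have hdpos : ∀ ξ ∈ U, 0 < d ξ := fun ξ h => Nat.pos_of_ne_zero fun h0 =>
    irr_one_ne_zero (hUirr ξ h) (by rw [hd ξ h, h0, Nat.cast_zero])
  have hkpos : 0 < k := Nat.pos_of_ne_zero fun h0 =>
    absurd (hdpos χ hχU) (by rw [hk, h0, mul_zero]; exact lt_irrefl 0)
  set θ : N → ℂ := (k : ℤ) • ψ - χ with hθ
  have hθ1 : θ 1 = 0 := by simp [hθ, hd ψ hψU, hd χ hχU, hk]; ring
  have hθm : θ ∈ zspanOn (↑U : Set (N → ℂ)) {1}ᶜ := mem_zspanOn_one.2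
    ⟨zspan_sub (zspan_zsmul _ (zspan_subset hψU))
      (zspan_subset hχU), hθ1⟩
  have hξ := hτ.2.2.2 _ hθm
  have hξ1 : τ θ 1 = 0 := hτ1 _ hθm
  set ξ := τ θ with hξdef
  have hχφ : ∀ φ ∈ S₀, classInner χ φ = 0 := fun φ h =>
    horth χ hχU φ (Finset.mem_insert_of_mem h) fun e => hχS (e ▸ h)
  have hψχ : classInner ψ χ = 0 := horth ψ hψU χ hχU fun e => hχS (e ▸ hψ)
  have hψψ : classInner ψ ψ = 1 := irr_inner_self (hUirr ψ hψU)
  have hξn : normSqFn ξ = (k : ℝ) ^ 2 + 1 := by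
    apply Complex.ofReal_injective
    rw [← inner_self, hξdef, hτ.2.2.1 _ hθm _ hθm, hθ]
    simp only [inner_sub_left, inner_sub_right, inner_zsmul_left,
      inner_zsmul_right, irr_inner_self hχ, hψψ, hψχ, hχφ ψ hψ]
    push_cast; ring
  have hbex : ∀ φ, ∃ b : ℤ, φ ∈ S₀ → classInner ξ (τ₁ φ) = b := by
    intro φ
    by_cases h : φ ∈ S₀
    · exact (inner_gen_int hξ (hτ₁.2.2.2 _ (zspan_subset h))).imp
        fun b hb _ => hb
    · exact ⟨0, fun h' => absurd h' h⟩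
  choose b hb using hbex
  set e : ℤ := b ψ - k with he
  set c : (N → ℂ) → ℤ := fun φ => b φ - if φ = ψ then (k : ℤ) else 0 with hc
  have hη : ∀ φ ∈ S₀, ((d ψ : ℤ) • φ - (d φ : ℤ) • ψ) ∈ zspanOn (↑S₀ : Set (N → ℂ)) {1}ᶜ :=
    fun φ hφ => mem_zspanOn_one.2
      ⟨zspan_sub (zspan_zsmul _ (zspan_subset hφ))
        (zspan_zsmul _ (zspan_subset hψ)),
        by simp [hd φ (Finset.mem_insert_of_mem hφ), hd ψ hψU]; ring⟩
  have hτ₁η : ∀ φ ∈ S₀, τ₁ ((d ψ : ℤ) • φ - (d φ : ℤ) • ψ) =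
      (d ψ : ℤ) • τ₁ φ - (d φ : ℤ) • τ₁ ψ := fun φ hφ => by
    rw [iso_map_sub hτ₁ (zspan_zsmul _ (zspan_subset hφ))
      (zspan_zsmul _ (zspan_subset hψ))
      (zspan_neg (zspan_zsmul _ (zspan_subset hψ))),
      hτ₁.2.1 _ (zspan_subset hφ), hτ₁.2.1 _ (zspan_subset hψ)]
  have hsub : (↑S₀ : Set (N → ℂ)) ⊆ ↑U := Finset.coe_subset.2 (Finset.subset_insert χ S₀)
  have hlin : ∀ φ ∈ S₀, (d ψ : ℤ) * c φ = (d φ : ℤ) * e := by
    intro φ hφ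
    by_cases hh : φ = ψ
    · subst hh; simp [hc, he]
    have h := hτ.2.2.1 _ hθm _ (zspanOn_mono hsub _ (hη φ hφ))
    rw [← hag _ (hη φ hφ), ← hξdef, hτ₁η φ hφ, hθ] at h
    simp only [inner_sub_left, inner_sub_right, inner_zsmul_left,
      inner_zsmul_right, hb φ hφ, hb ψ hψ, hχφ φ hφ, hχφ ψ hψ, hψψ,
      horth ψ hψU φ (Finset.mem_insert_of_mem hφ) (Ne.symm hh)] at h
    have h' : (((d ψ : ℤ) * b φ : ℤ) : ℂ) = (((d φ : ℤ) * (b ψ - k) : ℤ) : ℂ) := by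
      push_cast at h ⊢
      linear_combination h
    simp only [hc, if_neg hh, sub_zero, he]
    exact_mod_cast h'
  have hbc : ∀ φ, b φ = c φ + if φ = ψ then (k : ℤ) else 0 := fun φ => by simp [hc]
  have hcψ : c ψ = e := by simp [hc, he]
  have hbess := bessel (ξ := ξ) S₀ τ₁ (fun _ => 1) (fun φ => (b φ : ℝ))
    (fun _ _ => one_ne_zero)
    (fun φ h => by
      rw [hτ₁.2.2.1 _ (zspan_subset h) _ (zspan_subset h),
        irr_inner_self (hirr φ h)]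
      simp)
    (fun φ h φ' h' hne => by
      rw [hτ₁.2.2.1 _ (zspan_subset h) _ (zspan_subset h'),
        irr_inner_ne (hirr φ h) (hirr φ' h') hne])
    (fun φ h => by rw [hb φ h]; simp)
  simp only [div_one] at hbess
  set rest : G → ℂ := ξ - ∑ i ∈ S₀, ((b i : ℝ) : ℂ) • τ₁ i with hrest
  have hB : ∑ φ ∈ S₀, (b φ) ^ 2 = (∑ φ ∈ S₀, c φ ^ 2) + 2 * k * e + (k : ℤ) ^ 2 := by
    have : ∀ φ ∈ S₀, b φ ^ 2 = c φ ^ 2 + if φ = ψ then 2 * k * e + (k : ℤ) ^ 2 else 0 := by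
      intro φ _
      rw [hbc φ]
      by_cases hh : φ = ψ
      · subst hh; rw [if_pos rfl, if_pos rfl, hcψ]; ring
      · rw [if_neg hh, if_neg hh]; ring
    rw [Finset.sum_congr rfl this, Finset.sum_add_distrib, Finset.sum_ite_eq', if_pos hψ]
    ring
  have hD : (d ψ : ℤ) ^ 2 * (∑ φ ∈ S₀, c φ ^ 2) = e ^ 2 * ∑ φ ∈ S₀, (d φ : ℤ) ^ 2 := by
    rw [Finset.mul_sum, Finset.mul_sum]
    exact Finset.sum_congr rfl fun φ hφ => by rw [← mul_pow, hlin φ hφ, mul_pow]; ring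
  have hlt' : 2 * (k : ℤ) * (d ψ : ℤ) ^ 2 < ∑ φ ∈ S₀, (d φ : ℤ) ^ 2 := by
    have : ((2 * d ψ * d χ : ℕ) : ℤ) < ((∑ ξ ∈ S₀, d ξ ^ 2 : ℕ) : ℤ) := by exact_mod_cast hlt
    rw [hk] at this
    push_cast at this
    linarith
  have he0 : e = 0 := by
    by_contra hne
    have hle : ∑ φ ∈ S₀, (b φ : ℤ) ^ 2 ≤ (k : ℤ) ^ 2 + 1 := by
      have h : ((∑ φ ∈ S₀, (b φ : ℤ) ^ 2 : ℤ) : ℝ) ≤ (((k : ℤ) ^ 2 + 1 : ℤ) : ℝ) := by
        push_cast
        linarith [normSqFn_nonneg rest]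
      exact_mod_cast h
    have hdψ : (0 : ℤ) < (d ψ : ℤ) ^ 2 := by
      have : (0 : ℤ) < d ψ := by exact_mod_cast hdpos ψ hψU
      positivity
    have he2 : (0 : ℤ) < e ^ 2 := by positivity
    have hC : 2 * (k : ℤ) * e ^ 2 < ∑ φ ∈ S₀, c φ ^ 2 := by
      refine lt_of_mul_lt_mul_left (a := (d ψ : ℤ) ^ 2) ?_ hdψ.le
      rw [hD]; nlinarith
    have hk' : (0 : ℤ) < k := by exact_mod_cast hkpos
    have h1 : 2 * (k : ℤ) * (e * (e + 1)) < 1 := by nlinarith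
    have hee : e = -1 := by
      rcases lt_trichotomy e (-1) with h | h | h
      · have : (2 : ℤ) ≤ e * (e + 1) := by nlinarith
        nlinarith
      · exact h
      · have h' : 0 < e := by omega
        have : (2 : ℤ) ≤ e * (e + 1) := by nlinarith
        nlinarith
    rw [hee] at hC hB hlin
    have hsum : ∑ φ ∈ S₀, (b φ : ℤ) ^ 2 = (k : ℤ) ^ 2 + 1 := by linarith
    have hr0 : rest = 0 := by
      apply normSqFn_eq_zero.1
      have h : ((∑ φ ∈ S₀, (b φ : ℤ) ^ 2 : ℤ) : ℝ) = (((k : ℤ) ^ 2 + 1 : ℤ) : ℝ) := by rw [hsum]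
      push_cast at h
      linarith
    rw [hrest, sub_eq_zero] at hr0
    have hval : ∀ φ ∈ S₀, (d ψ : ℂ) * τ₁ φ 1 = (d φ : ℂ) * τ₁ ψ 1 := by
      intro φ hφ
      have h : τ₁ ((d ψ : ℤ) • φ - (d φ : ℤ) • ψ) 1 = 0 := by
        rw [hag _ (hη φ hφ)]; exact hτ1 _ (zspanOn_mono hsub _ (hη φ hφ))
      rw [hτ₁η φ hφ] at h
      simp only [zsmul_eq, Pi.sub_apply, Pi.smul_apply, smul_eq_mul,
        Int.cast_natCast] at h
      exact sub_eq_zero.1 h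
    have h0 : (d ψ : ℂ) * ((d ψ : ℂ) * ξ 1) =
        (((k : ℤ) * (d ψ : ℤ) ^ 2 - ∑ φ ∈ S₀, (d φ : ℤ) ^ 2 : ℤ) : ℂ) * τ₁ ψ 1 := by
      rw [hr0]
      simp only [Finset.sum_apply, Pi.smul_apply, smul_eq_mul, Finset.mul_sum]
      push_cast
      rw [sub_mul, Finset.sum_mul]
      have : ∀ φ ∈ S₀, (d ψ : ℂ) * ((d ψ : ℂ) * ((b φ : ℂ) * τ₁ φ 1)) =
          (if φ = ψ then (k : ℂ) * (d ψ : ℂ) ^ 2 * τ₁ ψ 1 else 0) - (d φ : ℂ) ^ 2 * τ₁ ψ 1 := by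
        intro φ hφ
        have h : (d ψ : ℂ) * (c φ : ℂ) = (d φ : ℂ) * (-1) := by
          have := congrArg (Int.cast : ℤ → ℂ) (hlin φ hφ)
          push_cast at this; exact this
        have h' := hval φ hφ
        rw [hbc φ]
        by_cases hh : φ = ψ
        · subst hh
          rw [if_pos rfl, if_pos rfl]
          push_cast
          linear_combination (d φ : ℂ) * τ₁ φ 1 * h
        · rw [if_neg hh, if_neg hh, add_zero]
          linear_combination (d ψ : ℂ) * τ₁ φ 1 * h - (d φ : ℂ) * h'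
      rw [Finset.sum_congr rfl this, Finset.sum_sub_distrib, Finset.sum_ite_eq', if_pos hψ]
    rw [hξ1, mul_zero, mul_zero] at h0
    have hψv : τ₁ ψ 1 ≠ 0 := gen_norm_one_apply_one
      (hτ₁.2.2.2 _ (zspan_subset hψ))
      (by rw [hτ₁.2.2.1 _ (zspan_subset hψ) _ (zspan_subset hψ), hψψ])
    have h2 : (k : ℤ) * (d ψ : ℤ) ^ 2 - ∑ φ ∈ S₀, (d φ : ℤ) ^ 2 = 0 := by
      have h3 := (mul_eq_zero.1 h0.symm).resolve_right hψv
      exact_mod_cast h3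
    nlinarith
  refine coherent_extend (S₀ := S₀) (Finset.subset_insert χ S₀)
    (fun φ h => irr_ne_zero (hUirr φ h)) horth hτ hτ₁ hag hψ ?_ ?_
  · intro φ hφ hφ0
    obtain rfl := (Finset.mem_insert.1 hφ).resolve_right hφ0
    refine ⟨k, hθ1, fun φ' hφ' => ?_⟩
    have h := hlin φ' hφ'
    rw [he0, mul_zero, mul_eq_zero] at h
    have hc0 : c φ' = 0 := h.resolve_left (by exact_mod_cast (hdpos ψ hψU).ne')
    rw [← hξdef, hb φ' hφ', hbc φ', hc0, inner_sub_left, inner_zsmul_left,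
      hχφ φ' hφ']
    by_cases hh : φ' = ψ
    · subst hh; rw [if_pos rfl, hψψ]; push_cast; ring
    · rw [if_neg hh, horth ψ hψU φ' (Finset.mem_insert_of_mem hφ') (Ne.symm hh)]; simp
  · obtain ⟨α, hα, hα0⟩ := hne₀
    exact ⟨α, zspanOn_mono hsub _ hα, hα0⟩




/-- At least two irreducible characters of one degree form a coherent set. -/
theorem equal_degree_coherent {N : Type u} [Group N] [Fintype N] {G : Type v} [Group G] [Fintype G]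
    (Y : Finset (N → ℂ)) (hirr : ∀ φ ∈ Y, IsIrrCharacter N φ)
    (hdeg : ∀ φ ∈ Y, ∀ ψ ∈ Y, φ 1 = ψ 1) (h2 : 2 ≤ Y.card) (τ : (N → ℂ) → (G → ℂ))
    (hτ : IsLinearIsometryOn (zspanOn (↑Y : Set (N → ℂ)) {1}ᶜ) τ)
    (hτ1 : ∀ α ∈ zspanOn (↑Y : Set (N → ℂ)) {1}ᶜ, τ α 1 = 0) :
    IsCoherent (↑Y : Set (N → ℂ)) {1}ᶜ τ := by
  obtain ⟨φ₀, hφ₀, φ', hφ', hne⟩ := Finset.one_lt_card.1 h2
  have hmem : ∀ φ ∈ Y, φ - φ₀ ∈ zspanOn (↑Y : Set (N → ℂ)) {1}ᶜ := fun φ h =>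
    mem_zspanOn_one.2 ⟨zspan_sub (zspan_subset h) (zspan_subset hφ₀),
      by simp [hdeg φ h φ₀ hφ₀]⟩
  set idx : Fin Y.card → N → ℂ := fun i => (Y.equivFin.symm i : N → ℂ)
  have hidx : ∀ i, idx i ∈ Y := fun i => (Y.equivFin.symm i).2
  set i₀ : Fin Y.card := Y.equivFin ⟨φ₀, hφ₀⟩
  have hi₀ : idx i₀ = φ₀ := by simp [idx, i₀]
  have horth : ∀ φ ∈ Y, ∀ ψ ∈ Y, classInner φ ψ = if φ = ψ then 1 else 0 := fun φ hφ ψ hψ => by
    split_ifs with h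
    · rw [h, irr_inner_self (hirr ψ hψ)]
    · exact irr_inner_ne (hirr φ hφ) (hirr ψ hψ) h
  have hidxinj : Function.Injective idx := fun a b h =>
    Y.equivFin.symm.injective (Subtype.ext h)
  obtain ⟨ε, hε, μ, hμ, hμinj, hτμ⟩ := S0198.result Y.card i₀ (fun i => τ (idx i - φ₀))
    (by
      show τ (idx i₀ - φ₀) = 0
      rw [hi₀, sub_self]
      exact iso_map_zero hτ (hmem φ₀ hφ₀))
    (fun i => hτ.2.2.2 _ (hmem _ (hidx i)))
    (fun i => hτ1 _ (hmem _ (hidx i)))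
    (fun i j hi hj => by
      have hi' : idx i ≠ φ₀ := fun h => hi (hidxinj (h.trans hi₀.symm))
      have hj' : idx j ≠ φ₀ := fun h => hj (hidxinj (h.trans hi₀.symm))
      rw [hτ.2.2.1 _ (hmem _ (hidx i)) _ (hmem _ (hidx j)), inner_sub_left, inner_sub_right,
        inner_sub_right, horth _ (hidx i) _ (hidx j), horth _ (hidx i) _ hφ₀,
        horth _ hφ₀ _ (hidx j), horth _ hφ₀ _ hφ₀, if_neg hi', if_neg (Ne.symm hj'), if_pos rfl]
      by_cases h : i = j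
      · rw [if_pos h, if_pos (by rw [h])]; norm_num
      · rw [if_neg h, if_neg (fun e => h (hidxinj e))]; norm_num)
  set F : (N → ℂ) → (G → ℂ) := fun φ =>
    if h : φ ∈ Y then ε • μ (Y.equivFin ⟨φ, h⟩) else 0
  have hF : ∀ φ, (h : φ ∈ Y) → F φ = ε • μ (Y.equivFin ⟨φ, h⟩) := fun φ h => dif_pos h
  have hF0 : ∀ φ, (h : φ ∈ Y) → τ (φ - φ₀) = F φ - F φ₀ := fun φ h => by
    have := hτμ (Y.equivFin ⟨φ, h⟩)
    simp only [idx, Equiv.symm_apply_apply] at this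
    rw [this, hF φ h, hF φ₀ hφ₀, smul_sub]
  have h0 : ∀ φ ∈ Y, φ ≠ 0 := fun φ h => irr_ne_zero (hirr φ h)
  have ho : ∀ φ ∈ Y, ∀ ψ ∈ Y, φ ≠ ψ → classInner φ ψ = 0 := fun φ h ψ h' hn => by
    rw [horth φ h ψ h', if_neg hn]
  refine ⟨⟨φ' - φ₀, hmem φ' hφ', sub_ne_zero.2 hne.symm⟩, orthExt Y F,
    orthExt_isometry Y F h0 ho ?_ ?_, ?_⟩
  · intro φ h ψ h'
    rw [hF φ h, hF ψ h', inner_smul_left, inner_smul_right]
    have hεc : ε * conj ε = 1 := by rcases hε with rfl | rfl <;> simp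
    rw [← mul_assoc, hεc, one_mul, horth φ h ψ h']
    split_ifs with e
    · subst e; exact irr_inner_self (hμ _)
    · exact irr_inner_ne (hμ _) (hμ _) fun h2 => e (congrArg Subtype.val
        (Y.equivFin.injective (hμinj h2)))
  · intro c
    refine gen_sum _ _ fun φ h => gen_zsmul ?_ _
    rw [hF φ h]
    rcases hε with rfl | rfl
    · rw [one_smul]; exact irr_gen (hμ _)
    · rw [neg_one_smul]; exact gen_neg (irr_gen (hμ _))
  · intro α hα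
    obtain ⟨hs, h1⟩ := mem_zspanOn_one.1 hα
    obtain ⟨c, rfl⟩ := mem_zspan_finset.1 hs
    rw [orthExt_sum_self F h0 ho]
    have hc : ∑ φ ∈ Y, c φ = 0 := by
      rw [Finset.sum_apply, Finset.sum_congr rfl (fun φ h => show (c φ • φ) 1 = (c φ : ℂ) * φ₀ 1 by
        rw [Pi.smul_apply, zsmul_eq_mul, hdeg φ h φ₀ hφ₀]), ← Finset.sum_mul] at h1
      exact_mod_cast (mul_eq_zero.1 h1).resolve_right (irr_one_ne_zero (hirr φ₀ hφ₀))
    have hdec : ∑ φ ∈ Y, c φ • φ = ∑ φ ∈ Y, c φ • (φ - φ₀) := by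
      simp only [smul_sub, Finset.sum_sub_distrib, ← Finset.sum_smul, hc, zero_smul, sub_zero]
    rw [hdec, (iso_map_sum hτ (zspanOn_zero _ _) (fun a ha b hb => zspanOn_add ha hb) Y _
      (fun φ h => zspanOn_zsmul _ (hmem φ h))).2,
      Finset.sum_congr rfl (fun φ h => show τ (c φ • (φ - φ₀)) = c φ • F φ - c φ • F φ₀ by
        rw [hτ.2.1 _ (hmem φ h), hF0 φ h, smul_sub]),
      Finset.sum_sub_distrib, ← Finset.sum_smul, hc, zero_smul, sub_zero]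

end Cfsg.Agent.Coherence
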