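import Cfsg.Agent.Coherence.Partition
import Cfsg.Agent.Coherence.IrrExtend
import Cfsg.Agent.S1487
import Cfsg.Prelude.Def_Transfer

/-!
# Frobenius kernels of odd order: complements of even order, transitive kernels
-/

set_option autoImplicit false

namespace Cfsg.Agent.Coherence

section Kernel

variable {L : Type*} [Group L] [Finite L] (K : Subgroup L) [hK : K.Normal]

/-- An involution outside the kernel inverts it, so the kernel is abelian. -/
theorem abelian_of_even_index (hC : ∀ n ∈ K, n ≠ 1 → Subgroup.centralizer ({n} : Set L) ≤ K)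
    (hodd : Odd (Nat.card K)) (h2 : 2 ∣ K.index) : IsMulCommutative K := by
  haveI : Fact (Nat.Prime 2) := ⟨Nat.prime_two⟩
  obtain ⟨t, ht⟩ := exists_prime_orderOf_dvd_card' (G := L) 2 (h2.trans K.index_dvd_card)
  have htK : t ∉ K := fun h => by
    have h1 : 2 ∣ Nat.card K := by
      rw [← ht, ← Subgroup.orderOf_mk t h]; exact orderOf_dvd_natCard _
    exact (Nat.not_even_iff_odd.2 hodd) (even_iff_two_dvd.2 h1)
  have htt : t * t = 1 := by rw [← pow_two, ← ht, pow_orderOf_eq_one]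
  have hti : t⁻¹ = t := inv_eq_of_mul_eq_one_right htt
  let f : K → K := fun k => ⟨t * k * t⁻¹ * (k : L)⁻¹,
    K.mul_mem (hK.conj_mem _ k.2 t) (K.inv_mem k.2)⟩
  have hinj : Function.Injective f := fun a b e =>
    Subtype.ext (commutator_map_injective K hC htK a.2 b.2 (congrArg Subtype.val e))
  have hinv : ∀ y ∈ K, t * y * t⁻¹ = y⁻¹ := by
    intro y hy
    obtain ⟨k, hk⟩ := Finite.surjective_of_injective hinj ⟨y, hy⟩
    have hk' : t * k * t⁻¹ * (k : L)⁻¹ = y := congrArg Subtype.val hk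
    rw [← hk', hti]
    calc t * (t * k * t * (k : L)⁻¹) * t = (t * t) * k * t * (k : L)⁻¹ * t := by group
      _ = (k : L) * t * (k : L)⁻¹ * t⁻¹ := by rw [htt, one_mul, hti]
      _ = (t * k * t⁻¹ * (k : L)⁻¹)⁻¹ := by group
      _ = (t * k * t * (k : L)⁻¹)⁻¹ := by rw [hti]
  refine ⟨⟨fun a b => Subtype.ext ?_⟩⟩
  have h1 := hinv _ (K.mul_mem b.2 a.2)
  have h3 : t * ((b : L) * a) * t⁻¹ = (t * b * t⁻¹) * (t * a * t⁻¹) := by group
  rw [h3, hinv _ b.2, hinv _ a.2, mul_inv_rev] at h1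
  have h4 := congrArg (·⁻¹) h1
  simp only [mul_inv_rev, inv_inv] at h4
  exact h4

/-- A kernel of order one more than the index is elementary abelian. -/
theorem elementary_of_card_eq [Group.IsNilpotent K]
    (hC : ∀ n ∈ K, n ≠ 1 → Subgroup.centralizer ({n} : Set L) ≤ K) (hK1 : K ≠ ⊥)
    (hcard : Nat.card K = K.index + 1) :
    IsMulCommutative K ∧ ∃ p : ℕ, p.Prime ∧ ∀ k ∈ K, k ^ p = 1 := by
  classical
  haveI := Fintype.ofFinite L
  have htrans : ∀ x ∈ K, x ≠ 1 → ∀ y ∈ K, y ≠ 1 → IsConj x y := by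
    intro x hx hx1 y hy hy1
    set X : Finset L := Finset.univ.filter fun z => z ∈ K ∧ z ≠ 1 with hX
    set O : Finset L := Finset.univ.image fun g : L => g * x * g⁻¹
    have hOX : O ⊆ X := fun z hz => by
      obtain ⟨g, -, rfl⟩ := Finset.mem_image.1 hz
      exact Finset.mem_filter.2 ⟨Finset.mem_univ _, hK.conj_mem x hx g,
        fun e => hx1 (conj_eq_one_iff.1 e)⟩
    have hXcard : X.card = K.index := by
      have : X = (Finset.univ.filter fun z => z ∈ K).erase 1 := by
        ext z; simp [hX, and_comm]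
      rw [this, Finset.card_erase_of_mem (by simp [K.one_mem]), ← Fintype.card_subtype,
        ← Nat.card_eq_fintype_card]
      simp only [hcard, Nat.add_sub_cancel]
    have hfib : ∀ z ∈ O, (Finset.univ.filter fun g : L => g * x * g⁻¹ = z).card ≤ Nat.card K := by
      intro z hz
      obtain ⟨g₀, -, rfl⟩ := Finset.mem_image.1 hz
      rw [Nat.card_eq_fintype_card, Fintype.card_subtype]
      refine Finset.card_le_card_of_injOn (fun g => g₀⁻¹ * g) (fun g hg => ?_)
        (fun a _ b _ e => mul_left_cancel e)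
      simp only [Finset.coe_filter, Finset.mem_univ, true_and, Set.mem_setOf_eq] at hg ⊢
      refine hC x hx hx1 (Subgroup.mem_centralizer_singleton_iff.2 ?_)
      calc g₀⁻¹ * g * x = g₀⁻¹ * (g * x * g⁻¹) * g := by group
        _ = g₀⁻¹ * (g₀ * x * g₀⁻¹) * g := by rw [hg]
        _ = x * (g₀⁻¹ * g) := by group
    have h1 := Finset.card_le_mul_card_image (Finset.univ : Finset L) (Nat.card K) hfib
    rw [Finset.card_univ, ← Nat.card_eq_fintype_card, ← K.index_mul_card, mul_comm (Nat.card K)]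
      at h1
    have h2 : K.index ≤ O.card := Nat.le_of_mul_le_mul_right h1 Nat.card_pos
    have hOeq : O = X := Finset.eq_of_subset_of_card_le hOX (by rw [hXcard]; exact h2)
    have hyO : y ∈ O := by
      rw [hOeq]
      exact Finset.mem_filter.2 ⟨Finset.mem_univ _, hy, hy1⟩
    obtain ⟨g, -, hg⟩ := Finset.mem_image.1 hyO
    exact isConj_iff.2 ⟨g, hg⟩
  obtain ⟨z, hz, hz1⟩ : ∃ z : K, z ∈ Subgroup.center K ∧ z ≠ 1 := by
    haveI : Nontrivial K := (Subgroup.nontrivial_iff_ne_bot K).2 hK1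
    haveI : Nontrivial (Subgroup.center K) :=
      (Subgroup.nontrivial_iff_ne_bot _).2 (Group.IsNilpotent.center_ne_bot (G := K))
    obtain ⟨z, hz⟩ := exists_ne (1 : Subgroup.center K)
    exact ⟨z, z.2, fun e => hz (Subtype.ext e)⟩
  have hz1' : (z : L) ≠ 1 := fun e => hz1 (Subtype.ext e)
  refine ⟨⟨⟨fun a b => ?_⟩⟩, ?_⟩
  · by_cases ha : (a : L) = 1
    · rw [show a = 1 from Subtype.ext ha, one_mul, mul_one]
    obtain ⟨g, hg⟩ := isConj_iff.1 (htrans z z.2 hz1' a a.2 ha)
    refine Subtype.ext ?_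
    show (a : L) * b = b * a
    have hb' : g⁻¹ * (b : L) * g ∈ K := by simpa using hK.conj_mem _ b.2 g⁻¹
    have hc : (z : L) * (g⁻¹ * b * g) = g⁻¹ * b * g * z :=
      congrArg Subtype.val ((Subgroup.mem_center_iff.1 hz) ⟨_, hb'⟩).symm
    rw [← hg]
    calc g * z * g⁻¹ * b = g * (z * (g⁻¹ * b * g)) * g⁻¹ := by group
      _ = g * (g⁻¹ * b * g * z) * g⁻¹ := by rw [hc]
      _ = b * (g * z * g⁻¹) := by group
  · obtain ⟨p, hp, hpd⟩ := Nat.exists_prime_and_dvd
      (show Nat.card K ≠ 1 from fun h => hK1 (Subgroup.card_eq_one.1 h))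
    haveI := Fact.mk hp
    obtain ⟨y, hy⟩ := exists_prime_orderOf_dvd_card' (G := K) p hpd
    have hy' : orderOf (y : L) = p := by rw [Subgroup.orderOf_coe, hy]
    have hy1 : (y : L) ≠ 1 := fun e => hp.one_lt.ne (by rw [← hy', e, orderOf_one])
    refine ⟨p, hp, fun k hk => ?_⟩
    by_cases hk1 : k = 1
    · rw [hk1, one_pow]
    obtain ⟨g, hg⟩ := isConj_iff.1 (htrans y y.2 hy1 k hk hk1)
    rw [← hg, conj_pow, ← hy', pow_orderOf_eq_one, mul_one, mul_inv_cancel]

end Kernel

section Chars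

variable {L : Type*} [Group L] [Fintype L] (K : Subgroup L) [hK : K.Normal]

/-- The members of `S` are the irreducible characters that are not constant on the kernel. -/
theorem seq_eq_irr_set (hC : ∀ n ∈ K, n ≠ 1 → Subgroup.centralizer ({n} : Set L) ≤ K) :
    {χ : L → ℂ | IsIrrCharacter L χ ∧ ∃ h ∈ K, χ h ≠ χ 1} =
      inducedIrrAbove K (⊥ : Subgroup L) := by
  classical
  haveI := Fintype.ofFinite K
  ext φ
  constructor
  · rintro ⟨hφ, h, hh, hne⟩
    exact mem_seq_of_irr K hC hφ hh hne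
  · intro hφ
    refine ⟨frob_seq_irr K hC hφ, ?_⟩
    by_contra hall
    push Not at hall
    obtain ⟨θ, hθ, rfl⟩ := (mem_seq_iff K).1 hφ
    refine ((mem_irrNP K).1 hθ).1 (funext fun k => ?_)
    have hker : ∀ k : K, (θ : K → ℂ) k = (θ : K → ℂ) 1 :=
      fun k => (S1487.result K K le_rfl θ θ.2).2 hall k k.2
    have hone := irr_inner_self θ.2
    simp only [classInner, hker, Finset.sum_const, Finset.card_univ, nsmul_eq_mul] at hone
    obtain ⟨d, hd, hd0⟩ := char_one_nat (irr_isCharacter θ.2)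
    rw [hd, ← Nat.card_eq_fintype_card,
      inv_mul_cancel_left₀ (Nat.cast_ne_zero.2 Nat.card_pos.ne')] at hone
    simp only [map_natCast] at hone
    have hd1 : d = 1 := by
      have : d * d = 1 := by exact_mod_cast hone
      exact Nat.eq_one_of_mul_eq_one_right this
    rw [hker k, hd, hd1, Nat.cast_one]

/-- For an abelian kernel all members of `S` have degree `e`, and there are `(|K| - 1)/e`. -/
theorem seq_abelian (hC : ∀ n ∈ K, n ≠ 1 → Subgroup.centralizer ({n} : Set L) ≤ K)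
    [IsMulCommutative K] :
    (∀ φ ∈ seqFinset K (⊥ : Subgroup L), φ 1 = (K.index : ℂ)) ∧
      (seqFinset K (⊥ : Subgroup L)).card * K.index = Nat.card K - 1 := by
  classical
  have hlin : ∀ θ : IrrCharacter K, (θ : K → ℂ) 1 = 1 := by
    intro θ
    obtain ⟨d, -, hdd, hd⟩ := CharClifford.exists_degree_dvd_index_center θ.2
    rw [show Subgroup.center K = ⊤ from eq_top_iff.2 fun a _ =>
      Subgroup.mem_center_iff.2 fun b => mul_comm' b a, Subgroup.index_top, Nat.dvd_one] at hdd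
    rw [hd, hdd, Nat.cast_one]
  have hdeg : ∀ φ ∈ seqFinset K (⊥ : Subgroup L), φ 1 = (K.index : ℂ) := by
    intro φ hφ
    obtain ⟨θ, -, rfl⟩ := (mem_seqFinset K).1 hφ
    rw [CharInd.indFun_apply_one, hlin θ, mul_one]
  refine ⟨hdeg, ?_⟩
  have h := sum_seq K (⊥ : Subgroup L)
  have hterm : ∀ φ ∈ seqFinset K (⊥ : Subgroup L),
      (φ 1).re ^ 2 / normSqFn φ = (K.index : ℝ) ^ 2 := by
    intro φ hφ
    have hmem : φ ∈ inducedIrrAbove K (⊥ : Subgroup L) := by
      rw [← coe_seqFinset]; exact Finset.mem_coe.2 hφ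
    have h1 : normSqFn φ = 1 := by
      apply Complex.ofReal_injective
      rw [← inner_self, irr_inner_self (frob_seq_irr K hC hmem)]
      simp
    rw [hdeg φ hφ, h1, Complex.natCast_re, div_one]
  rw [sum_irrNP, Subgroup.relIndex_bot_left, Finset.sum_congr rfl hterm, Finset.sum_const,
    nsmul_eq_mul] at h
  have he : (K.index : ℝ) ≠ 0 := Nat.cast_ne_zero.2 Subgroup.index_ne_zero_of_finite
  have h2 : ((seqFinset K (⊥ : Subgroup L)).card : ℝ) * K.index = (Nat.card K : ℝ) - 1 := by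
    refine mul_left_cancel₀ he ?_
    linear_combination h
  have h3 : ((((seqFinset K (⊥ : Subgroup L)).card * K.index : ℕ)) : ℝ) =
      ((Nat.card K - 1 : ℕ) : ℝ) := by
    rw [Nat.cast_mul, Nat.cast_sub Nat.card_pos, Nat.cast_one, h2]
  exact_mod_cast h3

end Chars

end Cfsg.Agent.Coherence
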