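import Cfsg.Agent.S0188
import Cfsg.Agent.Lib.CharCore.Linear
import Cfsg.Agent.Lib.CharCore.Complete
import Cfsg.Agent.Lib.CharClifford.Central
import Cfsg.Agent.Lib.Transfer.Hall
import Cfsg.Agent.FGS80.Kegel
import Cfsg.Agent.Coherence.Irr
import Mathlib.GroupTheory.NoncommCoprod
import Cfsg.Prelude.Def_Blocks

/-!
# Degrees of irreducible characters of nilpotent groups: a lower bound on partial sums of squares
-/

set_option autoImplicit false

namespace Cfsg.Agent.Coherence

open scoped Classical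

universe u

section Deg

variable {P : Type u} [Group P] [Fintype P]

theorem charDegree_eq {χ : P → ℂ} (h : IsCharacter P χ) : χ 1 = (charDegree χ : ℂ) := by
  obtain ⟨n, hn, -⟩ := char_one_nat h
  simp [charDegree, hn]

theorem charDegree_irr_pos (χ : IrrCharacter P) : 0 < charDegree (χ : P → ℂ) :=
  Nat.pos_of_ne_zero fun h => irr_one_ne_zero χ.2 (by
    rw [charDegree_eq (irr_isCharacter χ.2), h, Nat.cast_zero])

theorem charDegree_irr_dvd (χ : IrrCharacter P) : charDegree (χ : P → ℂ) ∣ Nat.card P := by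
  obtain ⟨d, -, hd, he⟩ := CharClifford.exists_degree_dvd_card χ.2
  have : charDegree (χ : P → ℂ) = d :=
    Nat.cast_injective (R := ℂ) (by rw [← charDegree_eq (irr_isCharacter χ.2), he])
  rwa [this]

theorem sum_charDegree_sq :
    ∑ χ : IrrCharacter P, charDegree (χ : P → ℂ) ^ 2 = Nat.card P := by
  apply Nat.cast_injective (R := ℂ)
  push_cast
  rw [← CharCore.sum_degree_sq]
  exact Finset.sum_congr rfl fun χ _ => by rw [charDegree_eq (irr_isCharacter χ.2)]

/-- The number of linear characters. -/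
theorem card_filter_linear :
    (Finset.univ.filter fun χ : IrrCharacter P => charDegree (χ : P → ℂ) = 1).card =
      (commutator P).index := by
  rw [← CharCore.card_linearCharacters (G := P), Nat.card_eq_fintype_card, Fintype.card_subtype]
  congr 1
  ext χ
  simp only [Finset.mem_filter, Finset.mem_univ, true_and]
  rw [charDegree_eq (irr_isCharacter χ.2), Nat.cast_eq_one]

theorem one_charDegree :
    charDegree (fun _ : P => (1 : ℂ)) = 1 := by
  simp [charDegree]

/-- In a `p`-group the squares of the degrees below `a` sum to at least `a²` and `[P : P']`. -/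
theorem pgroup_sum_lt {p : ℕ} [hp : Fact p.Prime] (hP : IsPGroup p P) (α : IrrCharacter P)
    (ha : 1 < charDegree (α : P → ℂ)) :
    charDegree (α : P → ℂ) ^ 2 ≤ ∑ γ ∈ Finset.univ.filter
        (fun γ : IrrCharacter P => charDegree (γ : P → ℂ) < charDegree (α : P → ℂ)),
        charDegree (γ : P → ℂ) ^ 2 ∧
    (commutator P).index ≤ ∑ γ ∈ Finset.univ.filter
        (fun γ : IrrCharacter P => charDegree (γ : P → ℂ) < charDegree (α : P → ℂ)),
        charDegree (γ : P → ℂ) ^ 2 := by
  set a := charDegree (α : P → ℂ) with hadef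
  set S := Finset.univ.filter fun γ : IrrCharacter P => charDegree (γ : P → ℂ) < a with hS
  obtain ⟨m, hm⟩ := IsPGroup.iff_card.1 hP
  have hpow : ∀ γ : IrrCharacter P, ∃ i, charDegree (γ : P → ℂ) = p ^ i := fun γ => by
    have h := charDegree_irr_dvd γ
    rw [hm] at h
    exact ((Nat.dvd_prime_pow hp.out).1 h).imp fun i hi => hi.2
  have hlin : (commutator P).index ≤ ∑ γ ∈ S, charDegree (γ : P → ℂ) ^ 2 := by
    rw [← card_filter_linear, Finset.card_eq_sum_ones]
    refine le_trans (le_of_eq ?_) (Finset.sum_le_sum_of_subset_of_nonneg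
      (s := Finset.univ.filter fun χ : IrrCharacter P => charDegree (χ : P → ℂ) = 1) ?_
      fun γ _ _ => Nat.zero_le _)
    · exact Finset.sum_congr rfl fun γ hγ => by rw [(Finset.mem_filter.1 hγ).2, one_pow]
    · intro γ hγ
      rw [hS, Finset.mem_filter, (Finset.mem_filter.1 hγ).2]
      exact ⟨Finset.mem_univ _, ha⟩
  refine ⟨?_, hlin⟩
  have htot := sum_charDegree_sq (P := P)
  rw [← Finset.sum_filter_add_sum_filter_not Finset.univ
    (fun γ : IrrCharacter P => charDegree (γ : P → ℂ) < a)] at htot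
  have hpos : 0 < ∑ γ ∈ S, charDegree (γ : P → ℂ) ^ 2 :=
    lt_of_lt_of_le (Nat.pos_of_ne_zero Subgroup.index_ne_zero_of_finite) hlin
  obtain ⟨j, hj⟩ := hpow α
  have hrest : a ^ 2 ∣ ∑ γ ∈ Finset.univ.filter
      (fun γ : IrrCharacter P => ¬ charDegree (γ : P → ℂ) < a), charDegree (γ : P → ℂ) ^ 2 := by
    refine Finset.dvd_sum fun γ hγ => ?_
    obtain ⟨i, hi⟩ := hpow γ
    have hle := not_lt.1 (Finset.mem_filter.1 hγ).2
    rw [hi, hadef, hj] at hle ⊢
    exact pow_dvd_pow_of_dvd (pow_dvd_pow p ((Nat.pow_le_pow_iff_right hp.out.one_lt).1 hle)) 2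
  have hα : a ^ 2 < Nat.card P := by
    rw [← htot]
    refine Nat.lt_of_lt_of_le (Nat.lt_add_of_pos_left hpos) (Nat.add_le_add_left ?_ _)
    exact Finset.single_le_sum (f := fun γ : IrrCharacter P => charDegree (γ : P → ℂ) ^ 2)
      (fun γ _ => Nat.zero_le _) (Finset.mem_filter.2 ⟨Finset.mem_univ α, lt_irrefl a⟩)
  have hdvdP : a ^ 2 ∣ Nat.card P := by
    rw [hadef, hj, hm, ← pow_mul] at hα ⊢
    exact pow_dvd_pow p ((Nat.pow_lt_pow_iff_right hp.out.one_lt).1 hα).le
  rw [← htot] at hdvdP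
  exact Nat.le_of_dvd hpos ((Nat.dvd_add_left hrest).1 hdvdP)

end Deg

section Key

variable {H : Type u} [Group H] [Fintype H]

/-- A nilpotent group which is not a `p`-group has characteristic factors. -/
theorem exists_factor (hnil : Group.IsNilpotent H) (p : ℕ) [hp' : Fact p.Prime]
    (hdvd : p ∣ Nat.card H) (hpp : ¬ ∃ m, Nat.card H = p ^ m) :
    ∃ (P Q : Subgroup H), IsPGroup p P ∧ ¬ p ∣ Nat.card Q ∧ P.Characteristic ∧ Q.Characteristic ∧
      P ≠ ⊥ ∧ Q ≠ ⊥ ∧ ∃ π : IrrCharacter P × IrrCharacter Q → IrrCharacter H,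
        Function.Bijective π ∧ ∀ x, charDegree (π x : H → ℂ) =
          charDegree (x.1 : ↥P → ℂ) * charDegree (x.2 : ↥Q → ℂ) := by
  have hp : p.Prime := Fact.out
  obtain ⟨P, Q, hQn, hPQ⟩ := FGS80.Kegel.hasNormalPComplement_of_isNilpotent (q := p) hnil
  haveI := hnil
  haveI hPn : (P : Subgroup H).Normal := inferInstance
  haveI hPc : (P : Subgroup H).Characteristic := Sylow.characteristic_of_normal P hPn
  have hcopPQ : (Nat.card Q).Coprime (Nat.card (P : Subgroup H)) := by
    obtain ⟨k, hk⟩ := IsPGroup.iff_card.1 P.2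
    rw [hk]
    refine Nat.Coprime.pow_right k ?_
    rw [Nat.coprime_comm, hp.coprime_iff_not_dvd, ← hPQ.index_eq_card]
    exact P.not_dvd_index
  have hcardPQ : Nat.card Q * Nat.card (P : Subgroup H) = Nat.card H := hPQ.card_mul
  have hQchar : Q.Characteristic := by
    refine Subgroup.characteristic_iff_le_comap.2 fun φ x hx => ?_
    show φ x ∈ Q
    obtain ⟨⟨⟨a, ha⟩, ⟨b, hb⟩⟩, hab⟩ := hPQ.2 (φ x)
    have hb1 : b = 1 := by
      have hQ0 : ∀ u ∈ Q, u ^ Nat.card Q = 1 := fun u hu => by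
        refine orderOf_dvd_iff_pow_eq_one.1 ?_
        rw [← Subgroup.orderOf_mk u hu]
        exact orderOf_dvd_natCard _
      have h1 : (φ x) ^ Nat.card Q = 1 := by rw [← map_pow, hQ0 x hx, map_one]
      have hc : Commute a b := Transfer.nilpotent_commute_of_coprime hnil
        (hcopPQ.coprime_dvd_left (orderOf_dvd_of_pow_eq_one (hQ0 a ha)) |>.coprime_dvd_right
          (by rw [← Subgroup.orderOf_mk b hb]; exact orderOf_dvd_natCard _))
      simp only at hab
      rw [← hab, hc.mul_pow, hQ0 a ha, one_mul] at h1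
      rw [← orderOf_eq_one_iff]
      refine Nat.eq_one_of_dvd_coprimes hcopPQ (orderOf_dvd_of_pow_eq_one h1) ?_
      rw [← Subgroup.orderOf_mk b hb]; exact orderOf_dvd_natCard _
    simp only [hb1, mul_one] at hab
    exact hab ▸ ha
  have hPne : (P : Subgroup H) ≠ ⊥ := P.ne_bot_of_dvd_card hdvd
  have hQne : Q ≠ ⊥ := by
    intro h
    obtain ⟨k, hk⟩ := IsPGroup.iff_card.1 P.2
    rw [h, Subgroup.card_bot, one_mul, hk] at hcardPQ
    exact hpp ⟨k, hcardPQ.symm⟩
  have hcomm : ∀ (a : (P : Subgroup H)) (b : Q), Commute (a : H) (b : H) := fun a b =>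
    Transfer.nilpotent_commute_of_coprime hnil
      (hcopPQ.symm.coprime_dvd_left (by rw [Subgroup.orderOf_coe]; exact orderOf_dvd_natCard _)
        |>.coprime_dvd_right (by rw [Subgroup.orderOf_coe]; exact orderOf_dvd_natCard _))
  have hbij : Function.Bijective (MonoidHom.noncommCoprod (P : Subgroup H).subtype Q.subtype hcomm) := by
    refine (Fintype.bijective_iff_surjective_and_card _).2 ⟨fun x => ?_, ?_⟩
    · obtain ⟨⟨b, a⟩, hab⟩ := hPQ.2 x
      refine ⟨(a, b), ?_⟩
      simp only at hab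
      show (a : H) * (b : H) = x
      rw [(hcomm a b).eq]
      exact hab
    · rw [← Nat.card_eq_fintype_card, ← Nat.card_eq_fintype_card, Nat.card_prod, mul_comm, hcardPQ]
  set E := MulEquiv.ofBijective _ hbij
  -- characters of the product
  have hprod : ∀ (α : IrrCharacter (P : Subgroup H)) (β : IrrCharacter Q),
      IsIrrCharacter H (fun h => (α : ↥(P : Subgroup H) → ℂ) (E.symm h).1 *
        (β : Q → ℂ) (E.symm h).2) := fun α β =>
    CharCore.isIrrCharacter_comp_surjective (S0188.isIrrCharacter_prod α.2 β.2) E.symm.toMonoidHom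
      E.symm.surjective
  let π : IrrCharacter (P : Subgroup H) × IrrCharacter Q → IrrCharacter H := fun x =>
    ⟨_, hprod x.1 x.2⟩
  have hπdeg : ∀ x, charDegree (π x : H → ℂ) =
      charDegree (x.1 : ↥(P : Subgroup H) → ℂ) * charDegree (x.2 : Q → ℂ) := by
    intro x
    apply Nat.cast_injective (R := ℂ)
    rw [Nat.cast_mul, ← charDegree_eq (irr_isCharacter (π x).2),
      ← charDegree_eq (irr_isCharacter x.1.2), ← charDegree_eq (irr_isCharacter x.2.2)]
    show (x.1 : ↥(P : Subgroup H) → ℂ) (E.symm 1).1 * (x.2 : Q → ℂ) (E.symm 1).2 = _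
    rw [map_one]
    rfl
  have hπinj : Function.Injective π := by
    intro x y hxy
    have h1 : (fun z : ↥(P : Subgroup H) × ↥Q =>
        (x.1 : ↥(P : Subgroup H) → ℂ) z.1 * (x.2 : Q → ℂ) z.2) =
        fun z => (y.1 : ↥(P : Subgroup H) → ℂ) z.1 * (y.2 : Q → ℂ) z.2 := by
      funext z
      have h := congrFun (congrArg Subtype.val hxy) (E z)
      simpa [π] using h
    have h2 := congrArg (fun f => classInner f
      (fun z : ↥(P : Subgroup H) × ↥Q => (y.1 : ↥(P : Subgroup H) → ℂ) z.1 * (y.2 : Q → ℂ) z.2)) h1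
    simp only [S0188.classInner_prod, irr_inner_self y.1.2, irr_inner_self y.2.2, mul_one] at h2
    refine Prod.ext ?_ ?_
    · by_contra hne
      rw [irr_inner_ne x.1.2 y.1.2 (fun e => hne (Subtype.ext e)), zero_mul] at h2
      exact zero_ne_one h2
    · by_contra hne
      rw [irr_inner_ne x.2.2 y.2.2 (fun e => hne (Subtype.ext e)), mul_zero] at h2
      exact zero_ne_one h2
  have hπsurj : Function.Surjective π := by
    intro θ
    obtain ⟨φ, ψ, hφ, hψ, he⟩ := (S0188.result (fun z => (θ : H → ℂ) (E z))).1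
      (CharCore.isIrrCharacter_comp_surjective θ.2 E.toMonoidHom E.surjective)
    refine ⟨(⟨φ, hφ⟩, ⟨ψ, hψ⟩), Subtype.ext (funext fun h => ?_)⟩
    have h' := congrFun he (E.symm h)
    simpa [π] using h'.symm
  refine ⟨(P : Subgroup H), Q, P.2, ?_, hPc, hQchar, hPne, hQne, π, ⟨hπinj, hπsurj⟩, hπdeg⟩
  rw [← hPQ.index_eq_card]
  exact P.not_dvd_index

/-- If `H` is not a prime power, `[H : H']` is at least `(e + 1)²`. -/
theorem nilpotent_index_big (hnil : Group.IsNilpotent H) (e : ℕ)
    (hx : ∀ N : Subgroup H, N.Characteristic → N ≠ ⊥ → e + 1 ≤ (commutator N).index)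
    (p : ℕ) [Fact p.Prime] (hdvd : p ∣ Nat.card H) (hpp : ¬ ∃ m, Nat.card H = p ^ m) :
    (e + 1) ^ 2 ≤ (commutator H).index := by
  obtain ⟨P, Q, -, -, hPc, hQc, hPne, hQne, π, hπ, hπdeg⟩ := exists_factor hnil p hdvd hpp
  rw [sq]
  refine le_trans (Nat.mul_le_mul (hx P hPc hPne) (hx Q hQc hQne)) ?_
  rw [← card_filter_linear, ← card_filter_linear, ← card_filter_linear, ← Finset.card_product]
  refine Finset.card_le_card_of_injOn π (fun x hx' => ?_) hπ.1.injOn
  simp only [Finset.coe_product, Set.mem_prod, Finset.coe_filter, Finset.mem_univ, true_and,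
    Set.mem_setOf_eq] at hx' ⊢
  rw [hπdeg, hx'.1, hx'.2]

/-- Lower bounds for partial sums of squares of degrees in a nilpotent group. -/
theorem nilpotent_degree_weight (hnil : Group.IsNilpotent H) (e : ℕ) (he : 0 < e)
    (hx : ∀ N : Subgroup H, N.Characteristic → N ≠ ⊥ → e + 1 ≤ (commutator N).index)
    (hex : ¬ ∃ p m : ℕ, p.Prime ∧ Nat.card H = p ^ m ∧ (commutator H).index ≤ 4 * e ^ 2 + 1)
    (θ : IrrCharacter H) (ht : 1 < charDegree (θ : H → ℂ)) :
    2 * e * charDegree (θ : H → ℂ) < ∑ γ ∈ Finset.univ.filter (fun γ : IrrCharacter H =>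
      (γ : H → ℂ) ≠ (fun _ => 1) ∧ charDegree (γ : H → ℂ) < charDegree (θ : H → ℂ)),
        charDegree (γ : H → ℂ) ^ 2 := by
  set t := charDegree (θ : H → ℂ) with htdef
  set T := Finset.univ.filter (fun γ : IrrCharacter H =>
      (γ : H → ℂ) ≠ (fun _ => 1) ∧ charDegree (γ : H → ℂ) < t) with hT
  have htdvd : t ∣ Nat.card H := charDegree_irr_dvd θ
  obtain ⟨p, hp, hpt⟩ := Nat.exists_prime_and_dvd (show t ≠ 1 by omega)
  haveI := Fact.mk hp
  by_cases hpp : ∃ m, Nat.card H = p ^ m
  · obtain ⟨m, hm⟩ := hpp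
    have hx' : 4 * e ^ 2 + 1 < (commutator H).index := by
      by_contra h
      exact hex ⟨p, m, hp, hm, not_lt.1 h⟩
    obtain ⟨h1, h2⟩ := pgroup_sum_lt (IsPGroup.of_card hm) θ ht
    set one : IrrCharacter H := ⟨fun _ => 1, CharCore.isIrrCharacter_one⟩
    have hsub : Finset.univ.filter (fun γ : IrrCharacter H => charDegree (γ : H → ℂ) < t) =
        insert one T := by
      ext γ
      simp only [hT, Finset.mem_insert, Finset.mem_filter, Finset.mem_univ, true_and]
      constructor
      · intro h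
        by_cases h1 : (γ : H → ℂ) = fun _ => 1
        · exact Or.inl (Subtype.ext h1)
        · exact Or.inr ⟨h1, h⟩
      · rintro (rfl | h)
        · exact one_charDegree.trans_lt ht
        · exact h.2
    rw [hsub, Finset.sum_insert (by simp [hT, one])] at h1 h2
    rw [one_charDegree, one_pow] at h1 h2
    rcases Nat.lt_or_ge t (2 * e + 1) with hlt | hge
    · nlinarith
    · nlinarith
  -- two proper factors
  obtain ⟨P, Q, hP2, hpQ, hPc, hQchar, hPne, hQne, π, hπ, hπdeg⟩ :=
    exists_factor hnil p (hpt.trans htdvd) hpp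
  have hxP := hx P hPc hPne
  have hxQ := hx Q hQchar hQne
  have hπinj := hπ.1
  obtain ⟨⟨α, β⟩, hαβ⟩ := hπ.2 θ
  set a := charDegree (α : ↥(P : Subgroup H) → ℂ) with hadef
  set b := charDegree (β : Q → ℂ) with hbdef
  have htab : t = a * b := by rw [htdef, ← hαβ, hπdeg]
  have hb0 : 0 < b := charDegree_irr_pos β
  have hpb : ¬ p ∣ b := fun h => by
    have h1 : p ∣ Nat.card Q := h.trans (charDegree_irr_dvd β)
    exact hpQ h1
  have ha1 : 1 < a := by
    have ha0 : 0 < a := charDegree_irr_pos α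
    have h : a ≠ 1 := fun h => hpb (by rw [htab, h, one_mul] at hpt; exact hpt)
    omega
  set LP := Finset.univ.filter fun γ : IrrCharacter (P : Subgroup H) =>
    charDegree (γ : ↥(P : Subgroup H) → ℂ) = 1
  set LQ := Finset.univ.filter fun γ : IrrCharacter Q => charDegree (γ : Q → ℂ) = 1
  have hLP : LP.card = (commutator (P : Subgroup H)).index := card_filter_linear
  have hLQ : LQ.card = (commutator Q).index := card_filter_linear
  have hone : ∀ x, (π x : H → ℂ) = (fun _ => 1) →
      charDegree (x.1 : ↥(P : Subgroup H) → ℂ) * charDegree (x.2 : Q → ℂ) = 1 := fun x h => by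
    rw [← hπdeg, h, one_charDegree]
  rcases Nat.lt_or_ge 1 b with hb1 | hb1
  · -- both factors are non-linear
    set SA := Finset.univ.filter fun γ : IrrCharacter (P : Subgroup H) =>
      charDegree (γ : ↥(P : Subgroup H) → ℂ) = a with hSA
    set SB := Finset.univ.filter fun γ : IrrCharacter Q => charDegree (γ : Q → ℂ) = b with hSB
    have hsub : (SA ×ˢ LQ ∪ LP ×ˢ SB).image π ⊆ T := by
      intro γ hγ
      obtain ⟨x, hx', rfl⟩ := Finset.mem_image.1 hγ
      have hdeg : charDegree (π x : H → ℂ) = a ∨ charDegree (π x : H → ℂ) = b := by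
        simp only [SA, SB, LP, LQ, Finset.mem_union, Finset.mem_product, Finset.mem_filter,
          Finset.mem_univ, true_and] at hx'
        rcases hx' with ⟨h1, h2⟩ | ⟨h1, h2⟩ <;> rw [hπdeg, h1, h2] <;> simp
      refine Finset.mem_filter.2 ⟨Finset.mem_univ _, fun h => ?_, ?_⟩
      · rw [h, one_charDegree] at hdeg
        omega
      · rw [htab]
        rcases hdeg with h | h <;> rw [h]
        · exact lt_mul_of_one_lt_right (by omega) hb1
        · exact lt_mul_of_one_lt_left hb0 ha1
    refine lt_of_lt_of_le ?_ (Finset.sum_le_sum_of_subset hsub)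
    have hdisj : Disjoint (SA ×ˢ LQ) (LP ×ˢ SB) := by
      refine Finset.disjoint_left.2 fun x h1 h2 => ?_
      simp only [SA, SB, LP, LQ, Finset.mem_product, Finset.mem_filter, Finset.mem_univ,
        true_and] at h1 h2
      omega
    have hA : ∀ x ∈ SA ×ˢ LQ, charDegree (π x : H → ℂ) ^ 2 = a ^ 2 := fun x hx' => by
      simp only [SA, LQ, Finset.mem_product, Finset.mem_filter, Finset.mem_univ, true_and] at hx'
      rw [hπdeg, hx'.1, hx'.2, mul_one]
    have hB : ∀ x ∈ LP ×ˢ SB, charDegree (π x : H → ℂ) ^ 2 = b ^ 2 := fun x hx' => by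
      simp only [SB, LP, Finset.mem_product, Finset.mem_filter, Finset.mem_univ, true_and] at hx'
      rw [hπdeg, hx'.1, hx'.2, one_mul]
    rw [Finset.sum_image hπinj.injOn, Finset.sum_union hdisj, Finset.sum_congr rfl hA,
      Finset.sum_congr rfl hB, Finset.sum_const, Finset.sum_const, Finset.card_product,
      Finset.card_product, smul_eq_mul, smul_eq_mul, hLP, hLQ, htab]
    have h1 : 1 ≤ SA.card := Finset.card_pos.2 ⟨α, by simp [SA, hadef]⟩
    have h2 : 1 ≤ SB.card := Finset.card_pos.2 ⟨β, by simp [SB, hbdef]⟩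
    have h3 : (e + 1) * a ^ 2 ≤ SA.card * (commutator Q).index * a ^ 2 :=
      Nat.mul_le_mul_right _ (le_trans hxQ (Nat.le_mul_of_pos_left _ h1))
    have h4 : (e + 1) * b ^ 2 ≤ (commutator (P : Subgroup H)).index * SB.card * b ^ 2 :=
      Nat.mul_le_mul_right _ (le_trans hxP (Nat.le_mul_of_pos_right _ h2))
    have h5 : 2 * (a * b) ≤ a ^ 2 + b ^ 2 := by
      nlinarith [two_mul_le_add_sq (a : ℤ) (b : ℤ)]
    nlinarith
  · -- the second factor is linear
    have hb : b = 1 := by omega
    obtain ⟨h1, -⟩ := pgroup_sum_lt hP2 α ha1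
    set SA := Finset.univ.filter fun γ : IrrCharacter (P : Subgroup H) =>
      charDegree (γ : ↥(P : Subgroup H) → ℂ) < a with hSA
    set one : IrrCharacter H := ⟨fun _ => 1, CharCore.isIrrCharacter_one⟩
    have hsub : (SA ×ˢ LQ).image π ⊆ insert one T := by
      intro γ hγ
      obtain ⟨x, hx', rfl⟩ := Finset.mem_image.1 hγ
      simp only [SA, LQ, Finset.mem_product, Finset.mem_filter, Finset.mem_univ, true_and] at hx'
      by_cases h : (π x : H → ℂ) = fun _ => 1
      · exact Finset.mem_insert.2 (Or.inl (Subtype.ext h))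
      · refine Finset.mem_insert_of_mem (Finset.mem_filter.2 ⟨Finset.mem_univ _, h, ?_⟩)
        rw [hπdeg, hx'.2, htab, hb, mul_one, mul_one]
        exact hx'.1
    have h2 := Finset.sum_le_sum_of_subset hsub
      (f := fun γ : IrrCharacter H => charDegree (γ : H → ℂ) ^ 2)
    rw [Finset.sum_insert (by simp [hT, one]), one_charDegree, one_pow,
      Finset.sum_image hπinj.injOn, Finset.sum_product] at h2
    have h3 : ∑ x ∈ SA, ∑ y ∈ LQ, charDegree (π (x, y) : H → ℂ) ^ 2 =
        (∑ x ∈ SA, charDegree (x : ↥(P : Subgroup H) → ℂ) ^ 2) * (commutator Q).index := by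
      rw [← hLQ, Finset.sum_mul]
      refine Finset.sum_congr rfl fun x _ => ?_
      rw [Finset.sum_congr rfl (fun y hy => show charDegree (π (x, y) : H → ℂ) ^ 2 =
        charDegree (x : ↥(P : Subgroup H) → ℂ) ^ 2 by
          rw [hπdeg, (Finset.mem_filter.1 hy).2, mul_one]), Finset.sum_const, smul_eq_mul, mul_comm]
    rw [h3] at h2
    have h4 : a ^ 2 * (e + 1) ≤
        (∑ x ∈ SA, charDegree (x : ↥(P : Subgroup H) → ℂ) ^ 2) * (commutator Q).index :=
      Nat.mul_le_mul h1 hxQ
    rw [htab, hb, mul_one]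
    nlinarith [Nat.mul_le_mul_right (a * (e + 1)) ha1]

end Key

end Cfsg.Agent.Coherence
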