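import Cfsg.Agent.S1517
import Cfsg.Agent.S1522
import Cfsg.Agent.S1523
import Cfsg.Agent.S1531
import Cfsg.Agent.Coherence.Grow
import Cfsg.Agent.Coherence.FrobKernel
import Cfsg.Agent.OddLocal44.SelfCentralizing

/-!
# Sibley's coherence theorem, the case of a non-abelian `p`-group kernel
-/

set_option autoImplicit false

namespace Cfsg.Agent.Coherence

open scoped ComplexConjugate commutatorElement

section Basics

/-- A TI kernel which is a `p`-group is a Sylow subgroup. -/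
theorem sylow_of_kernel {G : Type*} [Group G] [Finite G] (H L : Subgroup G) (p : ℕ) [Fact p.Prime]
    (hp : IsPGroup p H) (hH1 : H ≠ ⊥) (hHL : H ≤ L) [(H.subgroupOf L).Normal]
    (hC : ∀ n ∈ H.subgroupOf L, n ≠ 1 → Subgroup.centralizer ({n} : Set L) ≤ H.subgroupOf L)
    (hN : Subgroup.normalizer (H : Set G) = L) : ∃ P : Sylow p G, (P : Subgroup G) = H := by
  obtain ⟨P, hHP⟩ := hp.exists_le_sylow
  refine ⟨P, ?_⟩
  by_contra hne
  have hlt : H < P := lt_of_le_of_ne hHP (Ne.symm hne)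
  haveI : Group.IsNilpotent (P : Subgroup G) := P.2.isNilpotent
  set H' := H.subgroupOf (P : Subgroup G)
  have hH' : H' < ⊤ := by
    rw [lt_top_iff_ne_top, Ne, Subgroup.subgroupOf_eq_top]
    exact hlt.not_ge
  obtain ⟨x, hxn, hxH⟩ :=
    SetLike.exists_of_lt (Group.normalizerCondition_of_isNilpotent H' hH')
  have hxL : (x : G) ∈ L := by
    rw [← hN, Subgroup.mem_normalizer_iff]
    intro h
    rw [Subgroup.mem_normalizer_iff] at hxn
    constructor
    · intro hh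
      have := (hxn ⟨h, hHP hh⟩).1 (Subgroup.mem_subgroupOf.2 hh)
      simpa [H', Subgroup.mem_subgroupOf] using this
    · intro hh
      have hP' : h ∈ (P : Subgroup G) := by
        have := (P : Subgroup G).mul_mem ((P : Subgroup G).mul_mem
          ((P : Subgroup G).inv_mem x.2) (hHP hh)) x.2
        simpa [mul_assoc] using this
      have := (hxn ⟨h, hP'⟩).2 (Subgroup.mem_subgroupOf.2 (by simpa using hh))
      exact Subgroup.mem_subgroupOf.1 this
  set Q := Subgroup.zpowers (x : G) ⊔ H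
  have hQL : Q ≤ L := sup_le (Subgroup.zpowers_le.2 hxL) hHL
  have hQP : Q ≤ (P : Subgroup G) := sup_le (Subgroup.zpowers_le.2 x.2) hHP
  obtain ⟨j, hj⟩ := IsPGroup.iff_card.1 (P.2.to_le hQP)
  obtain ⟨i, hi⟩ := IsPGroup.iff_card.1 hp
  have hcardK : Nat.card (H.subgroupOf L) = Nat.card H :=
    Nat.card_congr (Subgroup.subgroupOfEquivOfLe hHL).toEquiv
  have he := index_dvd_card_sub_one_of_le (H.subgroupOf L) hC (H.subgroupOf L) le_rfl
  rw [hcardK] at he
  have hcop : (Nat.card Q).Coprime (H.subgroupOf L).index := by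
    rw [hj]
    refine Nat.Coprime.pow_left j ?_
    rw [Nat.Prime.coprime_iff_not_dvd Fact.out]
    intro hpe
    have h1 : p ∣ Nat.card H - 1 := hpe.trans he
    have hpH : p ∣ Nat.card H := by
      rw [hi]
      refine dvd_pow_self p fun h0 => hH1 ?_
      rw [h0, pow_zero, Subgroup.card_eq_one] at hi
      exact hi
    have hpos : 0 < Nat.card H := Nat.card_pos
    have := Nat.dvd_sub hpH h1
    rw [Nat.sub_sub_self hpos] at this
    exact (Fact.out : p.Prime).not_dvd_one this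
  have hdvd : Nat.card Q ∣ Nat.card H := by
    refine hcop.dvd_of_dvd_mul_left ?_
    rw [← hcardK, Subgroup.index_mul_card]
    exact Subgroup.card_dvd_of_le hQL
  have hQH : H = Q :=
    Subgroup.eq_of_le_of_card_ge le_sup_right (Nat.le_of_dvd Nat.card_pos hdvd)
  refine hxH (Subgroup.mem_subgroupOf.2 ?_)
  rw [hQH]
  exact (le_sup_left : Subgroup.zpowers (x : G) ≤ Q) (Subgroup.mem_zpowers _)

/-- A class function at two points, expanded in the irreducible characters. -/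
theorem apply_sub_apply_one {L : Type*} [Group L] [Fintype L] {f : L → ℂ}
    (hf : IsClassFunction L f) (z : L) :
    f z - f 1 = ∑ χ : IrrCharacter L,
      classInner f χ * ((χ : L → ℂ) z - (χ : L → ℂ) 1) := by
  have h := CharCore.eq_sum_classInner hf
  rw [congrFun h z, congrFun h 1]
  simp only [Finset.sum_apply, Pi.smul_apply, smul_eq_mul, mul_sub, Finset.sum_sub_distrib]

/-- With two characters, the isometry can be replaced by its twist with conjugation. -/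
theorem flip_two {L : Type*} [Group L] [Fintype L] {G : Type*} [Group G] [Fintype G]
    {Y : Finset (L → ℂ)} (hY : ∀ η ∈ Y, IsIrrCharacter L η) (hc : ∀ η ∈ Y, conjFun η ∈ Y)
    (hne : ∀ η ∈ Y, conjFun η ≠ η) (hcard : Y.card = 2) {τ τ₂ : (L → ℂ) → (G → ℂ)}
    (hτ₂ : IsLinearIsometryOn (zspan (↑Y : Set (L → ℂ))) τ₂)
    (hag : ∀ α ∈ zspanOn (↑Y : Set (L → ℂ)) {1}ᶜ, τ₂ α = τ α) :
    ∃ τ' : (L → ℂ) → (G → ℂ), IsLinearIsometryOn (zspan (↑Y : Set (L → ℂ))) τ' ∧
      (∀ α ∈ zspanOn (↑Y : Set (L → ℂ)) {1}ᶜ, τ' α = τ α) ∧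
      ∀ η ∈ Y, τ' η = -τ₂ (conjFun η) := by
  classical
  have h0 : ∀ η ∈ Y, η ≠ 0 := fun η h => irr_ne_zero (hY η h)
  have horth : ∀ η ∈ Y, ∀ ψ ∈ Y, η ≠ ψ → classInner η ψ = 0 := fun η h ψ h' hn =>
    irr_inner_ne (hY η h) (hY ψ h') hn
  refine ⟨orthExt Y fun η => -τ₂ (conjFun η), orthExt_isometry Y _ h0 horth ?_ ?_, ?_,
    fun η h => orthExt_apply _ h0 horth h⟩
  · intro η h ψ h'
    rw [inner_neg_left, inner_neg_right, neg_neg,
      hτ₂.2.2.1 _ (zspan_subset (hc η h)) _ (zspan_subset (hc ψ h'))]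
    by_cases e : η = ψ
    · rw [e, irr_inner_self (hY _ (hc ψ h')), irr_inner_self (hY ψ h')]
    · rw [horth η h ψ h' e, horth _ (hc η h) _ (hc ψ h') fun e' => e (by
        rw [← conjFun_conjFun η, e', conjFun_conjFun])]
  · exact fun c => gen_sum _ _ fun η h => gen_zsmul (gen_neg (hτ₂.2.2.2 _ (zspan_subset (hc η h)))) _
  · intro α hα
    obtain ⟨hs, h1⟩ := mem_zspanOn_one.1 hα
    obtain ⟨c, rfl⟩ := mem_zspan_finset.1 hs
    rw [← hag _ hα, orthExt_sum_self _ h0 horth,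
      iso_zspan_sum hτ₂ Y c (fun η => η) (fun η h => zspan_subset h)]
    obtain ⟨a, ha⟩ := Finset.card_pos.1 (by omega : 0 < Y.card)
    have hY2 : Y = {a, conjFun a} := by
      refine (Finset.eq_of_subset_of_card_le ?_ ?_).symm
      · exact Finset.insert_subset ha (Finset.singleton_subset_iff.2 (hc a ha))
      · rw [hcard, Finset.card_pair (hne a ha).symm]
    rw [hY2, Finset.sum_pair (hne a ha).symm, Finset.sum_pair (hne a ha).symm, conjFun_conjFun]
    rw [hY2, Finset.sum_pair (hne a ha).symm] at h1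
    have hcc : c (conjFun a) = -c a := by
      simp only [Pi.add_apply, Pi.mul_apply, Pi.intCast_apply, zsmul_eq_mul,
        conjFun_one_of_char (irr_isCharacter (hY a ha))] at h1
      have h2 : ((c a : ℂ) + c (conjFun a)) * a 1 = 0 := by rw [add_mul]; exact h1
      have h3 := (mul_eq_zero.1 h2).resolve_right (irr_one_ne_zero (hY a ha))
      have h4 : c a + c (conjFun a) = 0 := by exact_mod_cast h3
      omega
    rw [hcc]
    simp only [neg_smul, smul_neg, neg_neg]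
    abel

end Basics

section Core

variable {G : Type*} [Group G] [Fintype G] (H L : Subgroup G) [Fintype L] [(H.subgroupOf L).Normal]

/-- Degree of a member of `S(A)`: `e` times a power of `p`. -/
theorem seq_degree {L : Type*} [Group L] [Fintype L] (K : Subgroup L) {p : ℕ} [Fact p.Prime]
    (hp : IsPGroup p K) {A : Subgroup L} {θ : IrrCharacter K} (_hθ : θ ∈ irrNP K A) :
    ∃ a : ℕ, (θ : K → ℂ) 1 = ((p ^ a : ℕ) : ℂ) ∧
      indFun K (θ : K → ℂ) 1 = ((K.index * p ^ a : ℕ) : ℂ) := by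
  obtain ⟨d, -, hd, hd1⟩ := CharClifford.exists_degree_dvd_card θ.2
  obtain ⟨m, hm⟩ := IsPGroup.iff_card.1 hp
  rw [hm] at hd
  obtain ⟨a, -, rfl⟩ := (Nat.dvd_prime_pow Fact.out).1 hd
  exact ⟨a, hd1, by rw [CharInd.indFun_apply_one, hd1]; push_cast; ring⟩

variable {H L}

open Classical in
theorem sibley_pgroup (hodd : Odd (Nat.card L)) (hHL : H ≤ L) (hH1 : H ≠ ⊥)
    (hKT : H.subgroupOf L < ⊤)
    (hC : ∀ n ∈ H.subgroupOf L, n ≠ 1 → Subgroup.centralizer ({n} : Set L) ≤ H.subgroupOf L)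
    (hTI : IsTISubset (H : Set G)) (hN : Subgroup.normalizer (H : Set G) = L)
    {p : ℕ} [Fact p.Prime] (hp : IsPGroup p H) (hna : ⁅H.subgroupOf L, H.subgroupOf L⁆ ≠ ⊥)
    {R : (L → ℂ) → Finset (G → ℂ)}
    (hS : IsCoherenceSystem (inducedIrrAbove (H.subgroupOf L) ⊥) (fun α => indFun L α) R) :
    IsCoherent (inducedIrrAbove (H.subgroupOf L) ⊥) {1}ᶜ (fun α => indFun L α) := by
  haveI := Fintype.ofFinite (H.subgroupOf L)
  set K := H.subgroupOf L with hKdef
  set τ : (L → ℂ) → (G → ℂ) := fun α => indFun L α with hτdef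
  have hpK : IsPGroup p K := hp.of_equiv (Subgroup.subgroupOfEquivOfLe hHL).symm
  haveI hnil : Group.IsNilpotent K := hpK.isNilpotent
  have hsolv : Group.IsSolvable K := inferInstance
  have hK1 : K ≠ ⊥ := by
    rw [Ne, hKdef, Subgroup.subgroupOf_eq_bot, disjoint_iff, inf_eq_left.2 hHL]
    exact hH1
  have hcardK : Nat.card K = Nat.card H :=
    Nat.card_congr (Subgroup.subgroupOfEquivOfLe hHL).toEquiv
  set H₁ : Subgroup L := ⁅K, K⁆
  haveI : H₁.Normal := Subgroup.commutator_normal K K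
  have hH₁K : H₁ < K := frob_commutator_lt K hK1
  have hfrob : ∀ k ∈ K, k ∉ H₁ → ∀ x : L, x * k * x⁻¹ * k⁻¹ ∈ H₁ → x ∈ K :=
    fun k hk hk1 x hx => frob_quot K hC H₁ hH₁K.le hk hk1 x hx
  -- the central subgroup `Z`
  haveI hcn : (Subgroup.centralizer (K : Set L)).Normal := inferInstance
  set Z : Subgroup L := H₁ ⊓ Subgroup.centralizer (K : Set L) with hZdef
  haveI : Z.Normal := Subgroup.normal_inf_normal _ _
  have hZH₁ : Z ≤ H₁ := inf_le_left
  have hZK : Z ≤ K := hZH₁.trans hH₁K.le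
  have hZc : ∀ z ∈ Z, ∀ k ∈ K, z * k = k * z := fun z hz k hk =>
    ((Subgroup.mem_centralizer_iff.1 hz.2) k hk).symm
  have hZ1 : Z ≠ ⊥ := by
    have h0 : H₁.subgroupOf K ≠ ⊥ := by
      rw [Ne, Subgroup.subgroupOf_eq_bot, disjoint_iff, inf_eq_left.2 hH₁K.le]
      exact hna
    haveI : (H₁.subgroupOf K).Normal := Subgroup.normal_subgroupOf
    have h := OddLocal44.inf_center_ne_bot_of_nilpotent (H₁.subgroupOf K) h0
    intro hZ
    refine h ((Subgroup.eq_bot_iff_forall _).2 fun x hx => Subtype.ext ?_)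
    have : (x : L) ∈ Z := ⟨Subgroup.mem_subgroupOf.1 hx.1, Subgroup.mem_centralizer_iff.2
      fun k hk => congrArg Subtype.val ((Subgroup.mem_center_iff.1 hx.2) ⟨k, hk⟩)⟩
    exact Subgroup.mem_bot.1 (hZ ▸ this)
  have hirr : ∀ φ ∈ inducedIrrAbove K (⊥ : Subgroup L), IsIrrCharacter L φ :=
    fun φ h => frob_seq_irr K hC h
  -- the two coherent pieces
  obtain ⟨hpart, -, τ₁, hτ₁, hag₁⟩ := S1522.result K hsolv τ R hS hodd hnil hH₁K hKT hfrob Z hZ1
    hZK hZc (fun χ hχ => hirr χ hχ.1)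
  set U := seqFinset K (⊥ : Subgroup L) with hUdef
  have hU : (↑U : Set (L → ℂ)) = inducedIrrAbove K ⊥ := coe_seqFinset K ⊥
  set Xf := U \ seqFinset K Z with hXdef
  set Yf := seqFinset K H₁ with hYdef
  have hXset : (↑Xf : Set (L → ℂ)) = inducedIrrAbove K ⊥ \ inducedIrrAbove K Z := by
    rw [hXdef, Finset.coe_sdiff, hU, coe_seqFinset]
  have hYset : (↑Yf : Set (L → ℂ)) = inducedIrrAbove K H₁ := coe_seqFinset K H₁
  have hYZ : Yf ⊆ seqFinset K Z := by
    rw [← Finset.coe_subset, hYset, coe_seqFinset]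
    exact seq_subset K fun x _ hx => hZH₁ hx
  have hYU : Yf ⊆ U := by
    rw [← Finset.coe_subset, hYset, hU]; exact seq_subset_bot K H₁
  have hXU : Xf ⊆ U := Finset.sdiff_subset
  have hmemU : ∀ {φ}, φ ∈ U → φ ∈ inducedIrrAbove K (⊥ : Subgroup L) :=
    fun {φ} h => by rw [← hU]; exact Finset.mem_coe.2 h
  have hXYd : Disjoint Xf Yf := Finset.disjoint_left.2 fun φ h1 h2 =>
    (Finset.mem_sdiff.1 h1).2 (hYZ h2)
  have hUc : ∀ φ ∈ U, conjFun φ ∈ U := fun φ h => by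
    rw [← Finset.mem_coe, hU]; exact seq_conj K (hmemU h)
  have hZc' : ∀ φ, φ ∈ seqFinset K Z → conjFun φ ∈ seqFinset K Z := fun φ h => by
    rw [← Finset.mem_coe, coe_seqFinset] at h ⊢; exact seq_conj K h
  have hXc : ∀ φ ∈ Xf, conjFun φ ∈ Xf := fun φ h => by
    rw [Finset.mem_sdiff] at h ⊢
    exact ⟨hUc φ h.1, fun h' => h.2 (by simpa [conjFun_conjFun] using hZc' _ h')⟩
  have hYc : ∀ φ ∈ Yf, conjFun φ ∈ Yf := fun φ h => by
    rw [← Finset.mem_coe, hYset] at h ⊢; exact seq_conj K h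
  have hne : ∀ φ ∈ U, conjFun φ ≠ φ := fun φ h => hS.conj_ne φ (hmemU h)
  have hpp : p.Prime := Fact.out
  -- degrees
  have hdeg : ∀ φ ∈ U, ∃ a : ℕ, φ 1 = ((K.index * p ^ a : ℕ) : ℂ) := by
    intro φ hφ
    obtain ⟨θ, hθ, rfl⟩ := (mem_seqFinset K).1 hφ
    exact (seq_degree K hpK hθ).imp fun a ha => ha.2
  have hYdeg : ∀ φ ∈ Yf, φ 1 = (K.index : ℂ) := by
    intro φ hφ
    obtain ⟨θ, hθ, rfl⟩ := (mem_seqFinset K).1 hφ
    have hb := degree_bound θ.2 (H₁.subgroupOf K) ⊤ ⊤ le_rfl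
      (fun x _ y _ => show _ ∈ H₁ by
        simpa [commutatorElement_def] using Subgroup.commutator_mem_commutator x.2 y.2)
      (fun b hb => ((mem_irrNP K).1 hθ).2 b hb)
    obtain ⟨t, ht, htp⟩ := char_one_nat (irr_isCharacter θ.2)
    rw [ht, Complex.natCast_re, Nat.card_congr (Subgroup.topEquiv (G := K)).toEquiv] at hb
    have hb' : t ^ 2 * Nat.card K * Nat.card K ≤ Nat.card K ^ 2 := by exact_mod_cast hb
    have hK : 0 < Nat.card K * Nat.card K := Nat.mul_pos Nat.card_pos Nat.card_pos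
    have ht2 : t ^ 2 ≤ 1 := by nlinarith
    have ht1 : t = 1 := by
      have := htp (irr_ne_zero θ.2)
      nlinarith
    rw [CharInd.indFun_apply_one, ht, ht1, Nat.cast_one, mul_one]
  have hXdeg : ∀ φ ∈ Xf, ∀ a : ℕ, φ 1 = ((K.index * p ^ a : ℕ) : ℂ) → a ≠ 0 := by
    intro φ hφ a ha h0
    subst h0
    obtain ⟨hφU, hφZ⟩ := Finset.mem_sdiff.1 hφ
    obtain ⟨θ, hθ, rfl⟩ := (mem_seqFinset K).1 hφU
    rw [CharInd.indFun_apply_one, pow_zero, mul_one] at ha
    have hidx : (K.index : ℂ) ≠ 0 := Nat.cast_ne_zero.2 Subgroup.index_ne_zero_of_finite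
    have h1 : (θ : K → ℂ) 1 = 1 := mul_left_cancel₀ hidx (by rw [ha, mul_one])
    obtain ⟨f, hf⟩ := CharCore.IsCharacter.exists_hom_of_degree_one (irr_isCharacter θ.2) h1
    refine hφZ ((mem_seqFinset K).2 ⟨θ, (mem_irrNP K).2 ⟨((mem_irrNP K).1 hθ).1, ?_⟩, rfl⟩)
    intro b hb
    have hle : H₁ ≤ f.ker.map K.subtype := Subgroup.commutator_le.2 fun x hx y hy =>
      ⟨⁅(⟨x, hx⟩ : K), ⟨y, hy⟩⁆, by
        show f _ = 1
        rw [map_commutatorElement, commutatorElement_def, mul_comm (f ⟨x, hx⟩)]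
        group, by simp [commutatorElement_def]⟩
    obtain ⟨b', hb', hbe⟩ := hle (hZH₁ hb)
    obtain rfl : b' = b := Subtype.ext hbe
    rw [hf]
    simp [MonoidHom.mem_ker.1 hb']
  -- the bottom piece
  obtain ⟨θ₀, hθ₀, -⟩ := exists_linear K hsolv H₁ (fun h => hH₁K.not_ge h)
  obtain ⟨η₁, hη₁⟩ : ∃ η, η ∈ Yf := ⟨_, (mem_seqFinset K).2 ⟨θ₀, hθ₀, rfl⟩⟩
  obtain ⟨-, τ₂, hτ₂, hag₂⟩ : IsCoherent (↑Yf : Set (L → ℂ)) {1}ᶜ τ :=
    S1517.result _ τ R (sys_subset hS (by rw [hYset]; exact seq_subset_bot K H₁) ⟨η₁, hη₁⟩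
      (fun χ h => hYc χ h))
      (fun φ hφ ψ hψ => by rw [hYdeg φ hφ, hYdeg ψ hψ])
  rw [← hXset] at hτ₁ hag₁
  have hXne : Xf.Nonempty := by
    by_contra h
    have h' : ∀ φ ∈ U, φ ∈ seqFinset K Z := fun φ hφ => by
      by_contra hz
      exact h ⟨φ, Finset.mem_sdiff.2 ⟨hφ, hz⟩⟩
    have h1 := sum_seq K Z
    have h2 := sum_seq K (⊥ : Subgroup L)
    have he : seqFinset K Z = U := Finset.Subset.antisymm (by
      rw [← Finset.coe_subset, coe_seqFinset, hU]; exact seq_subset_bot K Z) h'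
    rw [sum_irrNP] at h1 h2
    rw [he] at h1
    have h3 := h1.symm.trans h2
    have hi0 : (K.index : ℝ) ≠ 0 := Nat.cast_ne_zero.2 Subgroup.index_ne_zero_of_finite
    have h4 : Z.relIndex K = (⊥ : Subgroup L).relIndex K := by
      have := mul_left_cancel₀ hi0 h3
      exact_mod_cast (sub_left_inj.1 this)
    have h5 := Subgroup.relIndex_mul_relIndex ⊥ Z K bot_le hZK
    rw [← h4, Subgroup.relIndex_bot_left] at h5
    have h6 : Nat.card Z = 1 :=
      Nat.eq_one_of_mul_eq_one_right (m := Nat.card Z) (n := 1) (by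
        rw [mul_one]
        exact Nat.eq_of_mul_eq_mul_right (Nat.pos_of_ne_zero Subgroup.index_ne_zero_of_finite)
          (h5.trans (one_mul _).symm))
    exact hZ1 (Subgroup.card_eq_one.1 h6)
  -- `ξ₁` of least degree in `Xf`
  have hdeg' : ∀ φ, ∃ a : ℕ, φ ∈ U → φ 1 = ((K.index * p ^ a : ℕ) : ℂ) := fun φ => by
    by_cases h : φ ∈ U
    · exact (hdeg φ h).imp fun a ha _ => ha
    · exact ⟨0, fun h' => absurd h' h⟩
  choose a ha using hdeg'
  obtain ⟨ξ₁, hξ₁, hmin⟩ := Finset.exists_min_image Xf a hXne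
  set d : ℕ := p ^ a ξ₁ with hd_def
  have hd2 : 2 ≤ d := le_trans hpp.two_le
    (Nat.le_self_pow (hXdeg ξ₁ hξ₁ _ (ha _ (hXU hξ₁))) p)
  set θ₁ : L → ℂ := ξ₁ - (d : ℤ) • η₁ with hθ₁
  have hθ₁1 : θ₁ 1 = 0 := by
    simp [hθ₁, ha _ (hXU hξ₁), hYdeg η₁ hη₁, hd_def]
    ring
  have hθ₁mem : θ₁ ∈ zspanOn (inducedIrrAbove K ⊥) ({1}ᶜ : Set L) :=
    mem_zspanOn_one.2 ⟨zspan_sub (zspan_subset (hmemU (hXU hξ₁)))
      (zspan_zsmul _ (zspan_subset (hmemU (hYU hη₁)))), hθ₁1⟩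
  obtain ⟨hτiso, hτ1⟩ : IsLinearIsometryOn (zspanOn (inducedIrrAbove K ⊥) ({1}ᶜ : Set L)) τ ∧
      ∀ α ∈ zspanOn (inducedIrrAbove K ⊥) ({1}ᶜ : Set L), τ α 1 = 0 :=
    ⟨hS.isometry, hS.map_one⟩
  have horthXY : ∀ ξ ∈ Xf, ∀ η ∈ Yf, classInner (τ₁ ξ) (τ₂ η) = 0 := by
    have hX2 : ∃ x ∈ (↑Xf : Set (L → ℂ)), ∃ y ∈ (↑Xf : Set (L → ℂ)), x ≠ y :=
      ⟨ξ₁, hξ₁, conjFun ξ₁, hXc ξ₁ hξ₁, (hne ξ₁ (hXU hξ₁)).symm⟩
    have hY2 : ∃ x ∈ (↑Yf : Set (L → ℂ)), ∃ y ∈ (↑Yf : Set (L → ℂ)), x ≠ y :=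
      ⟨η₁, hη₁, conjFun η₁, hYc η₁ hη₁, (hne η₁ (hYU hη₁)).symm⟩
    exact (S1531.result L _ ↑Xf ↑Yf hirr (by rw [← hU]; exact Finset.coe_subset.2 hXU)
      (by rw [← hU]; exact Finset.coe_subset.2 hYU) (Finset.disjoint_coe.2 hXYd) hX2 hY2 τ hτiso
      hτ1 τ₁ τ₂ hτ₁ hag₁ hτ₂ hag₂).1
  have hin : ∀ φ ∈ U, ∀ ψ ∈ U, classInner φ ψ = if φ = ψ then 1 else 0 := by
    intro φ hφ ψ hψ
    split_ifs with h
    · rw [h, irr_inner_self (hirr ψ (hmemU hψ))]
    · exact irr_inner_ne (hirr φ (hmemU hφ)) (hirr ψ (hmemU hψ)) h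
  have hinXY : ∀ ξ ∈ Xf, ∀ η ∈ Yf, classInner ξ η = 0 := fun ξ h η h' => by
    rw [hin ξ (hXU h) η (hYU h'), if_neg (fun e : ξ = η => Finset.disjoint_left.1 hXYd h (by rw [e]; exact h'))]
  -- multiples in `Xf`
  have hm : ∀ ξ ∈ Xf, ∃ m : ℕ, a ξ₁ ≤ a ξ ∧ p ^ a ξ = m * d ∧
      (ξ - (m : ℤ) • ξ₁) ∈ zspanOn (↑Xf : Set (L → ℂ)) {1}ᶜ := by
    intro ξ hξ
    have hle := hmin ξ hξ
    refine ⟨p ^ (a ξ - a ξ₁), hle, by rw [hd_def, ← pow_add, Nat.sub_add_cancel hle], ?_⟩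
    refine mem_zspanOn_one.2 ⟨zspan_sub (zspan_subset hξ) (zspan_zsmul _ (zspan_subset hξ₁)), ?_⟩
    simp only [Pi.sub_apply, Pi.mul_apply, Pi.intCast_apply, ha _ (hXU hξ), ha _ (hXU hξ₁),
      zsmul_eq_mul]
    rw [show p ^ a ξ = p ^ (a ξ - a ξ₁) * p ^ a ξ₁ by rw [← pow_add, Nat.sub_add_cancel hle]]
    push_cast
    ring
  -- the values of `τ θ₁` against `τ₂`
  set β : G → ℂ := τ θ₁
  have hτgen : ∀ η ∈ Yf, IsGeneralizedCharacter G (τ₂ η) :=
    fun η h => hτ₂.2.2.2 _ (zspan_subset h)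
  obtain ⟨c₀, hc₀⟩ := inner_gen_int (hτiso.2.2.2 _ hθ₁mem) (hτgen η₁ hη₁)
  set c : ℤ := c₀ + d with hcdef
  have hβη : ∀ η ∈ Yf, classInner β (τ₂ η) = ((c : ℂ) - if η = η₁ then (d : ℂ) else 0) := by
    intro η hη
    have hmem : η - η₁ ∈ zspanOn (↑Yf : Set (L → ℂ)) {1}ᶜ :=
      mem_zspanOn_one.2 ⟨zspan_sub (zspan_subset hη) (zspan_subset hη₁),
        by simp [hYdeg η hη, hYdeg η₁ hη₁]⟩
    have h1 : classInner β (τ₂ (η - η₁)) = classInner θ₁ (η - η₁) := by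
      rw [hag₂ _ hmem]
      refine hτiso.2.2.1 _ hθ₁mem _ ?_
      exact zspanOn_mono (by rw [← hU]; exact Finset.coe_subset.2 hYU) _ hmem
    rw [iso_map_sub hτ₂ (zspan_subset hη) (zspan_subset hη₁) (zspan_neg (zspan_subset hη₁)),
      inner_sub_right, hc₀, hθ₁, inner_sub_left, inner_sub_right, inner_sub_right,
      inner_zsmul_left, inner_zsmul_left, hinXY _ hξ₁ _ hη, hinXY _ hξ₁ _ hη₁,
      hin _ (hYU hη₁) _ (hYU hη), hin _ (hYU hη₁) _ (hYU hη₁), if_pos rfl,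
      sub_eq_iff_eq_add] at h1
    rw [h1, hcdef]
    by_cases e : η = η₁
    · rw [if_pos e.symm, if_pos e]; push_cast; ring
    · rw [if_neg (Ne.symm e), if_neg e]; push_cast; ring
  have hβn : normSqFn β = (d : ℝ) ^ 2 + 1 := by
    apply Complex.ofReal_injective
    rw [← inner_self, hτiso.2.2.1 _ hθ₁mem _ hθ₁mem, hθ₁, inner_sub_left, inner_sub_right,
      inner_sub_right, inner_zsmul_left, inner_zsmul_left, inner_zsmul_right, inner_zsmul_right,
      ← inner_conj_symm ξ₁ η₁, hinXY _ hξ₁ _ hη₁, hin _ (hXU hξ₁) _ (hXU hξ₁),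
      hin _ (hYU hη₁) _ (hYU hη₁), if_pos rfl, if_pos rfl]
    push_cast
    simp
    ring
  have hbessel : ∑ η ∈ Yf, ((c : ℝ) - if η = η₁ then (d : ℝ) else 0) ^ 2 ≤ (d : ℝ) ^ 2 + 1 := by
    have h := bessel (ξ := β) Yf τ₂ (fun _ => 1) (fun η => (c : ℝ) - if η = η₁ then (d : ℝ) else 0)
      (fun _ _ => one_ne_zero)
      (fun η h => by
        rw [hτ₂.2.2.1 _ (zspan_subset h) _ (zspan_subset h), hin _ (hYU h) _ (hYU h), if_pos rfl]
        simp)
      (fun η h η' h' hne' => by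
        rw [hτ₂.2.2.1 _ (zspan_subset h) _ (zspan_subset h'), hin _ (hYU h) _ (hYU h'),
          if_neg hne'])
      (fun η h => by rw [hβη η h]; split_ifs <;> simp)
    rw [← hβn, h]
    simp only [div_one]
    exact le_add_of_nonneg_left (normSqFn_nonneg _)
  -- the congruence: `d` divides `c`
  have hdc : (d : ℤ) ∣ c := by
    set f : L → ℂ := fun x => τ₂ η₁ (x : G) with hfdef
    obtain ⟨u, w, hu, hw, huw⟩ := hτgen η₁ hη₁
    have hGcl : IsClassFunction G (τ₂ η₁) := fun g h => by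
      simp only [huw, Pi.sub_apply]
      rw [CharInd.isClassFunction_of_isCharacter hu g h,
        CharInd.isClassFunction_of_isCharacter hw g h]
    have hfgen : IsGeneralizedCharacter L f :=
      ⟨_, _, CharCore.isCharacter_restrict hu L, CharCore.isCharacter_restrict hw L, by
        funext x; simp [hfdef, huw]⟩
    have hfcl : IsClassFunction L f := fun g h => by
      simp only [hfdef, Subgroup.coe_mul, InvMemClass.coe_inv]
      exact hGcl _ _
    have hrec : ∀ α : L → ℂ, classInner (τ α) (τ₂ η₁) = classInner α f := fun α =>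
      CharInd.classInner_indFun_left L α hGcl
    obtain ⟨b₁, hb₁⟩ := inner_gen_int (irr_gen (hirr η₁ (hmemU (hYU hη₁)))) hfgen
    have hXval : ∀ ξ ∈ Xf, classInner f ξ =
        ξ 1 / (K.index * d : ℕ) * ((c : ℂ) - d + d * b₁) := by
      intro ξ hξ
      obtain ⟨m, -, hmd, hmem⟩ := hm ξ hξ
      have h1 : classInner (ξ - (m : ℤ) • ξ₁) f = 0 := by
        rw [← hrec, ← hag₁ _ hmem,
          iso_map_sub hτ₁ (zspan_subset hξ) (zspan_zsmul _ (zspan_subset hξ₁))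
            (zspan_neg (zspan_zsmul _ (zspan_subset hξ₁))), hτ₁.2.1 _ (zspan_subset hξ₁),
          inner_sub_left, inner_zsmul_left, horthXY ξ hξ η₁ hη₁, horthXY ξ₁ hξ₁ η₁ hη₁,
          mul_zero, sub_zero]
      have h2 : classInner θ₁ f = (c : ℂ) - d := by rw [← hrec, hβη η₁ hη₁, if_pos rfl]
      rw [hθ₁, inner_sub_left, inner_zsmul_left, hb₁] at h2
      rw [inner_sub_left, inner_zsmul_left, sub_eq_zero] at h1
      have h3 : classInner ξ f = (m : ℂ) * ((c : ℂ) - d + d * b₁) := by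
        rw [h1]; push_cast at h2 ⊢; linear_combination (m : ℂ) * h2
      have hval : ξ 1 / (K.index * d : ℕ) = (m : ℂ) := by
        rw [ha _ (hXU hξ), hmd, div_eq_iff (Nat.cast_ne_zero.2
          (Nat.mul_ne_zero Subgroup.index_ne_zero_of_finite (by omega)))]
        push_cast; ring
      rw [← inner_conj_symm, h3, hval]
      simp
    have hval : ∀ z ∈ Z, z ≠ 1 → f z - f 1 =
        -(((c : ℂ) - d + d * b₁) / d * Nat.card H) := by
      intro z hz hz1
      rw [apply_sub_apply_one hfcl z]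
      have hzero : ∀ χ : IrrCharacter L, (χ : L → ℂ) ∉ Xf →
          (χ : L → ℂ) z - (χ : L → ℂ) 1 = 0 := by
        intro χ hχ
        rw [sub_eq_zero]
        by_contra hne'
        apply hχ
        rw [← Finset.mem_coe, hXset, hpart]
        exact ⟨χ.2, z, hz, hne'⟩
      have hterm : ∀ χ : IrrCharacter L,
          classInner f χ * ((χ : L → ℂ) z - (χ : L → ℂ) 1) =
          ((c : ℂ) - d + d * b₁) / (K.index * d : ℕ) *
            ((χ : L → ℂ) 1 * (χ : L → ℂ) z - (χ : L → ℂ) 1 * (χ : L → ℂ) 1) := by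
        intro χ
        by_cases h : (χ : L → ℂ) ∈ Xf
        · rw [hXval _ h]; ring
        · rw [← mul_sub, hzero χ h]; ring
      have hz' : z ≠ (1 : L) := hz1
      rw [Finset.sum_congr rfl fun χ _ => hterm χ, ← Finset.mul_sum, Finset.sum_sub_distrib,
        CharCore.sum_degree_mul_apply, CharCore.sum_degree_mul_apply, if_neg hz', if_pos rfl,
        ← K.index_mul_card, hcardK]
      have he0 : (K.index : ℂ) ≠ 0 := Nat.cast_ne_zero.2 Subgroup.index_ne_zero_of_finite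
      have hd0 : (d : ℂ) ≠ 0 := Nat.cast_ne_zero.2 (by omega)
      push_cast
      field_simp
      ring
    -- apply the congruence in `G`
    obtain ⟨P, hP⟩ := sylow_of_kernel H L p hp hH1 hHL hC hN
    obtain ⟨ε, hε, hψ⟩ : ∃ ε : ℂ, (ε = 1 ∨ ε = -1) ∧ IsIrrCharacter G (ε • τ₂ η₁) := by
      rcases gen_norm_one (hτgen η₁ hη₁) (by
        rw [hτ₂.2.2.1 _ (zspan_subset hη₁) _ (zspan_subset hη₁),
          irr_inner_self (hirr η₁ (hmemU (hYU hη₁)))]) with h | h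
      · exact ⟨1, Or.inl rfl, by rwa [one_smul]⟩
      · exact ⟨-1, Or.inr rfl, by rwa [neg_one_smul]⟩
    set ZG : Subgroup G := Z.map L.subtype with hZG
    have hZGmem : ∀ g ∈ ZG, ∃ z ∈ Z, (z : G) = g := fun g hg => hg
    have hnorm : Subgroup.normalizer ((P : Subgroup G) : Set G) = L := by rw [hP, hN]
    obtain ⟨z₀, hz₀, hz₀1⟩ := (Subgroup.bot_or_exists_ne_one Z).resolve_left hZ1
    have hconst : ∀ z ∈ ZG, ∀ z' ∈ ZG, z ≠ 1 → z' ≠ 1 →
        (ε • τ₂ η₁) z = (ε • τ₂ η₁) z' := by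
      intro g hg g' hg' h1 h1'
      obtain ⟨z, hz, rfl⟩ := hZGmem g hg
      obtain ⟨z', hz', rfl⟩ := hZGmem g' hg'
      have e1 := hval z hz fun e => h1 (by rw [e]; rfl)
      have e2 := hval z' hz' fun e => h1' (by rw [e]; rfl)
      have : f z = f z' := by linear_combination e1 - e2
      simp only [Pi.smul_apply, smul_eq_mul]
      exact congrArg (ε * ·) this
    have hcent : ∀ g ∈ ZG, g ≠ 1 →
        Subgroup.normalizer ((P : Subgroup G) : Set G) ⊓ Subgroup.centralizer ({g} : Set G) = H := by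
      intro g hg hg1
      obtain ⟨z, hz, rfl⟩ := hZGmem g hg
      rw [hnorm]
      ext x
      constructor
      · rintro ⟨hxL, hx⟩
        have hz1 : z ≠ 1 := fun e => hg1 (by rw [e]; rfl)
        exact Subgroup.mem_subgroupOf.1 (hC z (hZK hz) hz1 (x := ⟨x, hxL⟩)
          (Subgroup.mem_centralizer_singleton_iff.2
            (Subtype.ext (Subgroup.mem_centralizer_singleton_iff.1 hx))))
      · intro hx
        refine ⟨hHL hx, Subgroup.mem_centralizer_singleton_iff.2 ?_⟩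
        exact (congrArg Subtype.val (hZc z hz ⟨x, hHL hx⟩ (Subgroup.mem_subgroupOf.2 hx))).symm
    have hzg : (z₀ : G) ∈ ZG := ⟨z₀, hz₀, rfl⟩
    have hzg1 : (z₀ : G) ≠ 1 := fun e => hz₀1 (Subtype.ext e)
    obtain ⟨n, dd, hn, hdd, hdvd⟩ := S1523.result p P (by rw [hP]; exact hTI)
      (by rw [hnorm]; exact hodd) ZG (fun e => hzg1 (Subgroup.mem_bot.1 (e ▸ hzg)))
      (by
        intro g hg
        obtain ⟨z, hz, rfl⟩ := hZGmem g hg
        rw [hP]
        exact Subgroup.mem_subgroupOf.1 (hZK hz))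
      (by
        intro x hx g hg
        obtain ⟨z, hz, rfl⟩ := hZGmem g hg
        rw [hnorm] at hx
        exact ⟨_, Subgroup.Normal.conj_mem ‹Z.Normal› z hz ⟨x, hx⟩, rfl⟩)
      (by
        intro g hg y hy
        obtain ⟨z, hz, rfl⟩ := hZGmem g hg
        rw [hP] at hy
        exact congrArg Subtype.val (hZc z hz ⟨y, hHL hy⟩ (Subgroup.mem_subgroupOf.2 hy)))
      (fun g hg g' hg' h1 h1' => by rw [hcent g hg h1, hcent g' hg' h1'])
      (ε • τ₂ η₁) hψ hconst z₀ hzg hzg1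
    rw [hP] at hdvd
    obtain ⟨q, hq⟩ := hdvd
    have hv := hval z₀ hz₀ hz₀1
    simp only [Pi.smul_apply, smul_eq_mul] at hn hdd
    have hd0 : (d : ℂ) ≠ 0 := Nat.cast_ne_zero.2 (by omega)
    have hH0 : (Nat.card H : ℂ) ≠ 0 := Nat.cast_ne_zero.2 Nat.card_pos.ne'
    have hqC : ((dd - n : ℤ) : ℂ) = (Nat.card H : ℂ) * q := by rw [hq]; push_cast; ring
    have key : (ε * (((c : ℂ) - d + d * b₁))) = (d : ℂ) * q := by
      have hf0 : f z₀ = τ₂ η₁ (z₀ : G) := rfl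
      have hf1 : f 1 = τ₂ η₁ 1 := rfl
      rw [hf0, hf1] at hv
      push_cast [← hdd, ← hn] at hqC
      field_simp at hv
      refine mul_left_cancel₀ hH0 ?_
      linear_combination (d : ℂ) * hqC + ε * hv
    rcases hε with rfl | rfl
    · refine ⟨q + 1 - b₁, ?_⟩
      rw [one_mul] at key
      have : (c : ℂ) = ((d * (q + 1 - b₁) : ℤ) : ℂ) := by push_cast; linear_combination key
      exact_mod_cast this
    · refine ⟨-q + 1 - b₁, ?_⟩
      have : (c : ℂ) = ((d * (-q + 1 - b₁) : ℤ) : ℂ) := by push_cast; linear_combination -key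
      exact_mod_cast this
  -- adjust the isometry on `Yf` so that `c = 0`
  obtain ⟨τ₃, hτ₃, hag₃, hβ₃, horth₃⟩ : ∃ τ₃ : (L → ℂ) → (G → ℂ),
      IsLinearIsometryOn (zspan (↑Yf : Set (L → ℂ))) τ₃ ∧
      (∀ α ∈ zspanOn (↑Yf : Set (L → ℂ)) {1}ᶜ, τ₃ α = τ α) ∧
      (∀ η ∈ Yf, classInner β (τ₃ η) = -if η = η₁ then (d : ℂ) else 0) ∧
      ∀ ξ ∈ Xf, ∀ η ∈ Yf, classInner (τ₁ ξ) (τ₃ η) = 0 := by
    obtain ⟨j, hj⟩ := hdc
    have hsum : ∑ η ∈ Yf, ((c : ℝ) - if η = η₁ then (d : ℝ) else 0) ^ 2 =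
        (Yf.card : ℝ) * (c : ℝ) ^ 2 - 2 * d * c + (d : ℝ) ^ 2 := by
      have hexp : ∀ η, ((c : ℝ) - if η = η₁ then (d : ℝ) else 0) ^ 2 =
          (c : ℝ) ^ 2 + if η = η₁ then (d : ℝ) ^ 2 - 2 * d * c else 0 := fun η => by
        split_ifs <;> ring
      simp only [hexp, Finset.sum_add_distrib, Finset.sum_const, nsmul_eq_mul,
        Finset.sum_ite_eq', hη₁, if_true]
      ring
    rw [hsum, hj] at hbessel
    have hn2 : 2 ≤ Yf.card := by
      rw [← Finset.card_pair (hne η₁ (hYU hη₁)).symm]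
      exact Finset.card_le_card
        (Finset.insert_subset hη₁ (Finset.singleton_subset_iff.2 (hYc η₁ hη₁)))
    have hint : (d : ℤ) ^ 2 * ((Yf.card : ℤ) * j ^ 2 - 2 * j) ≤ 1 := by
      have h' : ((d : ℝ) ^ 2 * ((Yf.card : ℝ) * (j : ℝ) ^ 2 - 2 * j)) ≤ 1 := by
        push_cast at hbessel
        nlinarith
      exact_mod_cast h'
    have hd4 : (4 : ℤ) ≤ (d : ℤ) ^ 2 := by
      have : (2 : ℤ) ≤ d := by exact_mod_cast hd2
      nlinarith
    have hle0 : (Yf.card : ℤ) * j ^ 2 - 2 * j ≤ 0 := by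
      by_contra h
      push Not at h
      nlinarith
    have hj01 : j = 0 ∨ (j = 1 ∧ Yf.card = 2) := by
      have hn2' : (2 : ℤ) ≤ Yf.card := by exact_mod_cast hn2
      have hj2 : j = 0 ∨ j = 1 := by
        rcases lt_trichotomy j 0 with h | h | h
        · nlinarith
        · exact Or.inl h
        · right; nlinarith
      rcases hj2 with rfl | rfl
      · exact Or.inl rfl
      · exact Or.inr ⟨rfl, by omega⟩
    rcases hj01 with rfl | ⟨rfl, h2⟩
    · exact ⟨τ₂, hτ₂, hag₂, fun η h => by rw [hβη η h, hj]; simp, horthXY⟩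
    · obtain ⟨τ', h1, h1', h1''⟩ := flip_two (fun η h => hirr η (hmemU (hYU h))) hYc
        (fun η h => hne η (hYU h)) h2 hτ₂ hag₂
      refine ⟨τ', h1, h1', fun η h => ?_, fun ξ hξ η h => by
        rw [h1'' η h, inner_neg_right, horthXY ξ hξ _ (hYc η h), neg_zero]⟩
      rw [h1'' η h, inner_neg_right, hβη _ (hYc η h), hj]
      have hY2 : Yf = {η₁, conjFun η₁} := (Finset.eq_of_subset_of_card_le
        (Finset.insert_subset hη₁ (Finset.singleton_subset_iff.2 (hYc η₁ hη₁)))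
        (by rw [h2, Finset.card_pair (hne η₁ (hYU hη₁)).symm])).symm
      rw [hY2, Finset.mem_insert, Finset.mem_singleton] at h
      rcases h with rfl | rfl
      · rw [if_neg (hne η (hYU hη₁)), if_pos rfl]; simp
      · rw [conjFun_conjFun, if_pos rfl, if_neg (hne η₁ (hYU hη₁))]; simp
  -- `Xf ∪ Yf` is coherent
  have hcoh₀ : IsCoherent (↑(Xf ∪ Yf) : Set (L → ℂ)) {1}ᶜ τ := by
    have hsub : (↑(Xf ∪ Yf) : Set (L → ℂ)) ⊆ inducedIrrAbove K ⊥ := by
      rw [← hU]; exact Finset.coe_subset.2 (Finset.union_subset hXU hYU)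
    refine coherent_extend (Finset.subset_union_right)
      (fun φ h => irr_ne_zero (hirr φ (hsub h)))
      (fun φ h ψ h' hne' => irr_inner_ne (hirr φ (hsub h)) (hirr ψ (hsub h')) hne')
      (by
        have hm' := zspanOn_mono hsub ({1}ᶜ : Set L)
        exact ⟨fun x hx y hy => hτiso.1 x (hm' hx) y (hm' hy),
          fun x hx => hτiso.2.1 x (hm' hx),
          fun x hx y hy => hτiso.2.2.1 x (hm' hx) y (hm' hy),
          fun x hx => hτiso.2.2.2 x (hm' hx)⟩)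
      hτ₃ hag₃ hη₁ ?_ ?_
    · intro ξ hξ hξY
      have hξX : ξ ∈ Xf := (Finset.mem_union.1 hξ).resolve_right hξY
      obtain ⟨m, -, hmd, hmem⟩ := hm ξ hξX
      refine ⟨(m * d : ℕ), ?_, fun η hη => ?_⟩
      · simp [hYdeg η₁ hη₁, ha _ (hXU hξX), hmd]
        ring
      have hdec : ((m * d : ℕ) : ℤ) • η₁ - ξ =
          -((ξ - (m : ℤ) • ξ₁) + (m : ℤ) • θ₁) := by
        rw [hθ₁, smul_sub, smul_smul]; push_cast; abel
      have hmemS : ξ - (m : ℤ) • ξ₁ ∈ zspanOn (inducedIrrAbove K ⊥) ({1}ᶜ : Set L) :=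
        zspanOn_mono (by rw [← hU]; exact Finset.coe_subset.2 hXU) _ hmem
      have hz := zspanOn_add hmemS (zspanOn_zsmul (m : ℤ) hθ₁mem)
      rw [hdec, iso_map_neg hτiso hz, hτiso.1 _ hmemS _ (zspanOn_zsmul _ hθ₁mem),
        hτiso.2.1 _ hθ₁mem, ← hag₁ _ hmem,
        iso_map_sub hτ₁ (zspan_subset hξX) (zspan_zsmul _ (zspan_subset hξ₁))
          (zspan_neg (zspan_zsmul _ (zspan_subset hξ₁))), hτ₁.2.1 _ (zspan_subset hξ₁),
        inner_neg_left, inner_add_left, inner_sub_left, inner_zsmul_left, inner_zsmul_left,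
        horth₃ ξ hξX η hη, horth₃ ξ₁ hξ₁ η hη, hβ₃ η hη, ← hdec, inner_sub_left, inner_zsmul_left,
        hinXY ξ hξX η hη, hin _ (hYU hη₁) _ (hYU hη)]
      by_cases e : η = η₁
      · rw [if_pos e, if_pos e.symm]; push_cast; ring
      · rw [if_neg e, if_neg (Ne.symm e)]; ring
    · exact sys_nonzero hS hsub (χ := η₁) (Finset.mem_union_right _ hη₁)
        (Finset.mem_union_right _ (hYc η₁ hη₁))
  -- grow to everything
  rw [← hU]
  refine coherent_grow hS hU.subset hUc (Finset.union_subset hXU hYU) (fun φ h => by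
    rcases Finset.mem_union.1 h with h | h
    · exact Finset.mem_union_left _ (hXc φ h)
    · exact Finset.mem_union_right _ (hYc φ h)) hcoh₀ ?_
  intro T hT₀ hTU hTc hTne
  obtain ⟨χ, hχU, hχT⟩ : ∃ χ ∈ U, χ ∉ T := by
    by_contra hall
    push Not at hall
    exact hTne (Finset.Subset.antisymm hTU hall)
  have hχX : χ ∉ Xf := fun h => hχT (hT₀ (Finset.mem_union_left _ h))
  have hχY : χ ∉ Yf := fun h => hχT (hT₀ (Finset.mem_union_right _ h))
  have hχZ : χ ∈ seqFinset K Z := by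
    by_contra h
    exact hχX (Finset.mem_sdiff.2 ⟨hχU, h⟩)
  obtain ⟨θ, hθ, rfl⟩ := (mem_seqFinset K).1 hχZ
  obtain ⟨t, ht, -⟩ := char_one_nat (irr_isCharacter θ.2)
  refine ⟨_, hχU, hχT, η₁, hT₀ (Finset.mem_union_right _ hη₁), t, ?_, ?_⟩
  · rw [CharInd.indFun_apply_one, ht, hYdeg η₁ hη₁]; ring
  set e := K.index
  set z := Nat.card Z
  set q := H₁.relIndex K
  set r := Z.relIndex H₁
  -- degree bound `t² ≤ [K : Z]`
  have ht2 : t ^ 2 * z ≤ Nat.card K := by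
    have hb := degree_bound θ.2 ⊥ (Z.subgroupOf K) ⊤ le_top
      (fun x hx y _ => by
        rw [Subgroup.mem_bot]
        refine Subtype.ext ?_
        have := hZc (x : L) (Subgroup.mem_subgroupOf.1 hx) y y.2
        show (x : L) * y * (x : L)⁻¹ * (y : L)⁻¹ = 1
        rw [this]; group)
      (fun b hb => by rw [Subgroup.mem_bot.1 hb])
    rw [ht, Complex.natCast_re, Nat.card_congr (Subgroup.topEquiv (G := K)).toEquiv,
      Nat.card_congr (Subgroup.subgroupOfEquivOfLe hZK).toEquiv] at hb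
    have hb' : t ^ 2 * Nat.card K * z ≤ Nat.card K ^ 2 := by exact_mod_cast hb
    refine Nat.le_of_mul_le_mul_right ?_ (Nat.card_pos : 0 < Nat.card K)
    calc t ^ 2 * z * Nat.card K = t ^ 2 * Nat.card K * z := by ring
      _ ≤ Nat.card K ^ 2 := hb'
      _ = Nat.card K * Nat.card K := sq _
  have hK : Nat.card K = z * r * q := by
    have h1 := Subgroup.relIndex_mul_relIndex ⊥ Z H₁ bot_le hZH₁
    have h2 := Subgroup.relIndex_mul_relIndex ⊥ H₁ K bot_le hH₁K.le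
    rw [Subgroup.relIndex_bot_left, Subgroup.relIndex_bot_left] at h1 h2
    rw [← h2, ← h1]
  have hzr : Nat.card H₁ = z * r := by
    have h1 := Subgroup.relIndex_mul_relIndex ⊥ Z H₁ bot_le hZH₁
    rwa [Subgroup.relIndex_bot_left, Subgroup.relIndex_bot_left, eq_comm] at h1
  have hz2 : 2 ≤ z := by
    haveI := (Subgroup.nontrivial_iff_ne_bot Z).2 hZ1
    exact Finite.one_lt_card
  have hr1 : 1 < r := by
    have h0 : r ≠ 0 := Subgroup.index_ne_zero_of_finite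
    have h1 : r ≠ 1 := fun hr => hχY <| by
      refine (mem_seqFinset K).2 ⟨θ, (mem_irrNP K).2 ⟨((mem_irrNP K).1 hθ).1, fun b hb => ?_⟩, rfl⟩
      exact ((mem_irrNP K).1 hθ).2 b (Subgroup.relIndex_eq_one.1 hr hb)
    omega
  have hq1 : 1 < q := by
    have h0 : q ≠ 0 := Subgroup.index_ne_zero_of_finite
    have h1 : q ≠ 1 := fun hq => hH₁K.not_ge (Subgroup.relIndex_eq_one.1 hq)
    omega
  have he0 : 0 < e := Nat.pos_of_ne_zero Subgroup.index_ne_zero_of_finite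
  have hdvd : ∀ {a b : ℕ}, 1 ≤ a → 1 ≤ b → e ∣ a * b - 1 → e ∣ a - 1 → e ∣ b - 1 := by
    intro a b ha1 hb1 hab ha
    have : a * b - 1 = (a - 1) * b + (b - 1) := by
      obtain ⟨a', rfl⟩ : ∃ a', a = a' + 1 := ⟨a - 1, by omega⟩
      simp only [Nat.add_sub_cancel, add_mul, one_mul]
      omega
    rw [this] at hab
    exact (Nat.dvd_add_right (Dvd.dvd.mul_right ha b)).1 hab
  have her : e ∣ r - 1 := hdvd (by omega) hr1.le
    (hzr ▸ index_dvd_card_sub_one_of_le K hC H₁ hH₁K.le)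
    (index_dvd_card_sub_one_of_le K hC Z hZK)
  have heq : e ∣ q - 1 := hdvd (a := z * r) (Nat.mul_pos (by omega) (by omega)) hq1.le
    (hK ▸ index_dvd_card_sub_one_of_le K hC K le_rfl)
    (hzr ▸ index_dvd_card_sub_one_of_le K hC H₁ hH₁K.le)
  have hoddL : ∀ n, n ∣ Nat.card L → Odd n := fun n h => hodd.of_dvd_nat h
  have hrel : ∀ A B : Subgroup L, A.relIndex B ∣ Nat.card L := fun A B =>
    ((A.subgroupOf B).index_dvd_card).trans B.card_subgroup_dvd_card
  have hqr : 4 * e ^ 2 + 1 < r * q := sq_lt_mul (hoddL _ K.index_dvd_card) (hoddL _ (hrel _ _))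
    (hoddL _ (hrel _ _)) hr1 hq1 her heq
  -- the weight
  refine lt_of_lt_of_le ?_ (weight_mono hT₀)
  have hwY : weight Yf = (e : ℝ) * ((q : ℝ) - 1) := by
    rw [weight, hYdef, sum_seq, sum_irrNP]
  have hwU : weight U = (e : ℝ) * ((Nat.card K : ℝ) - 1) := by
    rw [weight, hUdef, sum_seq, sum_irrNP, Subgroup.relIndex_bot_left]
  have hwZ : weight (seqFinset K Z) = (e : ℝ) * ((Z.relIndex K : ℝ) - 1) := by
    rw [weight, sum_seq, sum_irrNP]
  have hZU : seqFinset K Z ⊆ U := by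
    rw [← Finset.coe_subset, coe_seqFinset, hU]; exact seq_subset_bot K Z
  have hw : weight (Xf ∪ Yf) = (e : ℝ) * ((Nat.card K : ℝ) - Z.relIndex K + q - 1) := by
    have h1 : weight U = weight Xf + weight (seqFinset K Z) := by
      rw [weight, weight, weight, hXdef, Finset.sum_sdiff hZU]
    have h2 : weight (Xf ∪ Yf) = weight Xf + weight Yf := Finset.sum_union hXYd
    rw [h2, hwY]
    linear_combination hwU - h1 - hwZ
  have hZrel : Z.relIndex K = r * q := (Subgroup.relIndex_mul_relIndex Z H₁ K hZH₁ hH₁K.le).symm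
  rw [hw, ind_one_re, ht, Complex.natCast_re, hYdeg η₁ hη₁, Complex.natCast_re, hZrel, hK]
  have ht3 : t ^ 2 ≤ r * q := by
    rw [hK, mul_assoc z r q, mul_comm (t ^ 2) z] at ht2
    exact Nat.le_of_mul_le_mul_left ht2 (by omega)
  have hlt : 2 * e * t < r * q := by
    by_contra hnot
    push Not at hnot
    have h1 : (r * q) ^ 2 ≤ (2 * e * t) ^ 2 := Nat.pow_le_pow_left hnot 2
    have h2 : (2 * e * t) ^ 2 ≤ 4 * e ^ 2 * (r * q) := by
      calc (2 * e * t) ^ 2 = 4 * e ^ 2 * t ^ 2 := by ring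
        _ ≤ _ := Nat.mul_le_mul_left _ ht3
    nlinarith
  have hlt' : (2 * e * t : ℝ) < r * q := by exact_mod_cast hlt
  have hz2' : (2 : ℝ) ≤ z := by exact_mod_cast hz2
  have hq1' : (1 : ℝ) ≤ q := by exact_mod_cast hq1.le
  have he0' : (0 : ℝ) < e := by exact_mod_cast he0
  push_cast
  nlinarith [mul_le_mul_of_nonneg_right hz2' (by positivity : (0 : ℝ) ≤ r * q)]

end Core

end Cfsg.Agent.Coherence
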