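import Cfsg.Agent.Coherence.Sibley
import Cfsg.Agent.S1521
import Cfsg.Agent.S1529
import Cfsg.Agent.S0033

/-!
# Coherence for TI Frobenius kernels, in terms of centralisers
-/

set_option autoImplicit false

namespace Cfsg.Agent.Coherence

/-- A Frobenius kernel is nilpotent (Thompson). -/
theorem kernel_nilpotent {L : Type*} [Group L] [Finite L] (K : Subgroup L) [hK : K.Normal]
    (hK1 : K ≠ ⊥) (hKT : K ≠ ⊤)
    (hC : ∀ n ∈ K, n ≠ 1 → Subgroup.centralizer ({n} : Set L) ≤ K) : Group.IsNilpotent K := by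
  have hidx : K.index ≠ 1 := fun h => hKT (Subgroup.index_eq_one.1 h)
  set q := K.index.minFac
  haveI hq : Fact q.Prime := ⟨Nat.minFac_prime hidx⟩
  have hqi : q ∣ K.index := Nat.minFac_dvd _
  obtain ⟨x, hx⟩ := exists_prime_orderOf_dvd_card' (G := L) q (hqi.trans K.index_dvd_card)
  have hnd : ¬ q ∣ Nat.card K := fun h => by
    have h1 : q ∣ Nat.card K - 1 := hqi.trans (index_dvd_card_sub_one_of_le K hC K le_rfl)
    have hpos : 0 < Nat.card K := Nat.card_pos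
    have := Nat.dvd_sub h h1
    rw [Nat.sub_sub_self hpos] at this
    exact hq.out.not_dvd_one this
  have hxK : x ∉ K := fun h => hnd (by
    rw [← hx, ← Subgroup.orderOf_mk x h]
    exact orderOf_dvd_natCard _)
  set φ : K ≃* K := MulAut.conjNormal x with hφ
  have hpow : ∀ (i : ℕ) (k : K),
      (((MulAut.conjNormal x : MulAut K) ^ i) k : L) = x ^ i * k * (x ^ i)⁻¹ := fun i k => by
    rw [← map_pow, MulAut.conjNormal_apply]
  have hfpf : MonoidHom.FixedPointFree (φ : K →* K) := by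
    intro k hk
    by_contra hne
    have hk' : x * (k : L) * x⁻¹ = k := by
      rw [← MulAut.conjNormal_apply]
      exact congrArg Subtype.val hk
    exact hxK (hC k k.2 (fun e => hne (Subtype.ext e))
      (Subgroup.mem_centralizer_singleton_iff.2 (mul_inv_eq_iff_eq_mul.1 hk')))
  refine S0033.result φ hfpf q hq.out (orderOf_eq_prime ?_ ?_)
  · refine MulEquiv.ext fun k => Subtype.ext ?_
    rw [hφ, hpow, ← hx, pow_orderOf_eq_one]
    simp
  · intro e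
    haveI := (Subgroup.nontrivial_iff_ne_bot K).2 hK1
    obtain ⟨k, hk⟩ := exists_ne (1 : K)
    exact hk (hfpf k (by
      show φ k = k
      rw [e]
      rfl))

/-- Sibley's theorem for a TI Frobenius kernel in odd order. -/
theorem sibley_ti {G : Type*} [Group G] [Fintype G] (H L : Subgroup G) [Fintype L]
    [(H.subgroupOf L).Normal] (hodd : Odd (Nat.card L)) (hHL : H ≤ L) (hH1 : H ≠ ⊥)
    (hKT : H.subgroupOf L < ⊤)
    (hC : ∀ n ∈ H.subgroupOf L, n ≠ 1 → Subgroup.centralizer ({n} : Set L) ≤ H.subgroupOf L)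
    (hTI : IsTISubset (H : Set G)) (hN : Subgroup.normalizer (H : Set G) = L) :
    IsCoherent (inducedIrrAbove (H.subgroupOf L) ⊥) {1}ᶜ (fun α => indFun L α) := by
  classical
  haveI := Fintype.ofFinite (H.subgroupOf L)
  set K := H.subgroupOf L with hKdef
  have hK1 : K ≠ ⊥ := by
    rw [Ne, hKdef, Subgroup.subgroupOf_eq_bot, disjoint_iff, inf_eq_left.2 hHL]
    exact hH1
  haveI hnilK : Group.IsNilpotent K := kernel_nilpotent K hK1 hKT.ne hC
  have hsolv : Group.IsSolvable K := inferInstance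
  obtain ⟨hiso, hone⟩ := ti_isometry H L hTI hN (inducedIrrAbove K ⊥)
    (fun φ h => gen_of_char (seq_isCharacter K h))
    (by
      rintro φ ⟨θ, -, -, -, rfl⟩ x hx
      exact OddChar.indFun_eq_zero_of_notMem K θ fun h => hx (Subgroup.mem_subgroupOf.1 h))
  obtain ⟨θ₀, hθ₀, -⟩ := exists_linear K hsolv ⊥ (fun h => hK1 (le_bot_iff.1 h))
  obtain ⟨R, hS⟩ := S1514.result (inducedIrrAbove K ⊥)
    ⟨_, (mem_seq_iff K).2 ⟨θ₀, hθ₀, rfl⟩⟩ (fun χ h => frob_seq_irr K hC h)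
    (fun χ h => ⟨seq_conj K h, frob_seq_conj_ne K hodd hKT.ne hC h⟩)
    (fun α => indFun L α) hiso hone
  haveI : (⁅K, K⁆).Normal := Subgroup.commutator_normal K K
  have hlt := frob_commutator_lt K hK1
  have hfrob : ∀ k ∈ K, k ∉ ⁅K, K⁆ ⊔ (⊥ : Subgroup L) → ∀ x : L,
      x * k * x⁻¹ * k⁻¹ ∈ ⁅K, K⁆ ⊔ (⊥ : Subgroup L) → x ∈ K := by
    rw [sup_bot_eq]
    exact fun k hk hk1 x hx => frob_quot K hC ⁅K, K⁆ hlt.le hk hk1 x hx
  haveI : ((⊥ : Subgroup L).subgroupOf K).Normal := Subgroup.normal_subgroupOf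
  have hnilq : Group.IsNilpotent (↥K ⧸ (⊥ : Subgroup L).subgroupOf K) :=
    nilpotent_of_surjective (QuotientGroup.mk' _) (QuotientGroup.mk'_surjective _)
  have use21 := fun hgood => S1521.result K hsolv (fun α => indFun L α) R hS hodd ⊥ bot_le hnilq
    (⁅K, K⁆ ⊔ ⊥) rfl (by rw [sup_bot_eq]; exact hlt) hKT hfrob hgood
  by_cases hna : ⁅K, K⁆ = ⊥
  · exact use21 (Or.inr (Or.inr (Or.inr (Or.inl (le_bot_iff.2 hna)))))
  by_cases hpp : ∃ p m : ℕ, p.Prime ∧ (⊥ : Subgroup L).relIndex K = p ^ m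
  · obtain ⟨p, m, hp, hm⟩ := hpp
    haveI : Fact p.Prime := ⟨hp⟩
    rw [Subgroup.relIndex_bot_left, hKdef,
      Nat.card_congr (Subgroup.subgroupOfEquivOfLe hHL).toEquiv] at hm
    exact sibley_pgroup hodd hHL hH1 hKT hC hTI hN (IsPGroup.of_card hm) hna hS
  · exact use21 (Or.inr (Or.inr (Or.inl hpp)))

/-- The exceptional characters attached to a TI Frobenius kernel. -/
theorem exceptional_exists {G : Type*} [Group G] [Fintype G] (H L : Subgroup G) [Fintype L]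
    [(H.subgroupOf L).Normal] (hodd : Odd (Nat.card L)) (hHL : H ≤ L) (hH1 : H ≠ ⊥)
    (hKT : H.subgroupOf L < ⊤)
    (hC : ∀ n ∈ H.subgroupOf L, n ≠ 1 → Subgroup.centralizer ({n} : Set L) ≤ H.subgroupOf L)
    (hTI : IsTISubset (H : Set G)) (hN : Subgroup.normalizer (H : Set G) = L) :
    ∃ (τ₁ : (L → ℂ) → (G → ℂ)) (ε : ℂ),
      IsLinearIsometryOn (zspan (inducedIrrAbove (H.subgroupOf L) ⊥)) τ₁ ∧
      (∀ α ∈ zspanOn (inducedIrrAbove (H.subgroupOf L) ⊥) ({1}ᶜ : Set L),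
        τ₁ α = indFun L α) ∧ (ε = 1 ∨ ε = -1) ∧
      (∀ φ ∈ inducedIrrAbove (H.subgroupOf L) ⊥, IsIrrCharacter G (ε • τ₁ φ)) ∧
      (∀ φ ∈ inducedIrrAbove (H.subgroupOf L) ⊥, ∀ ψ ∈ inducedIrrAbove (H.subgroupOf L) ⊥,
        τ₁ φ = τ₁ ψ → φ = ψ) := by
  classical
  obtain ⟨-, τ₁, hτ₁, hag⟩ := sibley_ti H L hodd hHL hH1 hKT hC hTI hN
  set K := H.subgroupOf L with hKdef
  have hK1 : K ≠ ⊥ := by
    rw [Ne, hKdef, Subgroup.subgroupOf_eq_bot, disjoint_iff, inf_eq_left.2 hHL]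
    exact hH1
  haveI := kernel_nilpotent K hK1 hKT.ne hC
  obtain ⟨θ₀, hθ₀, -⟩ := exists_linear K inferInstance (⊥ : Subgroup L)
    (fun h => hK1 (le_bot_iff.1 h))
  have hmem := (mem_seq_iff K).2 ⟨θ₀, hθ₀, rfl⟩
  obtain ⟨ε, hε, hirr, hinj⟩ := S1529.result L (inducedIrrAbove K ⊥)
    (fun φ h => frob_seq_irr K hC h)
    ⟨_, hmem, _, seq_conj K hmem, (frob_seq_conj_ne K hodd hKT.ne hC hmem).symm⟩ τ₁ hτ₁
    (fun α hα h1 => by
      rw [hag α (mem_zspanOn_one.2 ⟨hα, h1⟩)]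
      show indFun L α 1 = 0
      rw [CharInd.indFun_apply_one, h1, mul_zero])
  exact ⟨τ₁, ε, hτ₁, hag, hε, hirr, hinj⟩

end Cfsg.Agent.Coherence
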